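import Groth.Agent.GrLib.Positive

/-!
Complexes with torsion homology built from linear elements (iterated cones, i.e. Koszul complexes)
and the diagonal vanishing argument for graded local cohomology.
-/

set_option autoImplicit false
set_option linter.unusedSectionVars false
set_option linter.unusedVariables false
set_option linter.style.haveILetI false

universe u

open DirectSum

namespace Groth.Agent.GrLib

variable {R : Type u} [CommRing R] {σ : Type u} [SetLike σ R] [AddSubgroupClass σ R]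
  {𝒜 : ℤ → σ} [GradedRing 𝒜]
variable {M : Type u} [AddCommGroup M] [Module R M] {τ : Type u} [SetLike τ M] [AddSubgroupClass τ M]
  {ℳ : ℤ → τ} [Decomposition ℳ] [SetLike.GradedSMul 𝒜 ℳ]

/-- A graded chain complex. -/
structure GCx (𝒜 : ℤ → σ) [GradedRing 𝒜] where
  /-- the terms -/
  X : ℕ → GrLC.GMod.{u} 𝒜
  /-- the differentials -/
  d : ∀ p, (X (p + 1)).carrier →ₗ[R] (X p).carrier
  grHom : ∀ p, GrLC.IsGrHom (X (p + 1)).gr (X p).gr (d p)
  dd : ∀ p x, d p (d (p + 1) x) = 0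

variable (𝒜 ℳ) in
/-- A module as a complex concentrated in degree zero. -/
noncomputable def GCx.single : GCx 𝒜 where
  X := fun p => match p with
    | 0 => shiftGMod 𝒜 ℳ 0
    | _ + 1 => subGMod 𝒜 ℳ ⊥ (isHomogeneous_bot ℳ)
  d := fun p => 0
  grHom := fun p k x hx => zero_mem _
  dd := fun p x => rfl

section cone

variable (C : GCx 𝒜) {y : R} (hy : y ∈ 𝒜 1)

/-- The terms of the cone. -/
noncomputable def GCx.coneX : ℕ → GrLC.GMod.{u} 𝒜
  | 0 => C.X 0
  | p + 1 =>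
    { carrier := (C.X (p + 1)).carrier × (C.X p).carrier
      gr := prodGr (C.X (p + 1)).gr (shiftGr (C.X p).gr (-1))
      dec := letI := shiftDecomp (C.X p).gr (-1); prodDecomp _ _ }

variable (y) in
/-- The differentials of the cone. -/
noncomputable def GCx.coneD : ∀ p, (C.coneX (p + 1)).carrier →ₗ[R] (C.coneX p).carrier
  | 0 => C.d 0 ∘ₗ LinearMap.fst R (C.X 1).carrier (C.X 0).carrier +
      (y • LinearMap.id) ∘ₗ LinearMap.snd R (C.X 1).carrier (C.X 0).carrier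
  | p + 1 => (C.d (p + 1) ∘ₗ LinearMap.fst R (C.X (p + 2)).carrier (C.X (p + 1)).carrier +
      (y • LinearMap.id) ∘ₗ LinearMap.snd R (C.X (p + 2)).carrier (C.X (p + 1)).carrier).prod
      (-(C.d p ∘ₗ LinearMap.snd R (C.X (p + 2)).carrier (C.X (p + 1)).carrier))

include hy in
theorem GCx.coneD_grHom : ∀ p, GrLC.IsGrHom (C.coneX (p + 1)).gr (C.coneX p).gr (C.coneD y p)
  | 0 => fun k x hx => by
    refine add_mem (C.grHom 0 k _ hx.1) ?_
    have := smul_mem (ℳ := (C.X 0).gr) hy (show x.2 ∈ (C.X 0).gr (k + -1) from hx.2)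
    rwa [show (1 : ℤ) + (k + -1) = k by ring] at this
  | p + 1 => fun k x hx => by
    refine ⟨add_mem (C.grHom (p + 1) k _ hx.1) ?_, AddSubgroup.neg_mem (shiftGr (C.X p).gr (-1) k) (C.grHom p (k + -1) _ hx.2)⟩
    have := smul_mem (ℳ := (C.X (p + 1)).gr) hy (show x.2 ∈ (C.X (p + 1)).gr (k + -1) from hx.2)
    rwa [show (1 : ℤ) + (k + -1) = k by ring] at this

theorem GCx.cone_dd : ∀ p x, C.coneD y p (C.coneD y (p + 1) x) = 0
  | 0, x => by
    show C.d 0 (C.d 1 x.1 + y • x.2) + y • (-(C.d 0 x.2)) = 0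
    rw [map_add, C.dd, map_smul, zero_add, smul_neg, add_neg_cancel]
  | p + 1, x => by
    refine Prod.ext ?_ ?_
    · show C.d (p + 1) (C.d (p + 2) x.1 + y • x.2) + y • (-(C.d (p + 1) x.2)) = 0
      rw [map_add, C.dd, map_smul, zero_add, smul_neg, add_neg_cancel]
    · show -(C.d p (-(C.d (p + 1) x.2))) = 0
      rw [map_neg, C.dd, neg_zero, neg_zero]

include hy in
/-- The cone of multiplication by `y`. -/
noncomputable def GCx.cone : GCx 𝒜 where
  X := C.coneX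
  d := C.coneD y
  grHom := C.coneD_grHom hy
  dd := C.cone_dd

end cone

/-- The homology is killed by powers of `y`. -/
def GCx.Kills (C : GCx 𝒜) (y : R) : Prop :=
  (∀ z, ∃ k : ℕ, y ^ k • z ∈ LinearMap.range (C.d 0)) ∧
    ∀ p z, C.d p z = 0 → ∃ k : ℕ, y ^ k • z ∈ LinearMap.range (C.d (p + 1))

theorem GCx.kills_cone_self (C : GCx 𝒜) {y : R} (hy : y ∈ 𝒜 1) : (C.cone hy).Kills y := by
  refine ⟨fun (z : (C.X 0).carrier) => ⟨1, ⟨((0 : (C.X 1).carrier), z), ?_⟩⟩, fun p z hz => ⟨1, ?_⟩⟩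
  · show C.d 0 0 + y • z = y ^ 1 • z
    rw [map_zero, zero_add, pow_one]
  · obtain ⟨u, v⟩ := z
    refine ⟨((0 : (C.X (p + 2)).carrier), u), Prod.ext ?_ ?_⟩
    · show C.d (p + 1) 0 + y • u = y ^ 1 • u
      rw [map_zero, zero_add, pow_one]
    · show -(C.d p u) = y ^ 1 • v
      rw [pow_one, neg_eq_iff_add_eq_zero]
      cases p with
      | zero => exact hz
      | succ p => exact congrArg Prod.fst hz

theorem GCx.kills_cone (C : GCx 𝒜) {y w : R} (hy : y ∈ 𝒜 1) (h : C.Kills w) : (C.cone hy).Kills w := by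
  refine ⟨fun z => ?_, fun p z hz => ?_⟩
  · obtain ⟨k, u, hu⟩ := h.1 z
    refine ⟨k, (u, (0 : (C.X 0).carrier)), ?_⟩
    show C.d 0 u + y • 0 = w ^ k • z
    rw [smul_zero, add_zero]
    exact hu
  obtain ⟨u, v⟩ := z
  have h1 : C.d p u + y • v = 0 := by
    cases p with
    | zero => exact hz
    | succ p => exact congrArg Prod.fst hz
  obtain ⟨k, v', hv'⟩ : ∃ k : ℕ, w ^ k • v ∈ LinearMap.range (C.d p) := by
    cases p with
    | zero => exact h.1 v
    | succ p => exact h.2 p v (neg_eq_zero.1 (congrArg Prod.snd hz))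
  have hw : C.d p (w ^ k • u + y • v') = 0 := by
    rw [map_add, map_smul, map_smul, hv', smul_comm y, ← smul_add, h1, smul_zero]
  obtain ⟨l, u', hu'⟩ := h.2 p _ hw
  refine ⟨l + k, (u', -(w ^ l • v')), Prod.ext ?_ ?_⟩
  · show C.d (p + 1) u' + y • (-(w ^ l • v')) = w ^ (l + k) • u
    rw [hu', smul_neg, smul_add, smul_comm y, pow_add, mul_smul]
    abel
  · show -(C.d p (-(w ^ l • v'))) = w ^ (l + k) • v
    rw [map_neg, neg_neg, map_smul, hv', pow_add, mul_smul]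

/-- The pieces of the cohomology of the terms vanish as prescribed. -/
def GCx.Bounded (C : GCx 𝒜) (a : HomogeneousIdeal 𝒜) (V : ℕ → ℤ → Prop) : Prop :=
  ∀ (p i : ℕ) (n : ℤ), V i (n - p) → ∀ E : GrLC.StarInjRes 𝒜 (C.X p).gr, ∀ x ∈ E.Hgr a i n, x = 0

variable (a : HomogeneousIdeal 𝒜)

theorem Hgr_eq_zero_of_subsingleton [Subsingleton M] (E : GrLC.StarInjRes 𝒜 ℳ) (i : ℕ) (n : ℤ)
    (x : E.H a i) : x = 0 := by
  have hid : GrLC.IsGrHomDeg ℳ ℳ (LinearMap.id : M →ₗ[R] M) 0 := grHomDeg_zero_iff.2 fun _ _ h => h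
  have h0 : GrLC.IsGrHomDeg ℳ ℳ (0 : M →ₗ[R] M) 0 := fun _ _ _ => zero_mem _
  have h1 : mapH E E a hid i = mapH E E a h0 i := mapH_congr a (Subsingleton.elim _ _) rfl _ _ i
  rw [mapH_id, mapH_eq a h0
    { u := fun n => 0
      deg := fun n k x hx => zero_mem _
      comm₀ := fun m => (map_zero E.ε).symm
      comm := fun n x => (map_zero (E.d n)).symm }] at h1
  have := LinearMap.congr_fun h1 x
  obtain ⟨z, rfl⟩ := toH_surjective a i x
  exact this.trans ((toH_eq_zero a).2 (zero_mem _))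

theorem Hgr_eq_zero_of_shift {d : ℤ} (i : ℕ) (n : ℤ)
    (hM : ∀ E : GrLC.StarInjRes 𝒜 ℳ, ∀ x ∈ E.Hgr a i (n + d), x = 0) :
    letI := shiftDecomp ℳ d
    ∀ E : GrLC.StarInjRes 𝒜 (shiftGr ℳ d), ∀ x ∈ E.Hgr a i n, x = 0 := by
  letI := shiftDecomp ℳ d
  intro E x hx
  have := hM (starRes 𝒜 ℳ) _ (compEquiv_mem a (shiftRes (starRes 𝒜 ℳ) d) i hx)
  exact (LinearEquiv.map_eq_zero_iff _).1 this

theorem Hgr_eq_zero_of_prod {N : Type u} [AddCommGroup N] [Module R N] {τ' : Type u} [SetLike τ' N]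
    [AddSubgroupClass τ' N] {𝒩 : ℤ → τ'} [Decomposition 𝒩] [SetLike.GradedSMul 𝒜 𝒩] (i : ℕ) (n : ℤ)
    (hM : ∀ E : GrLC.StarInjRes 𝒜 ℳ, ∀ x ∈ E.Hgr a i n, x = 0)
    (hN : ∀ E : GrLC.StarInjRes 𝒜 𝒩, ∀ x ∈ E.Hgr a i n, x = 0) :
    letI := prodDecomp ℳ 𝒩
    ∀ E : GrLC.StarInjRes 𝒜 (prodGr ℳ 𝒩), ∀ x ∈ E.Hgr a i n, x = 0 := by
  letI := prodDecomp ℳ 𝒩
  intro E
  obtain ⟨δ, -, -, hex⟩ := exists_les (starRes 𝒜 ℳ) (starRes 𝒜 𝒩) E a (f := LinearMap.inl R M N)
    (g := LinearMap.snd R M N) (fun k x hx => ⟨hx, zero_mem _⟩) LinearMap.inl_injective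
    (fun k x hx => hx.2) LinearMap.snd_surjective Function.Exact.inl_snd
  letI := Hdecomp (starRes 𝒜 ℳ) a i
  letI := Hdecomp E a i
  letI := Hdecomp (starRes 𝒜 𝒩) a i
  exact eq_zero_of_exact (mapH_grHomDeg a _ i) (mapH_grHomDeg a _ i) (hex i).1 n n n (add_zero n)
    (add_zero n) (hM _) (hN _)

theorem GCx.bounded_single (V : ℕ → ℤ → Prop)
    (hV : ∀ (i : ℕ) n, V i n → ∀ E : GrLC.StarInjRes 𝒜 ℳ, ∀ x ∈ E.Hgr a i n, x = 0) :
    (GCx.single 𝒜 ℳ).Bounded a V := by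
  intro p i n h
  cases p with
  | zero =>
    refine Hgr_eq_zero_of_shift (ℳ := ℳ) (d := 0) a i n ?_
    rw [add_zero]
    exact hV i n (by simpa using h)
  | succ p =>
    intro E x _
    haveI : Subsingleton ((GCx.single 𝒜 ℳ).X (p + 1)).carrier :=
      inferInstanceAs (Subsingleton (⊥ : Submodule R M))
    exact Hgr_eq_zero_of_subsingleton a E i n x

theorem GCx.bounded_cone {C : GCx 𝒜} {y : R} (hy : y ∈ 𝒜 1) {V : ℕ → ℤ → Prop} (h : C.Bounded a V) :
    (C.cone hy).Bounded a V := by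
  intro p i n hV
  cases p with
  | zero => exact h 0 i n hV
  | succ p =>
    letI := shiftDecomp (C.X p).gr (-1)
    refine Hgr_eq_zero_of_prod a i n (h (p + 1) i n hV) (Hgr_eq_zero_of_shift a i n (h p i (n + -1) ?_))
    rwa [show n + -1 - (p : ℤ) = n - ((p + 1 : ℕ) : ℤ) by push_cast; ring]

theorem exists_koszul (L : List R) (hL : ∀ y ∈ L, y ∈ 𝒜 1) (V : ℕ → ℤ → Prop)
    (hV : ∀ (i : ℕ) n, V i n → ∀ E : GrLC.StarInjRes 𝒜 ℳ, ∀ x ∈ E.Hgr a i n, x = 0) :
    ∃ (C : GCx 𝒜) (e : M ≃ₗ[R] (C.X 0).carrier),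
      GrLC.IsGrHom ℳ (C.X 0).gr e.toLinearMap ∧ (∀ y ∈ L, C.Kills y) ∧
      (∀ p, L.length < p → Subsingleton (C.X p).carrier) ∧
      (∀ n, ∀ x ∈ (C.X 0).gr n, x ∈ LinearMap.range (C.d 0) →
        e.symm x ∈ Submodule.span R {m : M | m ∈ ℳ (n - 1)}) ∧
      C.Bounded a V := by
  induction L with
  | nil =>
    refine ⟨GCx.single 𝒜 ℳ, LinearEquiv.refl R M, fun k x hx => ?_, by simp, fun p hp => ?_,
      fun n x hx hr => ?_, GCx.bounded_single a V hV⟩
    · show x ∈ shiftGr ℳ 0 k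
      rw [mem_shiftGr, add_zero]
      exact hx
    · obtain ⟨p, rfl⟩ : ∃ q, p = q + 1 := ⟨p - 1, by simp at hp; omega⟩
      exact inferInstanceAs (Subsingleton (⊥ : Submodule R M))
    · obtain ⟨w, hw⟩ := hr
      have : x = 0 := hw.symm
      rw [this, map_zero]
      exact zero_mem _
  | cons y L ih =>
    obtain ⟨C, e, he, hk, htop, hspan, hb⟩ := ih fun w hw => hL w (List.mem_cons_of_mem y hw)
    have hy := hL y List.mem_cons_self
    refine ⟨C.cone hy, e, he, fun w hw => ?_, fun p hp => ?_, fun n (x : (C.X 0).carrier) hx hr => ?_,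
      GCx.bounded_cone a hy hb⟩
    · rcases List.mem_cons.1 hw with rfl | hw
      · exact C.kills_cone_self hy
      · exact GCx.kills_cone C hy (hk w hw)
    · obtain ⟨q, rfl⟩ : ∃ q, p = q + 1 := ⟨p - 1, by omega⟩
      haveI := htop (q + 1) (by simp at hp; omega)
      haveI := htop q (by simp at hp; omega)
      exact inferInstanceAs (Subsingleton ((C.X (q + 1)).carrier × (C.X q).carrier))
    · obtain ⟨w, hw, hwx⟩ := exists_preimage (grHomDeg_zero_iff.2 ((C.cone hy).grHom 0)) (g := n)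
        (by rw [add_zero]; exact hx) hr
      have hw1 : w.1 ∈ (C.X 1).gr n := hw.1
      have hw2 : w.2 ∈ (C.X 0).gr (n + -1) := hw.2
      have hx' : C.d 0 w.1 + y • w.2 = x := hwx
      have hkey : e.symm x = e.symm (C.d 0 w.1) + y • e.symm w.2 :=
        (congrArg e.symm hx').symm.trans ((e.symm.map_add _ _).trans (congrArg _ (e.symm.map_smul y w.2)))
      refine Set.mem_of_eq_of_mem hkey ?_
      refine add_mem (hspan n _ (C.grHom 0 n _ hw1) ⟨_, rfl⟩) (Submodule.smul_mem _ _ (Submodule.subset_span ?_))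
      show e.symm w.2 ∈ ℳ (n - 1)
      have h2 := proj_map (𝒩 := (C.X 0).gr) he (n - 1) (e.symm w.2)
      rw [LinearEquiv.coe_coe, e.apply_symm_apply, proj_of_mem (by rw [sub_eq_add_neg]; exact hw2)] at h2
      have h3 := congrArg e.symm h2
      rw [e.symm_apply_apply] at h3
      rw [h3]
      exact proj_mem ℳ _ _

variable [IsNoetherianRing R]

theorem Hgr_eq_zero_of_torsion (E : GrLC.StarInjRes 𝒜 ℳ)
    (ht : ∀ m : M, ∃ k : ℕ, ∀ r ∈ a.toIdeal ^ k, r • m = 0) {i : ℕ} (hi : 0 < i) (x : E.H a i) : x = 0 := by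
  obtain ⟨e⟩ := nonempty_H_equiv E a i
  haveI := LocCoh.subsingleton_H_of_powerTorsion (I := a.toIdeal) i M ht hi
  haveI := e.toEquiv.subsingleton
  exact Subsingleton.elim _ _

theorem exists_pow_mem_of_kills {gens : List R} (hgen : a.toIdeal = Ideal.span {y | y ∈ gens})
    {X : Type u} [AddCommGroup X] [Module R X] (B : Submodule R X) (z : X)
    (h : ∀ y ∈ gens, ∃ k : ℕ, y ^ k • z ∈ B) : ∃ k : ℕ, ∀ r ∈ a.toIdeal ^ k, r • z ∈ B := by
  obtain ⟨k, hk⟩ := Ideal.exists_pow_le_of_le_radical_of_fg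
    (J := (B.comap (LinearMap.toSpanSingleton R X z) : Submodule R R)) (I := a.toIdeal) (by
      rw [hgen, Ideal.span_le]
      intro y hy
      obtain ⟨j, hj⟩ := h y hy
      exact ⟨j, hj⟩) (IsNoetherian.noetherian _)
  exact ⟨k, fun r hr => hk hr⟩

/-- Vanishing for the boundaries. -/
theorem GCx.chain {gens : List R} (hgen : a.toIdeal = Ideal.span {y | y ∈ gens}) (C : GCx 𝒜)
    (hk : ∀ y ∈ gens, C.Kills y) {L : ℕ} (htop : ∀ p, L < p → Subsingleton (C.X p).carrier) (n : ℤ) :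
    ∀ (k p : ℕ), L ≤ p + k → ∀ i : ℕ, 0 < i →
      (∀ q, ∀ E : GrLC.StarInjRes 𝒜 (C.X (p + q + 1)).gr, ∀ x ∈ E.Hgr a (i + q) n, x = 0) →
      letI := subDecomp (C.X p).gr (isHomogeneous_range (C.grHom p))
      ∀ E : GrLC.StarInjRes 𝒜 (subGr (C.X p).gr (LinearMap.range (C.d p))), ∀ x ∈ E.Hgr a i n, x = 0 := by
  intro k
  induction k with
  | zero =>
    intro p hp i hi hyp
    letI := subDecomp (C.X p).gr (isHomogeneous_range (C.grHom p))
    intro E x hx
    haveI := htop (p + 1) (by omega)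
    haveI : Subsingleton (LinearMap.range (C.d p)) := ⟨fun u v => by
      obtain ⟨u, w, rfl⟩ := u
      obtain ⟨v, w', rfl⟩ := v
      exact Subtype.ext (congrArg (C.d p) (Subsingleton.elim w w'))⟩
    exact Hgr_eq_zero_of_subsingleton a E i n x
  | succ k ih =>
    intro p hp i hi hyp
    letI := subDecomp (C.X p).gr (isHomogeneous_range (C.grHom p))
    intro E
    letI := subDecomp (C.X (p + 1)).gr (isHomogeneous_ker (C.grHom p))
    letI := subDecomp (C.X (p + 1)).gr (isHomogeneous_range (C.grHom (p + 1)))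
    let EZ := starRes 𝒜 (subGr (C.X (p + 1)).gr (LinearMap.ker (C.d p)))
    obtain ⟨δ, hδ, -, hex⟩ := exists_les EZ E (starRes 𝒜 (C.X (p + 1)).gr) a
      (f := (LinearMap.ker (C.d p)).subtype) (g := (C.d p).rangeRestrict) (subtype_grHom _)
      Subtype.coe_injective (fun k x hx => C.grHom p k x hx) (C.d p).surjective_rangeRestrict
      (fun x => ⟨fun h => ⟨⟨x, congrArg Subtype.val h⟩, rfl⟩, fun ⟨w, hw⟩ => hw ▸ Subtype.ext w.2⟩)
    let ι₁ : LinearMap.range (C.d (p + 1)) →ₗ[R] LinearMap.ker (C.d p) :=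
      Submodule.inclusion (by rintro _ ⟨w, rfl⟩; exact C.dd p w)
    have hι : GrLC.IsGrHom (subGr (C.X (p + 1)).gr (LinearMap.range (C.d (p + 1))))
        (subGr (C.X (p + 1)).gr (LinearMap.ker (C.d p))) ι₁ := fun k x hx => hx
    letI := qDecomp (subGr (C.X (p + 1)).gr (LinearMap.ker (C.d p))) (isHomogeneous_range hι)
    let EH := starRes 𝒜 (qGr (subGr (C.X (p + 1)).gr (LinearMap.ker (C.d p))) (LinearMap.range ι₁))
    obtain ⟨δ', -, -, hex'⟩ := exists_les (starRes 𝒜 (subGr (C.X (p + 1)).gr (LinearMap.range (C.d (p + 1)))))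
      EH EZ a (f := ι₁) (g := (LinearMap.range ι₁).mkQ) hι (Submodule.inclusion_injective _) (mkQ_grHom _)
      (Submodule.mkQ_surjective _) (LinearMap.exact_map_mkQ_range _)
    letI := Hdecomp (starRes 𝒜 (subGr (C.X (p + 1)).gr (LinearMap.range (C.d (p + 1))))) a (i + 1)
    letI := Hdecomp EZ a (i + 1)
    letI := Hdecomp EH a (i + 1)
    letI := Hdecomp E a i
    letI := Hdecomp (starRes 𝒜 (C.X (p + 1)).gr) a i
    refine eq_zero_of_exact (mapH_grHomDeg a _ i) (grHomDeg_zero_iff.2 (hδ i)) (hex i).2.1 n n n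
      (add_zero n) (add_zero n) (hyp 0 _) ?_
    refine eq_zero_of_exact (mapH_grHomDeg a _ (i + 1)) (mapH_grHomDeg a _ (i + 1)) (hex' (i + 1)).1 n n n
      (add_zero n) (add_zero n) (ih (p + 1) (by omega) (i + 1) (Nat.succ_pos i) (fun q => ?_) _)
      fun x _ => Hgr_eq_zero_of_torsion a EH (fun m => ?_) (Nat.succ_pos i) x
    · have := hyp (q + 1)
      rwa [show p + (q + 1) + 1 = p + 1 + q + 1 by omega, show i + (q + 1) = i + 1 + q by omega] at this
    · obtain ⟨z, rfl⟩ := Submodule.Quotient.mk_surjective _ m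
      obtain ⟨j, hj⟩ := exists_pow_mem_of_kills a hgen (LinearMap.range (C.d (p + 1))) z.1
        fun y hy => (hk y hy).2 p z.1 z.2
      exact ⟨j, fun r hr => by
        rw [← Submodule.Quotient.mk_smul, Submodule.Quotient.mk_eq_zero]
        exact ⟨⟨_, hj r hr⟩, rfl⟩⟩

/-- The cokernel of the first differential receives the cohomology of degree `i`. -/
theorem GCx.degree_zero {gens : List R} (hgen : a.toIdeal = Ideal.span {y | y ∈ gens}) (C : GCx 𝒜)
    (hk : ∀ y ∈ gens, C.Kills y) {L : ℕ} (htop : ∀ p, L < p → Subsingleton (C.X p).carrier) (n : ℤ)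
    {i : ℕ} (hi : 0 < i)
    (hyp : ∀ q, ∀ E : GrLC.StarInjRes 𝒜 (C.X (q + 1)).gr, ∀ x ∈ E.Hgr a (i + q) n, x = 0) :
    ∀ E : GrLC.StarInjRes 𝒜 (C.X 0).gr, ∀ x ∈ E.Hgr a i n, x = 0 := by
  intro E
  letI := subDecomp (C.X 0).gr (isHomogeneous_range (C.grHom 0))
  letI := qDecomp (C.X 0).gr (isHomogeneous_range (C.grHom 0))
  let E₀ := starRes 𝒜 (subGr (C.X 0).gr (LinearMap.range (C.d 0)))
  let EH := starRes 𝒜 (qGr (C.X 0).gr (LinearMap.range (C.d 0)))
  obtain ⟨δ, -, -, hex⟩ := exists_les E₀ EH E a (f := (LinearMap.range (C.d 0)).subtype)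
    (g := (LinearMap.range (C.d 0)).mkQ) (subtype_grHom _) Subtype.coe_injective (mkQ_grHom _)
    (Submodule.mkQ_surjective _) (LinearMap.exact_subtype_mkQ _)
  letI := Hdecomp E₀ a i
  letI := Hdecomp E a i
  letI := Hdecomp EH a i
  refine eq_zero_of_exact (mapH_grHomDeg a _ i) (mapH_grHomDeg a _ i) (hex i).1 n n n (add_zero n) (add_zero n)
    (C.chain a hgen hk htop n L 0 (by omega) i hi (fun q => by rw [Nat.zero_add]; exact hyp q) E₀)
    fun x _ => Hgr_eq_zero_of_torsion a EH (fun m => ?_) hi x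
  obtain ⟨z, rfl⟩ := Submodule.Quotient.mk_surjective _ m
  obtain ⟨j, hj⟩ := exists_pow_mem_of_kills a hgen (LinearMap.range (C.d 0)) z fun y hy => (hk y hy).1 z
  exact ⟨j, fun r hr => (Submodule.Quotient.mk_smul _ r z).symm.trans
    ((Submodule.Quotient.mk_eq_zero _).2 (hj r hr))⟩

/-- Degrees in which the cokernel of the first differential vanishes. -/
theorem GCx.mem_range {gens : List R} (hgen : a.toIdeal = Ideal.span {y | y ∈ gens}) (C : GCx 𝒜)
    (hk : ∀ y ∈ gens, C.Kills y) {L : ℕ} (htop : ∀ p, L < p → Subsingleton (C.X p).carrier) (n : ℤ)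
    (h0 : ∀ E : GrLC.StarInjRes 𝒜 (C.X 0).gr, ∀ x ∈ E.Hgr a 0 n, x = 0)
    (hyp : ∀ q, ∀ E : GrLC.StarInjRes 𝒜 (C.X (q + 1)).gr, ∀ x ∈ E.Hgr a (1 + q) n, x = 0) :
    ∀ x ∈ (C.X 0).gr n, x ∈ LinearMap.range (C.d 0) := by
  intro x hx
  letI := subDecomp (C.X 0).gr (isHomogeneous_range (C.grHom 0))
  letI := qDecomp (C.X 0).gr (isHomogeneous_range (C.grHom 0))
  let E₀ := starRes 𝒜 (subGr (C.X 0).gr (LinearMap.range (C.d 0)))
  let E := starRes 𝒜 (C.X 0).gr
  let EH := starRes 𝒜 (qGr (C.X 0).gr (LinearMap.range (C.d 0)))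
  obtain ⟨δ, hδ, -, hex⟩ := exists_les E₀ EH E a (f := (LinearMap.range (C.d 0)).subtype)
    (g := (LinearMap.range (C.d 0)).mkQ) (subtype_grHom _) Subtype.coe_injective (mkQ_grHom _)
    (Submodule.mkQ_surjective _) (LinearMap.exact_subtype_mkQ _)
  letI := Hdecomp E₀ a 1
  letI := Hdecomp E a 0
  letI := Hdecomp EH a 0
  obtain ⟨j, hj⟩ := exists_pow_mem_of_kills a hgen (LinearMap.range (C.d 0)) x fun y hy => (hk y hy).1 x
  have hc : EH.ε (Submodule.Quotient.mk x) ∈ EH.cocyc a 0 :=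
    ⟨⟨j, fun r hr => by rw [← map_smul, ← Submodule.Quotient.mk_smul,
      (Submodule.Quotient.mk_eq_zero _).2 (hj r hr), map_zero]⟩, d_comp_ε EH _⟩
  have h1 : EH.toH a 0 ⟨_, hc⟩ = 0 :=
    eq_zero_of_exact (mapH_grHomDeg a _ 0) (grHomDeg_zero_iff.2 (hδ 0)) (hex 0).2.1 n n n
      (add_zero n) (add_zero n) (h0 E)
      (C.chain a hgen hk htop n L 0 (by omega) 1 one_pos (fun q => by rw [Nat.zero_add]; exact hyp q) E₀) _
      ⟨⟨_, hc⟩, EH.ε_grHom n _ (mk_mem_qGr hx), rfl⟩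
  have h2 : EH.ε (Submodule.Quotient.mk x) = 0 := (Submodule.mem_bot R).1 ((toH_eq_zero a).1 h1)
  exact (Submodule.Quotient.mk_eq_zero _).1 (EH.ε_injective (h2.trans (map_zero _).symm))

end Groth.Agent.GrLib
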