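import Groth.Agent.GrLib.Step
import Groth.Prelude.Def_GrSyz
import Mathlib.RingTheory.MvPolynomial.Ideal
import Mathlib.RingTheory.Polynomial.Basic

/-!
Graded local cohomology of the polynomial ring.
-/

set_option autoImplicit false
set_option linter.unusedSectionVars false
set_option linter.unusedVariables false
set_option linter.style.haveILetI false

universe u

open DirectSum MvPolynomial

namespace Groth.Agent.GrLib

variable (k : Type u) [Field k] (m : ℕ)

local notation "S" => MvPolynomial (Fin m) k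

theorem X_mem_stdGr (j : Fin m) : (X j : S) ∈ GrSyz.stdGr k (Fin m) 1 := by
  rw [GrSyz.mem_stdGr_iff]
  exact isWeightedHomogeneous_X k _ j

theorem stdGr_eq_zero_of_neg (n : ℤ) (hn : n < 0) : ∀ p ∈ GrSyz.stdGr k (Fin m) n, p = 0 := by
  intro p hp
  rw [GrSyz.mem_stdGr_iff] at hp
  refine MvPolynomial.ext _ _ fun d => ?_
  rw [coeff_zero]
  by_contra h
  have := hp h
  have h2 : (0 : ℤ) ≤ Finsupp.weight (fun _ : Fin m => (1 : ℤ)) d := by
    rw [Finsupp.weight_apply]
    exact Finsupp.sum_nonneg fun i _ => by simp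
  omega

theorem irrel_eq : (GrSyz.irrel (GrSyz.stdGr k (Fin m))).toIdeal = Ideal.span (Set.range (X : Fin m → S)) := by
  refine le_antisymm (Ideal.span_le.2 ?_) (Ideal.span_le.2 ?_)
  · rintro p ⟨n, hn, hp⟩
    rw [GrSyz.mem_stdGr_iff] at hp
    rw [← Set.image_univ]
    refine (mem_ideal_span_X_image).2 fun d hd => ?_
    by_contra! h
    have hd0 : d = 0 := Finsupp.ext fun i => h i (Set.mem_univ i)
    have := hp (MvPolynomial.mem_support_iff.1 hd)
    rw [hd0, map_zero] at this
    omega
  · rintro _ ⟨j, rfl⟩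
    exact Ideal.subset_span ⟨1, one_pos, X_mem_stdGr k m j⟩

theorem irrel_eq_span_union : (GrSyz.irrel (GrSyz.stdGr k (Fin m))).toIdeal =
    Ideal.span (⋃ n ∈ Set.Ioi (0 : ℤ), (GrSyz.stdGr k (Fin m) n : Set S)) := by
  show Ideal.span _ = _
  congr 1
  ext p
  simp only [Set.mem_setOf_eq, Set.mem_iUnion, Set.mem_Ioi, exists_prop, SetLike.mem_coe]

/-- The ideal of the first `j` variables. -/
noncomputable def varIdeal (j : ℕ) : Ideal S := Ideal.span (X '' {i : Fin m | (i : ℕ) < j})

theorem isHomogeneous_varIdeal (j : ℕ) :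
    (varIdeal k m j : Submodule S S).IsHomogeneous (GrSyz.stdGr k (Fin m)) :=
  isHomogeneous_span (GrSyz.stdGr k (Fin m)) fun p hp => by
    obtain ⟨i, -, rfl⟩ := hp
    exact ⟨1, X_mem_stdGr k m i⟩

theorem isSMulRegular_X_mod (j : ℕ) (hj : j < m) :
    IsSMulRegular (S ⧸ (varIdeal k m j : Submodule S S)) (X (⟨j, hj⟩ : Fin m) : S) := by
  intro u v huv
  obtain ⟨p, rfl⟩ := Submodule.Quotient.mk_surjective _ u
  obtain ⟨q, rfl⟩ := Submodule.Quotient.mk_surjective _ v
  rw [Submodule.Quotient.eq]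
  replace huv : (X (⟨j, hj⟩ : Fin m) : S) • p - (X (⟨j, hj⟩ : Fin m) : S) • q ∈ varIdeal k m j :=
    (Submodule.Quotient.eq _).1 (by simpa only [← Submodule.Quotient.mk_smul] using huv)
  rw [← smul_sub, smul_eq_mul] at huv
  refine (mem_ideal_span_X_image).2 fun d hd => ?_
  have hd' : d + Finsupp.single (⟨j, hj⟩ : Fin m) 1 ∈ (X (⟨j, hj⟩ : Fin m) * (p - q) : S).support := by
    rw [support_X_mul]
    exact Finset.mem_map.2 ⟨d, hd, add_comm _ _⟩
  obtain ⟨i, hi, hne⟩ := (mem_ideal_span_X_image).1 huv _ hd'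
  refine ⟨i, hi, ?_⟩
  have hij : i ≠ ⟨j, hj⟩ := fun e => by
    have h' : (i : ℕ) < j := hi
    rw [e] at h'
    exact lt_irrefl j h'
  rwa [Finsupp.add_apply, Finsupp.single_eq_of_ne hij, add_zero] at hne

/-- Vanishing of the cohomology of the quotients by variables. -/
theorem Hgr_varQuot (c : ℕ) : ∀ j, j + c = m →
    letI := qDecomp (GrSyz.stdGr k (Fin m)) (isHomogeneous_varIdeal k m j)
    ∀ (i : ℕ) (E : GrLC.StarInjRes (GrSyz.stdGr k (Fin m))
      (qGr (GrSyz.stdGr k (Fin m)) (varIdeal k m j : Submodule S S))) (n : ℤ),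
      (i = c → -(c : ℤ) < n) → ∀ y ∈ E.Hgr (GrSyz.irrel (GrSyz.stdGr k (Fin m))) i n, y = 0 := by
  set a := GrSyz.irrel (GrSyz.stdGr k (Fin m))
  induction c with
  | zero =>
    intro j hj
    letI := qDecomp (GrSyz.stdGr k (Fin m)) (isHomogeneous_varIdeal k m j)
    intro i E n hn
    have hjm : j = m := by omega
    subst hjm
    have hI : (varIdeal k j j : Ideal (MvPolynomial (Fin j) k)) = a.toIdeal := by
      rw [irrel_eq, varIdeal]
      congr 1
      rw [← Set.image_univ]
      congr 1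
      ext i
      simp
    have hkill : ∀ r ∈ a.toIdeal, ∀ z : MvPolynomial (Fin j) k ⧸ (varIdeal k j j : Submodule _ _), r • z = 0 := by
      intro r hr z
      obtain ⟨q, rfl⟩ := Submodule.Quotient.mk_surjective _ z
      rw [← Submodule.Quotient.mk_smul, Submodule.Quotient.mk_eq_zero, hI]
      exact Ideal.mul_mem_right q _ hr
    rcases Nat.eq_zero_or_pos i with rfl | hi
    · refine Hgr_eq_zero_of_bdd (stdGr_eq_zero_of_neg k j) 0 ?_ E a 0 n (by simpa using hn rfl)
      rintro l hl _ ⟨p, hp, rfl⟩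
      refine (Submodule.Quotient.mk_eq_zero _).2 ?_
      show p ∈ varIdeal k j j
      rw [hI]
      exact Ideal.subset_span ⟨l, hl, hp⟩
    · exact fun y _ => Hgr_eq_zero_of_torsion a E (fun z => ⟨1, fun r hr => hkill r (by simpa using hr) z⟩) hi y
  | succ c ih =>
    intro j hj
    letI := qDecomp (GrSyz.stdGr k (Fin m)) (isHomogeneous_varIdeal k m j)
    letI := qDecomp (GrSyz.stdGr k (Fin m)) (isHomogeneous_varIdeal k m (j + 1))
    intro i E n hn
    have hjm : j < m := by omega
    let x : S := X (⟨j, hjm⟩ : Fin m)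
    have hx : x ∈ GrSyz.stdGr k (Fin m) 1 := X_mem_stdGr k m _
    have hxa : x ∈ a.toIdeal := Ideal.subset_span ⟨1, one_pos, hx⟩
    have hreg := isSMulRegular_X_mod k m j hjm
    cases i with
    | zero => exact fun y _ => Hgr_zero_eq_zero_of_regular a hxa hreg E y
    | succ i =>
      have hx' := smul_id_grHomDeg (ℳ := qGr (GrSyz.stdGr k (Fin m)) (varIdeal k m j : Submodule S S)) hx
      letI := qDecomp (qGr (GrSyz.stdGr k (Fin m)) (varIdeal k m j : Submodule S S))
        (isHomogeneous_range_deg hx')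
      have hle : (varIdeal k m j : Submodule S S) ≤ varIdeal k m (j + 1) :=
        Ideal.span_mono (Set.image_mono fun q hq => Nat.lt_succ_of_lt hq)
      have hins : varIdeal k m (j + 1) = varIdeal k m j ⊔ Ideal.span {x} := by
        rw [varIdeal, varIdeal, ← Ideal.span_union]
        congr 1
        ext p
        constructor
        · rintro ⟨q, hq, rfl⟩
          rcases Nat.lt_succ_iff_lt_or_eq.1 hq with h | h
          · exact Or.inl ⟨q, h, rfl⟩
          · exact Or.inr (by rw [Set.mem_singleton_iff, show q = ⟨j, hjm⟩ from Fin.ext h])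
        · rintro (⟨q, hq, rfl⟩ | h)
          · exact ⟨q, Nat.lt_succ_of_lt hq, rfl⟩
          · exact ⟨⟨j, hjm⟩, Nat.lt_succ_self j, h.symm⟩
      have hker : LinearMap.ker (Submodule.factor hle) =
          LinearMap.range (x • LinearMap.id : (S ⧸ (varIdeal k m j : Submodule S S)) →ₗ[S] _) := by
        refine le_antisymm (fun z hz => ?_) ?_
        · obtain ⟨p, rfl⟩ := Submodule.Quotient.mk_surjective _ z
          have hp : p ∈ varIdeal k m (j + 1) := (Submodule.Quotient.mk_eq_zero _).1 hz
          rw [hins] at hp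
          obtain ⟨u, hu, v, hv, rfl⟩ := Submodule.mem_sup.1 hp
          obtain ⟨w, rfl⟩ := Ideal.mem_span_singleton'.1 hv
          refine ⟨Submodule.Quotient.mk w, ((Submodule.Quotient.eq _).2 ?_).symm⟩
          show u + w * x - x * w ∈ _
          simpa [mul_comm x w] using hu
        · rintro _ ⟨z, rfl⟩
          obtain ⟨w, rfl⟩ := Submodule.Quotient.mk_surjective _ z
          refine (Submodule.Quotient.mk_eq_zero _).2 ?_
          show x * w ∈ _
          rw [hins, mul_comm]
          exact Ideal.mem_sup_right (Ideal.mem_span_singleton'.2 ⟨w, rfl⟩)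
      let e := (Submodule.quotEquivOfEq _ _ hker.symm).trans
        (LinearMap.quotKerEquivOfSurjective _ (Submodule.factor_surjective hle))
      have he : GrLC.IsGrHom (qGr (qGr (GrSyz.stdGr k (Fin m)) (varIdeal k m j : Submodule S S))
          (LinearMap.range (x • LinearMap.id : (S ⧸ (varIdeal k m j : Submodule S S)) →ₗ[S] _)))
          (qGr (GrSyz.stdGr k (Fin m)) (varIdeal k m (j + 1) : Submodule S S)) e.toLinearMap := by
        rintro l _ ⟨_, ⟨p, hp, rfl⟩, rfl⟩
        exact ⟨p, hp, rfl⟩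
      by_cases hic : i = c
      · refine Hgr_eq_zero_of_regular_step a one_pos hx hxa hreg i (-(c : ℤ))
          (fun F n' hn' => Hgr_eq_zero_of_equiv a e he i n' (fun F' => ih (j + 1) (by omega) i F' n' fun _ => hn') F)
          E n ?_
        have := hn (by omega)
        push_cast at this
        omega
      · exact Hgr_eq_zero_of_regular_step a one_pos hx hxa hreg i (n - 1)
          (fun F n' hn' => Hgr_eq_zero_of_equiv a e he i n'
            (fun F' => ih (j + 1) (by omega) i F' n' fun h => absurd h hic) F) E n (by omega)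

/-- Graded local cohomology of the polynomial ring. -/
theorem Hgr_stdGr (i : ℕ)
    (E : GrLC.StarInjRes (GrSyz.stdGr k (Fin m)) (GrSyz.stdGr k (Fin m))) (n : ℤ)
    (hn : i = m → -(m : ℤ) < n) : ∀ y ∈ E.Hgr (GrSyz.irrel (GrSyz.stdGr k (Fin m))) i n, y = 0 := by
  letI := qDecomp (GrSyz.stdGr k (Fin m)) (isHomogeneous_varIdeal k m 0)
  have h0 : (varIdeal k m 0 : Submodule S S) = ⊥ := by
    rw [varIdeal]
    simp
  have he : GrLC.IsGrHom (GrSyz.stdGr k (Fin m)) (qGr (GrSyz.stdGr k (Fin m)) (varIdeal k m 0 : Submodule S S))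
      (Submodule.quotEquivOfEqBot _ h0).symm.toLinearMap := fun l p hp => ⟨p, hp, rfl⟩
  exact Hgr_eq_zero_of_equiv _ (Submodule.quotEquivOfEqBot _ h0).symm he i n
    (fun F => Hgr_varQuot k m m 0 (zero_add m) i F n hn) E

end Groth.Agent.GrLib
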