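import Groth.Agent.GrLib.RegPoly
import Mathlib.RingTheory.MvPolynomial.Homogeneous
import Mathlib.Algebra.Order.Antidiag.FinsuppEquiv
import Mathlib.LinearAlgebra.FiniteDimensional.Lemmas
import Mathlib.RingTheory.Polynomial.Pochhammer

/-!
Hilbert functions of modules with a finite graded free resolution over a polynomial ring.
-/

set_option autoImplicit false
set_option linter.unusedSectionVars false
set_option linter.unusedVariables false
set_option linter.style.haveILetI false

universe u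

open DirectSum MvPolynomial

namespace Groth.Agent.GrLib

variable {k : Type u} [Field k] {r : ℕ}

theorem stdGr_natCast (n : ℕ) :
    GrSyz.stdGr k (Fin (r + 1)) (n : ℤ) = homogeneousSubmodule (Fin (r + 1)) k n := by
  ext p
  rw [GrSyz.mem_stdGr_iff, mem_homogeneousSubmodule]
  have hw : ∀ d : Fin (r + 1) →₀ ℕ,
      Finsupp.weight (fun _ : Fin (r + 1) => (1 : ℤ)) d = ((Finsupp.weight 1 d : ℕ) : ℤ) := by
    intro d
    simp [Finsupp.weight_apply, Finsupp.sum]
  constructor
  · intro h d hd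
    exact Int.ofNat_inj.1 ((hw d).symm.trans (h hd))
  · intro h d hd
    rw [hw d, show Finsupp.weight (1 : Fin (r + 1) → ℕ) d = n from h hd]

theorem finrank_homogeneous (n : ℕ) :
    Module.finrank k (homogeneousSubmodule (Fin (r + 1)) k n) = (r + n).choose r := by
  classical
  have hs : {s : Fin (r + 1) →₀ ℕ | s.degree = n} =
      ↑((Finset.univ : Finset (Fin (r + 1))).finsuppAntidiag n) := by
    ext s; simp [Finsupp.degree_eq_sum]
  have e : homogeneousSubmodule (Fin (r + 1)) k n =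
      restrictSupport k {s : Fin (r + 1) →₀ ℕ | s.degree = n} :=
    homogeneousSubmodule_eq_finsupp_supported _ _ n
  rw [e, hs, Module.finrank_eq_card_basis (basisRestrictSupport k _)]
  simp only [Finset.coe_sort_coe, Fintype.card_coe]
  rw [Finset.card_finsuppAntidiag_nat_eq_choose, Finset.card_univ, Fintype.card_fin,
    show r + 1 + n - 1 = r + n by omega, Nat.choose_symm_add]

/-- The Hilbert function of the polynomial ring. -/
def hilb (r : ℕ) (n : ℤ) : ℤ := if 0 ≤ n then ((r + n.toNat).choose r : ℕ) else 0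

theorem finite_stdGr (n : ℤ) : Module.Finite k (GrSyz.stdGr k (Fin (r + 1)) n) := by
  rcases lt_or_ge n 0 with hn | hn
  · haveI : Subsingleton (GrSyz.stdGr k (Fin (r + 1)) n) :=
      subsingleton_of_forall_eq 0 fun p => Subtype.ext ((stdGr_neg k _ n hn (p : MvPolynomial (Fin (r + 1)) k) p.2).trans rfl)
    infer_instance
  · obtain ⟨t, rfl⟩ : ∃ t : ℕ, n = t := ⟨n.toNat, (Int.toNat_of_nonneg hn).symm⟩
    rw [stdGr_natCast]
    exact Module.Finite.iff_fg.2 (homogeneousSubmodule_fg _ _ _)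

theorem finrank_stdGr (n : ℤ) : (Module.finrank k (GrSyz.stdGr k (Fin (r + 1)) n) : ℤ) = hilb r n := by
  rcases lt_or_ge n 0 with hn | hn
  · haveI : Subsingleton (GrSyz.stdGr k (Fin (r + 1)) n) :=
      subsingleton_of_forall_eq 0 fun p => Subtype.ext ((stdGr_neg k _ n hn (p : MvPolynomial (Fin (r + 1)) k) p.2).trans rfl)
    rw [Module.finrank_zero_of_subsingleton, hilb, if_neg (not_le.2 hn), Nat.cast_zero]
  · obtain ⟨t, rfl⟩ : ∃ t : ℕ, n = t := ⟨n.toNat, (Int.toNat_of_nonneg hn).symm⟩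
    rw [stdGr_natCast, finrank_homogeneous, hilb, if_pos (Int.natCast_nonneg t), Int.toNat_natCast]

variable (k r) in
/-- A piece of a free module, as a vector space. -/
noncomputable def freePiece {n : ℕ} (g : Fin n → ℤ) (d : ℤ) :
    Submodule k (Fin n → MvPolynomial (Fin (r + 1)) k) :=
  Submodule.pi Set.univ fun a => GrSyz.stdGr k (Fin (r + 1)) (d - g a)

theorem mem_freePiece {n : ℕ} {g : Fin n → ℤ} {d : ℤ} {v : Fin n → MvPolynomial (Fin (r + 1)) k} :
    v ∈ freePiece k r g d ↔ v ∈ freeGr (GrSyz.stdGr k (Fin (r + 1))) g d := by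
  rw [mem_freeGr]
  simp [freePiece]

/-- A piece of a free module is a product. -/
noncomputable def freePieceEquiv {n : ℕ} (g : Fin n → ℤ) (d : ℤ) :
    freePiece k r g d ≃ₗ[k] ∀ a, GrSyz.stdGr k (Fin (r + 1)) (d - g a) where
  toFun v a := ⟨v.1 a, v.2 a (Set.mem_univ a)⟩
  map_add' u v := rfl
  map_smul' c v := rfl
  invFun w := ⟨fun a => w a, fun a _ => (w a).2⟩
  left_inv v := rfl
  right_inv w := rfl

instance finite_freePiece {n : ℕ} (g : Fin n → ℤ) (d : ℤ) : Module.Finite k (freePiece k r g d) :=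
  haveI := fun a => finite_stdGr (k := k) (r := r) (d - g a)
  Module.Finite.equiv (freePieceEquiv g d).symm

theorem finrank_freePiece {n : ℕ} (g : Fin n → ℤ) (d : ℤ) :
    (Module.finrank k (freePiece k r g d) : ℤ) = ∑ a, hilb r (d - g a) := by
  haveI := fun a => finite_stdGr (k := k) (r := r) (d - g a)
  rw [(freePieceEquiv g d).finrank_eq, Module.finrank_pi_fintype, Nat.cast_sum]
  exact Finset.sum_congr rfl fun a _ => finrank_stdGr _

variable {M : Type u} [AddCommGroup M] [Module k M] [Module (MvPolynomial (Fin (r + 1)) k) M]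
  [IsScalarTower k (MvPolynomial (Fin (r + 1)) k) M]
  {ℳ : ℤ → Submodule k M} [Decomposition ℳ] [SetLike.GradedSMul (GrSyz.stdGr k (Fin (r + 1))) ℳ]
  (F : GrSyz.FreeRes (GrSyz.stdGr k (Fin (r + 1))) ℳ) (d : ℤ)

/-- The differential on pieces. -/
noncomputable def pieceD (i : ℕ) : freePiece k r (F.deg (i + 1)) d →ₗ[k] freePiece k r (F.deg i) d :=
  ((F.dLin i).restrictScalars k).restrict fun v hv => mem_freePiece.2 (dLin_grHom F i d v (mem_freePiece.1 hv))

/-- The augmentation on pieces. -/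
noncomputable def pieceAug : freePiece k r (F.deg 0) d →ₗ[k] ℳ d :=
  (F.augLin.restrictScalars k).restrict fun v hv => augLin_grHom F d v (mem_freePiece.1 hv)

theorem pieceAug_surjective : Function.Surjective (pieceAug F d) := by
  letI := freeDecomp (GrSyz.stdGr k (Fin (r + 1))) (F.deg 0)
  intro y
  obtain ⟨v, hv, hvy⟩ := exists_preimage (grHomDeg_zero_iff.2 (augLin_grHom F)) (g := d) (y := (y : M))
    (by rw [add_zero]; exact y.2) (F.aug_surjective y)
  exact ⟨⟨v, mem_freePiece.2 hv⟩, Subtype.ext hvy⟩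

theorem ker_pieceAug : LinearMap.ker (pieceAug F d) = LinearMap.range (pieceD F d 0) := by
  letI := freeDecomp (GrSyz.stdGr k (Fin (r + 1))) (F.deg 0)
  letI := freeDecomp (GrSyz.stdGr k (Fin (r + 1))) (F.deg 1)
  refine le_antisymm (fun v hv => ?_) ?_
  · obtain ⟨w, hw, hwv⟩ := exists_preimage (grHomDeg_zero_iff.2 (dLin_grHom F 0)) (g := d)
      (y := (v : Fin (F.rk 0) → MvPolynomial (Fin (r + 1)) k)) (by rw [add_zero]; exact mem_freePiece.1 v.2)
      ((SetLike.ext_iff.1 F.exact_zero _).1 (congrArg Subtype.val hv))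
    exact ⟨⟨w, mem_freePiece.2 hw⟩, Subtype.ext hwv⟩
  · rintro _ ⟨w, rfl⟩
    exact Subtype.ext ((SetLike.ext_iff.1 F.exact_zero _).2 ⟨w.1, rfl⟩)

theorem ker_pieceD (i : ℕ) : LinearMap.ker (pieceD F d i) = LinearMap.range (pieceD F d (i + 1)) := by
  letI := freeDecomp (GrSyz.stdGr k (Fin (r + 1))) (F.deg (i + 1))
  letI := freeDecomp (GrSyz.stdGr k (Fin (r + 1))) (F.deg (i + 1 + 1))
  refine le_antisymm (fun v hv => ?_) ?_
  · obtain ⟨w, hw, hwv⟩ := exists_preimage (grHomDeg_zero_iff.2 (dLin_grHom F (i + 1))) (g := d)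
      (y := (v : Fin (F.rk (i + 1)) → MvPolynomial (Fin (r + 1)) k)) (by rw [add_zero]; exact mem_freePiece.1 v.2)
      ((SetLike.ext_iff.1 (F.exact_succ i) _).1 (congrArg Subtype.val hv))
    exact ⟨⟨w, mem_freePiece.2 hw⟩, Subtype.ext hwv⟩
  · rintro _ ⟨w, rfl⟩
    exact Subtype.ext ((SetLike.ext_iff.1 (F.exact_succ i) _).2 ⟨w.1, rfl⟩)

/-- Euler characteristic of the pieces of a resolution, with remainder. -/
theorem sum_finrank (t : ℕ) :
    (∑ i ∈ Finset.range (t + 1), (-1 : ℤ) ^ i * (Module.finrank k (freePiece k r (F.deg i) d) : ℤ)) =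
      (Module.finrank k (ℳ d) : ℤ) + (-1) ^ t * (Module.finrank k (LinearMap.range (pieceD F d t)) : ℤ) := by
  induction t with
  | zero =>
    have h := LinearMap.finrank_range_add_finrank_ker (pieceAug F d)
    rw [ker_pieceAug, LinearMap.range_eq_top.2 (pieceAug_surjective F d), finrank_top] at h
    simp [← h]
  | succ t ih =>
    have h := LinearMap.finrank_range_add_finrank_ker (pieceD F d t)
    rw [ker_pieceD] at h
    rw [Finset.sum_range_succ, ih, ← h]
    push_cast
    ring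

theorem finrank_eq_sum (m : ℕ) (hF : F.HasLengthLE m) :
    (Module.finrank k (ℳ d) : ℤ) =
      ∑ i ∈ Finset.range (m + 1), (-1 : ℤ) ^ i * ∑ b, hilb r (d - F.deg i b) := by
  have h := sum_finrank F d m
  have h0 : Module.finrank k (freePiece k r (F.deg (m + 1)) d) = 0 := by
    have h1 := finrank_freePiece (k := k) (r := r) (F.deg (m + 1)) d
    haveI : IsEmpty (Fin (F.rk (m + 1))) := by rw [hF (m + 1) (Nat.lt_succ_self m)]; infer_instance
    rw [Fintype.sum_empty] at h1
    exact_mod_cast h1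
  have h2 := LinearMap.finrank_range_add_finrank_ker (pieceD F d m)
  rw [h0] at h2
  rw [show Module.finrank k (LinearMap.range (pieceD F d m)) = 0 by omega, Nat.cast_zero, mul_zero,
    add_zero] at h
  rw [← h]
  exact Finset.sum_congr rfl fun i _ => by rw [finrank_freePiece]

theorem hilb_eq_eval (r : ℕ) (n : ℤ) (hn : -(r : ℤ) ≤ n) :
    ((hilb r n : ℤ) : ℚ) = (ascPochhammer ℚ r).eval ((n : ℚ) + 1) / (r.factorial : ℚ) := by
  rcases lt_or_ge n 0 with h | h
  · obtain ⟨t, ht⟩ : ∃ t : ℕ, n + 1 = -(t : ℤ) := ⟨(-(n + 1)).toNat, by omega⟩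
    have h1 : ((n : ℚ) + 1) = -(t : ℚ) := by exact_mod_cast congrArg (fun z : ℤ => (z : ℚ)) ht
    rw [h1, ascPochhammer_eval_neg_coe_nat_of_lt (by omega : t < r), hilb, if_neg (not_le.2 h)]
    simp
  · obtain ⟨t, rfl⟩ : ∃ t : ℕ, n = t := ⟨n.toNat, (Int.toNat_of_nonneg h).symm⟩
    rw [hilb, if_pos h, Int.toNat_natCast,
      show ((t : ℤ) : ℚ) + 1 = ((t + 1 : ℕ) : ℚ) by push_cast; ring,
      ascPochhammer_nat_eq_natCast_ascFactorial, Nat.ascFactorial_eq_factorial_mul_choose]
    rw [add_comm t r]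
    push_cast
    field_simp

end Groth.Agent.GrLib
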