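import Groth.Agent.GrLib.StarLocal
import Mathlib.RingTheory.GradedAlgebra.Radical
import Mathlib.RingTheory.Ideal.Height
import Mathlib.RingTheory.Ideal.KrullsHeightTheorem

/-!
Primes of a `ℤ`-graded ring against their homogeneous cores; dimension of a positively graded *local ring.
-/

set_option autoImplicit false
set_option linter.unusedSectionVars false
set_option linter.unusedVariables false
set_option linter.style.haveILetI false

universe u

open DirectSum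

namespace Groth.Agent.GrLib

variable {R : Type u} [CommRing R] {σ : Type u} [SetLike σ R] [AddSubgroupClass σ R]
  {𝒜 : ℤ → σ} [GradedRing 𝒜]

theorem proj_mul' {e : ℤ} {s : R} (hs : s ∈ 𝒜 e) (g : R) (j : ℤ) :
    proj 𝒜 j (s * g) = s * proj 𝒜 (j - e) g :=
  proj_smul' (ℳ := 𝒜) hs j g

variable (𝒜) in
/-- The components lie in the range `[a, a + w]`. -/
def SuppIn (g : R) (a : ℤ) (w : ℕ) : Prop :=
  ∀ j : ℤ, j < a ∨ a + w < j → proj 𝒜 j g = 0

theorem suppIn_of_mem {g : R} {a : ℤ} (h : g ∈ 𝒜 a) : SuppIn 𝒜 g a 0 :=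
  fun j hj => proj_of_mem_ne h (by omega)

theorem exists_suppIn (g : R) : ∃ (a : ℤ) (w : ℕ), SuppIn 𝒜 g a w := by
  classical
  obtain ⟨B, hB⟩ : ∃ B : ℕ, ∀ j, proj 𝒜 j g ≠ 0 → j.natAbs ≤ B :=
    ⟨((finite_support 𝒜 g).toFinset).sup Int.natAbs,
      fun j hj => Finset.le_sup (f := Int.natAbs) ((finite_support 𝒜 g).mem_toFinset.2 hj)⟩
  exact ⟨-(B : ℤ), 2 * B, fun j hj => by_contra fun h => by have := hB j h; omega⟩

theorem suppIn_mul {e : ℤ} {s g : R} {a : ℤ} {w : ℕ} (hs : s ∈ 𝒜 e) (hg : SuppIn 𝒜 g a w) :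
    SuppIn 𝒜 (s * g) (e + a) w :=
  fun j hj => by rw [proj_mul' hs, hg _ (by omega), mul_zero]

theorem suppIn_add {g h : R} {a : ℤ} {w : ℕ} (hg : SuppIn 𝒜 g a w) (hh : SuppIn 𝒜 h a w) :
    SuppIn 𝒜 (g + h) a w :=
  fun j hj => by rw [map_add, hg j hj, hh j hj, add_zero]

theorem suppIn_mono {g : R} {a a' : ℤ} {w w' : ℕ} (hg : SuppIn 𝒜 g a w) (h1 : a' ≤ a)
    (h2 : a + w ≤ a' + w') : SuppIn 𝒜 g a' w' :=
  fun j hj => hg j (by omega)

theorem suppIn_sub_top {g : R} {a : ℤ} {w : ℕ} (hg : SuppIn 𝒜 g a (w + 1)) :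
    SuppIn 𝒜 (g - proj 𝒜 (a + (w + 1 : ℕ)) g) a w := by
  intro j hj
  rw [map_sub]
  by_cases h : j = a + (w + 1 : ℕ)
  · rw [h, proj_of_mem (proj_mem 𝒜 _ _), sub_self]
  · rw [proj_of_mem_ne (proj_mem 𝒜 _ _) (Ne.symm h), hg j (by omega), sub_zero]

theorem eq_proj_of_suppIn_zero {g : R} {a : ℤ} (hg : SuppIn 𝒜 g a 0) : g = proj 𝒜 a g := by
  refine proj_ext 𝒜 fun j => ?_
  by_cases h : j = a
  · rw [h, proj_of_mem (proj_mem 𝒜 _ _)]
  · rw [proj_of_mem_ne (proj_mem 𝒜 _ _) (Ne.symm h), hg j (by omega)]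

/-- Pseudo-division by an element of minimal width. -/
theorem exists_pseudo_div (P : HomogeneousIdeal 𝒜) [hP : P.toIdeal.IsPrime] (q : Ideal R)
    (hPq : P.toIdeal ≤ q) {f : R} (hf : f ∈ q) (hfP : f ∉ P.toIdeal) {c : ℤ} {wf : ℕ} (hfs : SuppIn 𝒜 f c wf)
    (hwf : 0 < wf) (hmin : ∀ g ∈ q, ∀ (a : ℤ) (w : ℕ), SuppIn 𝒜 g a w → w < wf → g ∈ P.toIdeal) :
    ∀ (w : ℕ) (g : R), g ∈ q → ∀ a : ℤ, SuppIn 𝒜 g a w → ∃ (e : ℤ) (s h : R),
      s ∈ 𝒜 e ∧ s ∉ P.toIdeal ∧ s * g - h * f ∈ P.toIdeal ∧ SuppIn 𝒜 h (a + e - c) (w - wf) := by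
  have small : ∀ (w : ℕ) (g : R), g ∈ q → ∀ a : ℤ, SuppIn 𝒜 g a w → w < wf → ∃ (e : ℤ) (s h : R),
      s ∈ 𝒜 e ∧ s ∉ P.toIdeal ∧ s * g - h * f ∈ P.toIdeal ∧ SuppIn 𝒜 h (a + e - c) (w - wf) :=
    fun w g hg a hs hw => ⟨0, 1, 0, SetLike.one_mem_graded 𝒜, fun h => hP.ne_top
      ((Ideal.eq_top_iff_one _).2 h), by simpa using hmin g hg a w hs hw, fun j _ => map_zero _⟩
  intro w
  induction w with
  | zero => exact fun g hg a hs => small 0 g hg a hs hwf
  | succ w ih =>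
    intro g hg a hs
    rcases lt_or_ge (w + 1) wf with hw | hw
    · exact small _ g hg a hs hw
    set gt := proj 𝒜 (a + (w + 1 : ℕ)) g with hgt
    have hgtm : gt ∈ 𝒜 (a + (w + 1 : ℕ)) := proj_mem 𝒜 _ _
    set ft := proj 𝒜 (c + wf) f with hft
    have hftm : ft ∈ 𝒜 (c + wf) := proj_mem 𝒜 _ _
    have hftP : ft ∉ P.toIdeal := by
      intro h
      obtain ⟨v, hv⟩ : ∃ v, wf = v + 1 := ⟨wf - 1, by omega⟩
      subst hv
      have h1 := hmin (f - ft) (sub_mem hf (hPq h)) c v (suppIn_sub_top hfs) (Nat.lt_succ_self v)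
      exact hfP (by simpa using add_mem h1 h)
    let g' : R := ft * g - gt * f
    have hg' : SuppIn 𝒜 g' (a + c + wf) w := by
      intro j hj
      rw [map_sub, proj_mul' hftm, proj_mul' hgtm]
      by_cases h : j = a + c + wf + (w + 1 : ℕ)
      · rw [show j - (c + wf) = a + (w + 1 : ℕ) by omega, show j - (a + (w + 1 : ℕ)) = c + wf by omega,
          ← hgt, ← hft, mul_comm, sub_self]
      · rw [hs _ (by omega), hfs _ (by omega), mul_zero, mul_zero, sub_zero]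
    obtain ⟨e', s', h', hs', hsP', hrel, hh'⟩ := ih g' (sub_mem (Ideal.mul_mem_left _ _ hg) (Ideal.mul_mem_left _ _ hf)) _ hg'
    refine ⟨e' + (c + wf), s' * ft, h' + s' * gt, SetLike.mul_mem_graded hs' hftm,
      fun h => (hP.mem_or_mem h).elim hsP' hftP, ?_, ?_⟩
    · convert hrel using 1
      simp only [g']
      ring
    · refine suppIn_add ?_ (suppIn_mono (suppIn_of_mem (SetLike.mul_mem_graded hs' hgtm)) ?_ ?_)
      · rcases lt_or_ge w wf with hlt | hge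
        · exact suppIn_mono hh' (by omega) (by omega)
        · exact suppIn_mono hh' (by omega) (by omega)
      · omega
      · omega

/-- A prime with the same core as a strictly larger prime is homogeneous. -/
theorem eq_core_of_lt {q q' : Ideal R} (hq : q.IsPrime) (hq' : q'.IsPrime) (hlt : q < q')
    (hcore : (Ideal.homogeneousCore 𝒜 q).toIdeal = (Ideal.homogeneousCore 𝒜 q').toIdeal) :
    q = (Ideal.homogeneousCore 𝒜 q).toIdeal := by
  classical
  set P := Ideal.homogeneousCore 𝒜 q with hPdef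
  haveI : P.toIdeal.IsPrime := Ideal.IsPrime.homogeneousCore hq
  refine le_antisymm (fun g hg => ?_) (Ideal.toIdeal_homogeneousCore_le 𝒜 q)
  by_contra hgP
  have hPq' : P.toIdeal ≤ q' := (Ideal.toIdeal_homogeneousCore_le 𝒜 q).trans hlt.le
  have hom : ∀ s ∈ q', ∀ e, s ∈ 𝒜 e → s ∈ P.toIdeal := fun s hs e he => by
    rw [hcore]
    exact Ideal.mem_homogeneousCore_of_homogeneous_of_mem ⟨e, he⟩ hs
  have hex' : ∃ w : ℕ, ∃ x ∈ q', x ∉ P.toIdeal ∧ ∃ a, SuppIn 𝒜 x a w := by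
    obtain ⟨a, w, h⟩ := exists_suppIn (𝒜 := 𝒜) g
    exact ⟨w, g, hlt.le hg, hgP, a, h⟩
  have hex : ∃ w : ℕ, ∃ x ∈ q, x ∉ P.toIdeal ∧ ∃ a, SuppIn 𝒜 x a w := by
    obtain ⟨a, w, h⟩ := exists_suppIn (𝒜 := 𝒜) g
    exact ⟨w, g, hg, hgP, a, h⟩
  obtain ⟨f, hf, hfP, c, hfs⟩ := Nat.find_spec hex'
  have hwf : 0 < Nat.find hex' := by
    rcases Nat.eq_zero_or_pos (Nat.find hex') with h0 | h0
    · rw [h0] at hfs
      exact absurd (hom f hf c (eq_proj_of_suppIn_zero hfs ▸ proj_mem 𝒜 _ _)) hfP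
    · exact h0
  have hdiv := exists_pseudo_div P q' hPq' hf hfP hfs hwf fun x hx a w hxs hw => by_contra fun hxP =>
    Nat.find_min hex' hw ⟨x, hx, hxP, a, hxs⟩
  have hsq : ∀ s : R, ∀ e, s ∈ 𝒜 e → s ∉ P.toIdeal → s ∉ q := fun s e he hs h =>
    hs (Ideal.mem_homogeneousCore_of_homogeneous_of_mem ⟨e, he⟩ h)
  have hfq : f ∉ q := by
    intro h
    refine hlt.not_ge fun x hx => ?_
    obtain ⟨a, w, hxs⟩ := exists_suppIn (𝒜 := 𝒜) x
    obtain ⟨e, s, t, hs, hsP, hrel, -⟩ := hdiv w x hx a hxs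
    have : s * x ∈ q := by
      simpa using add_mem (Ideal.toIdeal_homogeneousCore_le 𝒜 q hrel) (Ideal.mul_mem_left q t h)
    exact (hq.mem_or_mem this).resolve_left (hsq s e hs hsP)
  obtain ⟨x, hx, hxP, a, hxs⟩ := Nat.find_spec hex
  have hle : Nat.find hex' ≤ Nat.find hex := Nat.find_le ⟨x, hlt.le hx, hxP, a, hxs⟩
  obtain ⟨e, s, t, hs, hsP, hrel, hts⟩ := hdiv _ x (hlt.le hx) a hxs
  have htq : t ∈ q := by
    have h1 : t * f ∈ q := by
      simpa using sub_mem (Ideal.mul_mem_left q s hx) (Ideal.toIdeal_homogeneousCore_le 𝒜 q hrel)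
    exact (hq.mem_or_mem h1).resolve_right hfq
  have htP : t ∉ P.toIdeal := by
    intro h
    have h1 : s * x ∈ P.toIdeal := by simpa using add_mem hrel (Ideal.mul_mem_right f _ h)
    exact ((Ideal.IsPrime.homogeneousCore (𝒜 := 𝒜) hq).mem_or_mem h1).elim hsP hxP
  exact Nat.find_min hex (show Nat.find hex - Nat.find hex' < Nat.find hex by omega) ⟨t, htq, htP, _, hts⟩

/-- The height is at most one more than that of the homogeneous core. -/
theorem height_le_core_add_one : ∀ (n : ℕ) (q : Ideal R), q.IsPrime →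
    (Ideal.homogeneousCore 𝒜 q).toIdeal.height ≤ n → q.height ≤ (n + 1 : ℕ) := by
  intro n
  induction n using Nat.strong_induction_on with
  | _ n ih =>
    intro q hq hn
    haveI := hq
    refine Ideal.height_le_iff.2 fun q' hq' hlt => ?_
    haveI := hq'
    haveI := Ideal.IsPrime.homogeneousCore (𝒜 := 𝒜) hq
    haveI := Ideal.IsPrime.homogeneousCore (𝒜 := 𝒜) hq'
    rcases lt_or_eq_of_le (show (Ideal.homogeneousCore 𝒜 q').toIdeal ≤ (Ideal.homogeneousCore 𝒜 q).toIdeal from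
      Ideal.homogeneousCore_mono 𝒜 hlt.le) with hc | hc
    · have h1 : (Ideal.homogeneousCore 𝒜 q').toIdeal.height < n := Ideal.height_le_iff.1 hn _ inferInstance hc
      obtain ⟨j, hj⟩ := ENat.ne_top_iff_exists.1 (ne_top_of_lt h1)
      rw [← hj, Nat.cast_lt] at h1
      exact lt_of_le_of_lt (ih j h1 q' hq' hj.ge) (Nat.cast_lt.2 (by omega))
    · rw [eq_core_of_lt hq' hq hlt hc, hc]
      exact lt_of_le_of_lt hn (Nat.cast_lt.2 (Nat.lt_succ_self n))

variable [IsNoetherianRing R]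

theorem exists_coatom_ge {J : HomogeneousIdeal 𝒜} (hJ : J ≠ ⊤) : ∃ n, IsCoatom n ∧ J ≤ n := by
  obtain ⟨I, ⟨⟨n, hn, hJn, hne⟩, hmax⟩⟩ : ∃ I, Maximal
      (fun I : Ideal R => ∃ n : HomogeneousIdeal 𝒜, n.toIdeal = I ∧ J ≤ n ∧ n ≠ ⊤) I := by
    obtain ⟨I, hI, hI'⟩ := set_has_maximal_iff_noetherian.2 (inferInstance : IsNoetherian R R)
      {I : Ideal R | ∃ n : HomogeneousIdeal 𝒜, n.toIdeal = I ∧ J ≤ n ∧ n ≠ ⊤} ⟨_, J, rfl, le_rfl, hJ⟩
    exact ⟨I, hI, fun I' h1 h2 => not_lt_iff_le_imp_ge.1 (hI' I' h1) h2⟩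
  refine ⟨n, ⟨hne, fun n' hlt => ?_⟩, hJn⟩
  by_contra hne'
  exact hlt.not_ge (show n'.toIdeal ≤ n.toIdeal by
    rw [hn]; exact hmax ⟨n', rfl, hJn.trans hlt.le, hne'⟩ (hn ▸ hlt.le))

variable (hpos : ∀ n : ℤ, n < 0 → ∀ x ∈ 𝒜 n, x = 0) {m : HomogeneousIdeal 𝒜} (hm : GrLC.IsStarLocal 𝒜 m)
include hpos hm

theorem le_starMaximal {J : HomogeneousIdeal 𝒜} (hJ : J ≠ ⊤) : J ≤ m := by
  obtain ⟨n, hn, hle⟩ := exists_coatom_ge hJ
  exact hm.2 n hn ▸ hle

theorem isMaximal_starMaximal : m.toIdeal.IsMaximal := by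
  have hne : m.toIdeal ≠ ⊤ := fun h => hm.1.1 (HomogeneousIdeal.ext (by rw [h]; rfl))
  obtain ⟨n, hn, hle⟩ := Ideal.exists_le_maximal _ hne
  suffices hnm : n ≤ m.toIdeal by rwa [le_antisymm hle hnm]
  intro x hx
  refine mem_of_proj_mem 𝒜 m.toIdeal fun g => ?_
  rcases lt_trichotomy g 0 with hg | hg | hg
  · rw [hpos g hg _ (proj_mem 𝒜 g x)]
    exact zero_mem _
  · subst hg
    have hsub : x - proj 𝒜 0 x ∈ m.toIdeal := by
      refine mem_of_proj_mem 𝒜 m.toIdeal fun g => ?_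
      rw [map_sub]
      rcases lt_trichotomy g 0 with hg | hg | hg
      · rw [hpos g hg _ (proj_mem 𝒜 g x), proj_of_mem_ne (proj_mem 𝒜 0 x) hg.ne', sub_zero]
        exact zero_mem _
      · subst hg
        rw [proj_of_mem (proj_mem 𝒜 0 x), sub_self]
        exact zero_mem _
      · rw [proj_of_mem_ne (proj_mem 𝒜 0 x) hg.ne, sub_zero]
        exact starLocal_irrelevant_le hpos hm.1 (Ideal.subset_span (Set.mem_iUnion₂.2 ⟨g, hg, proj_mem 𝒜 g x⟩))
    have h0 : proj 𝒜 0 x ∈ n := by simpa using sub_mem hx (hle hsub)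
    have hne' : Ideal.homogeneousCore 𝒜 n ≠ ⊤ := fun h => hn.ne_top (top_unique (by
      have := Ideal.toIdeal_homogeneousCore_le 𝒜 n
      rwa [h] at this))
    exact le_starMaximal hpos hm hne' (Ideal.mem_homogeneousCore_of_homogeneous_of_mem ⟨0, proj_mem 𝒜 0 x⟩ h0)
  · exact starLocal_irrelevant_le hpos hm.1 (Ideal.subset_span (Set.mem_iUnion₂.2 ⟨g, hg, proj_mem 𝒜 g x⟩))

/-- The dimension of a positively graded *local ring. -/
theorem ringKrullDim_eq_height_starMaximal : ringKrullDim R = m.toIdeal.height := by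
  haveI := isMaximal_starMaximal hpos hm
  refine le_antisymm ((ringKrullDim_le_iff_isMaximal_height_le _).2 fun n hn => ?_)
    Ideal.height_le_ringKrullDim_of_isPrime
  haveI := hn
  refine WithBot.coe_le_coe.2 ?_
  by_cases hnm : n = m.toIdeal
  · rw [hnm]
  haveI := Ideal.IsPrime.homogeneousCore (𝒜 := 𝒜) hn.isPrime
  have hle : (Ideal.homogeneousCore 𝒜 n).toIdeal ≤ m.toIdeal := by
    refine le_starMaximal hpos hm fun h => ?_
    exact Ideal.IsPrime.ne_top inferInstance (by rw [h]; rfl : (Ideal.homogeneousCore 𝒜 n).toIdeal = ⊤)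
  have hlt : (Ideal.homogeneousCore 𝒜 n).toIdeal < m.toIdeal := lt_of_le_of_ne hle fun h => hnm
    ((isMaximal_starMaximal hpos hm).eq_of_le hn.ne_top (h ▸ Ideal.toIdeal_homogeneousCore_le 𝒜 n)).symm
  obtain ⟨j, hj⟩ := ENat.ne_top_iff_exists.1
    (Ideal.height_ne_top_of_isPrime (I := (Ideal.homogeneousCore 𝒜 n).toIdeal))
  refine (height_le_core_add_one j n hn.isPrime hj.ge).trans ?_
  have := Ideal.height_strict_mono_of_isPrime hlt
  rw [← hj] at this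
  push_cast
  exact Order.add_one_le_of_lt this

end Groth.Agent.GrLib
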