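import Groth.Agent.GrLib.StarInj
import Groth.Prelude.Def_Wider
import Mathlib.Order.Zorn

/-!
*essential extensions and *injective envelopes.
-/

set_option autoImplicit false
set_option linter.unusedSectionVars false
set_option linter.unusedVariables false
set_option linter.style.haveILetI false

universe u

open DirectSum

namespace Groth.Agent.GrLib

variable {ι : Type} [AddCommGroup ι] [DecidableEq ι]
variable {R : Type u} [CommRing R] {σ : Type u} [SetLike σ R] [AddSubgroupClass σ R]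
  {𝒜 : ι → σ} [GradedRing 𝒜]
variable {M : Type u} [AddCommGroup M] [Module R M] {τ : Type u} [SetLike τ M] [AddSubgroupClass τ M]
  {ℳ : ι → τ}
variable {N : Type u} [AddCommGroup N] [Module R N] {τ' : Type u} [SetLike τ' N] [AddSubgroupClass τ' N]
  {𝒩 : ι → τ'} [Decomposition 𝒩] [SetLike.GradedSMul 𝒜 𝒩]

variable (𝒜 𝒩) in
/-- Every nonzero homogeneous element of `E` has a nonzero homogeneous multiple in `Q`. -/
def EssIn (Q E : Submodule R N) : Prop :=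
  ∀ g, ∀ y ∈ 𝒩 g, y ∈ E → y ≠ 0 → ∃ a, ∃ r ∈ 𝒜 a, r • y ≠ 0 ∧ r • y ∈ Q

theorem exists_proj_ne_zero {x : N} (hx : x ≠ 0) : ∃ g, proj 𝒩 g x ≠ 0 := by
  by_contra! h
  exact hx (eq_zero_of_proj 𝒩 h)

theorem exists_hom_multiple {Q : Submodule R N} (hQ : Q.IsHomogeneous 𝒩) {g : ι} {y : N}
    (hy : y ∈ 𝒩 g) {r : R} (hr0 : r • y ≠ 0) (hr : r • y ∈ Q) :
    ∃ a, ∃ s ∈ 𝒜 a, s • y ≠ 0 ∧ s • y ∈ Q := by
  obtain ⟨h, hh⟩ := exists_proj_ne_zero (𝒩 := 𝒩) hr0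
  have key : proj 𝒩 h (r • y) = proj 𝒜 (h - g) r • y := by
    refine smul_induction 𝒜 (motive := fun r => proj 𝒩 h (r • y) = proj 𝒜 (h - g) r • y) (by simp) ?_ ?_ r
    · intro a s hs
      by_cases e : a = h - g
      · subst e
        rw [proj_of_mem hs]
        refine proj_of_mem ?_
        have := smul_mem (ℳ := 𝒩) hs hy
        rwa [sub_add_cancel] at this
      · rw [proj_of_mem_ne hs e, zero_smul]
        exact proj_of_mem_ne (smul_mem hs hy) fun e' => e (by rw [← e', add_sub_cancel_right])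
    · intro x y hx hy
      simp [add_smul, hx, hy]
  exact ⟨h - g, _, proj_mem 𝒜 _ r, key ▸ hh, key ▸ hQ h hr⟩

theorem essIn_top_of_isStarEss {f : M →ₗ[R] N} (hf : GrLC.IsStarEss ℳ 𝒩 f)
    (hQ : (LinearMap.range f).IsHomogeneous 𝒩) : EssIn 𝒜 𝒩 (LinearMap.range f) ⊤ := by
  intro g y hy _ hy0
  have hP : (Submodule.span R {y}).IsHomogeneous 𝒩 :=
    isHomogeneous_span 𝒜 fun m hm => ⟨g, (Set.mem_singleton_iff.1 hm) ▸ hy⟩
  have h := hf.essential _ hP (by simpa [Submodule.span_singleton_eq_bot] using hy0)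
  obtain ⟨z, hz, hz0⟩ := Submodule.exists_mem_ne_zero_of_ne_bot h
  obtain ⟨r, rfl⟩ := Submodule.mem_span_singleton.1 hz.1
  exact exists_hom_multiple hQ hy hz0 hz.2

theorem essential_of_essIn {Q : Submodule R N} (h : EssIn 𝒜 𝒩 Q ⊤) {P : Submodule R N}
    (hP : P.IsHomogeneous 𝒩) (hP0 : P ≠ ⊥) : P ⊓ Q ≠ ⊥ := by
  obtain ⟨x, hx, hx0⟩ := Submodule.exists_mem_ne_zero_of_ne_bot hP0
  obtain ⟨g, hg⟩ := exists_proj_ne_zero (𝒩 := 𝒩) hx0
  obtain ⟨a, r, hr, hr0, hrQ⟩ := h g _ (proj_mem 𝒩 g x) trivial hg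
  exact fun e => hr0 ((Submodule.mem_bot R).1 (e ▸ ⟨P.smul_mem r (hP g hx), hrQ⟩))

/-- Over homogeneous essential extensions every nonzero element has a nonzero multiple in `Q`. -/
theorem exists_multiple_of_essIn {Q : Submodule R N} (h : EssIn 𝒜 𝒩 Q ⊤) :
    ∀ (n : ℕ) (x : N) (S : Finset ι), S.card ≤ n → (∀ g, g ∉ S → proj 𝒩 g x = 0) → x ≠ 0 →
      ∃ a, ∃ r ∈ 𝒜 a, r • x ≠ 0 ∧ r • x ∈ Q := by
  intro n
  induction n with
  | zero =>
    intro x S hS hx hx0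
    exact absurd (eq_zero_of_proj 𝒩 fun g => hx g (by rw [Finset.card_eq_zero.1 (Nat.le_zero.1 hS)]; simp)) hx0
  | succ n ih =>
    intro x S hS hx hx0
    obtain ⟨g, hg⟩ := exists_proj_ne_zero (𝒩 := 𝒩) hx0
    have hgS : g ∈ S := by_contra fun h' => hg (hx g h')
    obtain ⟨a, r, hr, hr0, hrQ⟩ := h g _ (proj_mem 𝒩 g x) trivial hg
    set x' := r • (x - proj 𝒩 g x) with hx'
    have e : r • x = x' + r • proj 𝒩 g x := by rw [hx', smul_sub, sub_add_cancel]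
    by_cases hx'0 : x' = 0
    · exact ⟨a, r, hr, by rw [e, hx'0, zero_add]; exact hr0, by rw [e, hx'0, zero_add]; exact hrQ⟩
    have hsupp : ∀ k, k ∉ (S.erase g).image (fun k => a + k) → proj 𝒩 k x' = 0 := by
      intro k hk
      rw [hx', proj_smul' (ℳ := 𝒩) hr, map_sub]
      by_cases hkg : k - a = g
      · rw [hkg, proj_of_mem (proj_mem 𝒩 g x), sub_self, smul_zero]
      · have : k - a ∉ S := fun hm =>
          hk (Finset.mem_image.2 ⟨k - a, Finset.mem_erase.2 ⟨hkg, hm⟩, add_sub_cancel a k⟩)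
        rw [hx _ this, proj_of_mem_ne (proj_mem 𝒩 g x) (Ne.symm hkg), sub_zero, smul_zero]
    obtain ⟨b, s, hs, hs0, hsQ⟩ := ih x' _ (Finset.card_image_le.trans (by
      rw [Finset.card_erase_of_mem hgS]; omega)) hsupp hx'0
    refine ⟨b + a, s * r, SetLike.mul_mem_graded hs hr, fun h0 => ?_, ?_⟩
    · obtain ⟨k, hk⟩ := exists_proj_ne_zero (𝒩 := 𝒩) hs0
      refine hk ?_
      have h1 := congrArg (proj 𝒩 k) h0
      rw [mul_smul, e, smul_add, map_add, map_zero] at h1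
      have hne : b + (a + g) ≠ k := fun hh => hk (by
        rw [proj_smul' (ℳ := 𝒩) hs, ← hh, add_sub_cancel_left, hx', proj_smul (ℳ := 𝒩) hr, map_sub,
          proj_of_mem (proj_mem 𝒩 g x), sub_self, smul_zero, smul_zero])
      rwa [proj_of_mem_ne (smul_mem hs (smul_mem hr (proj_mem 𝒩 g x))) hne, add_zero] at h1
    · rw [mul_smul, e, smul_add]
      exact add_mem hsQ (Q.smul_mem s hrQ)

theorem isEssentialInj_of_isStarEss {f : M →ₗ[R] N} (hf : GrLC.IsStarEss ℳ 𝒩 f)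
    (hQ : (LinearMap.range f).IsHomogeneous 𝒩) (hgr : SetLike.GradedSMul 𝒜 𝒩) :
    InjHull.IsEssentialInj f := by
  refine ⟨hf.injective, fun P hP => ?_⟩
  obtain ⟨x, hx, hx0⟩ := Submodule.exists_mem_ne_zero_of_ne_bot hP
  classical
  obtain ⟨a, r, _, hr0, hrQ⟩ := exists_multiple_of_essIn (essIn_top_of_isStarEss (𝒜 := 𝒜) hf hQ)
    _ x (decompose 𝒩 x).support le_rfl (fun g hg => by
      rw [proj_apply, DFinsupp.notMem_support_iff.1 hg]; rfl) hx0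
  exact fun e => hr0 ((Submodule.mem_bot R).1 (e ▸ ⟨P.smul_mem r hx, hrQ⟩))

theorem EssIn.trans {Q E E' : Submodule R N} (h : EssIn 𝒜 𝒩 Q E) (h' : EssIn 𝒜 𝒩 E E') :
    EssIn 𝒜 𝒩 Q E' := by
  intro g y hy hyE hy0
  obtain ⟨a, r, hr, hr0, hrE⟩ := h' g y hy hyE hy0
  obtain ⟨b, s, hs, hs0, hsQ⟩ := h _ _ (smul_mem hr hy) hrE hr0
  exact ⟨b + a, s * r, SetLike.mul_mem_graded hs hr, by rwa [mul_smul], by rwa [mul_smul]⟩

theorem exists_maximal_essIn {Q : Submodule R N} (hQ : Q.IsHomogeneous 𝒩) :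
    ∃ E : Submodule R N, E.IsHomogeneous 𝒩 ∧ Q ≤ E ∧ EssIn 𝒜 𝒩 Q E ∧
      ∀ E' : Submodule R N, E'.IsHomogeneous 𝒩 → E ≤ E' → EssIn 𝒜 𝒩 Q E' → E' = E := by
  obtain ⟨E, hQE, hE⟩ := zorn_le_nonempty₀
    {E : Submodule R N | E.IsHomogeneous 𝒩 ∧ Q ≤ E ∧ EssIn 𝒜 𝒩 Q E}
    (fun c hc hchain y hy => by
      refine ⟨sSup c, ⟨?_, (hc hy).2.1.trans (le_sSup hy), fun g x hx hxc hx0 => ?_⟩, fun z hz => le_sSup hz⟩
      · rw [sSup_eq_iSup']
        exact isHomogeneous_iSup 𝒩 fun z => (hc z.2).1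
      · obtain ⟨z, hz, hxz⟩ := (Submodule.mem_sSup_of_directed ⟨y, hy⟩ hchain.directedOn).1 hxc
        exact (hc hz).2.2 g x hx hxz hx0) Q
    ⟨hQ, le_rfl, fun g y hy hyQ hy0 => ⟨0, 1, SetLike.one_mem_graded _, by rwa [one_smul], by rwa [one_smul]⟩⟩
  exact ⟨E, hE.1.1, hE.1.2.1, hE.1.2.2,
    fun E' h1 h2 h3 => le_antisymm (hE.2 ⟨h1, hE.1.2.1.trans h2, h3⟩ h2) h2⟩

theorem exists_maximal_disjoint {E : Submodule R N} (hE : E.IsHomogeneous 𝒩) :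
    ∃ C : Submodule R N, C.IsHomogeneous 𝒩 ∧ C ⊓ E = ⊥ ∧
      ∀ g, ∀ y ∈ 𝒩 g, y ∉ C → ∃ a, ∃ r ∈ 𝒜 a, r • y ∉ C ∧ r • y ∈ C ⊔ E := by
  obtain ⟨C, -, hC⟩ := zorn_le_nonempty₀
    {C : Submodule R N | C.IsHomogeneous 𝒩 ∧ C ⊓ E = ⊥}
    (fun c hc hchain y hy => by
      refine ⟨sSup c, ⟨?_, ?_⟩, fun z hz => le_sSup hz⟩
      · rw [sSup_eq_iSup']
        exact isHomogeneous_iSup 𝒩 fun z => (hc z.2).1
      · refine eq_bot_iff.2 fun x hx => ?_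
        obtain ⟨z, hz, hxz⟩ := (Submodule.mem_sSup_of_directed ⟨y, hy⟩ hchain.directedOn).1 hx.1
        exact (hc hz).2 ▸ ⟨hxz, hx.2⟩) ⊥ ⟨isHomogeneous_bot 𝒩, bot_inf_eq E⟩
  refine ⟨C, hC.1.1, hC.1.2, fun g y hy hyC => ?_⟩
  have hne : (C ⊔ Submodule.span R {y}) ⊓ E ≠ ⊥ := fun e =>
    hyC (hC.2 ⟨isHomogeneous_sup 𝒩 hC.1.1 (isHomogeneous_span 𝒜 fun m hm =>
      ⟨g, (Set.mem_singleton_iff.1 hm) ▸ hy⟩), e⟩ le_sup_left
      (Submodule.mem_sup_right (Submodule.mem_span_singleton_self y)))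
  obtain ⟨e, he, he0⟩ := Submodule.exists_mem_ne_zero_of_ne_bot hne
  obtain ⟨c, hc, w, hw, rfl⟩ := Submodule.mem_sup.1 he.1
  obtain ⟨r, rfl⟩ := Submodule.mem_span_singleton.1 hw
  obtain ⟨h, hh⟩ := exists_proj_ne_zero (𝒩 := 𝒩) he0
  have hh2 : proj 𝒩 h (c + r • y) ∈ E := hE h he.2
  rw [map_add] at hh hh2
  have key : proj 𝒩 h (r • y) = proj 𝒜 (h - g) r • y := by
    refine smul_induction 𝒜 (motive := fun r => proj 𝒩 h (r • y) = proj 𝒜 (h - g) r • y) (by simp) ?_ ?_ r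
    · intro a s hs
      by_cases e : a = h - g
      · subst e
        rw [proj_of_mem hs]
        refine proj_of_mem ?_
        have := smul_mem (ℳ := 𝒩) hs hy
        rwa [sub_add_cancel] at this
      · rw [proj_of_mem_ne hs e, zero_smul]
        exact proj_of_mem_ne (smul_mem hs hy) fun e' => e (by rw [← e', add_sub_cancel_right])
    · intro x y hx hy
      simp [add_smul, hx, hy]
  rw [key] at hh hh2
  have hcC : proj 𝒩 h c ∈ C := hC.1.1 h hc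
  refine ⟨h - g, _, proj_mem 𝒜 _ r, fun hrC => hh ?_, ?_⟩
  · exact (Submodule.mem_bot R).1 (hC.1.2 ▸ ⟨add_mem hcC hrC, hh2⟩)
  · have := sub_mem (Submodule.mem_sup_right hh2 : _ ∈ C ⊔ E)
      (Submodule.mem_sup_left hcC)
    rwa [add_sub_cancel_left] at this

/-- *injective envelopes inside a *injective module. -/
theorem exists_hull_inside (hN : GrLC.IsStarInj 𝒜 𝒩) {Q : Submodule R N} (hQ : Q.IsHomogeneous 𝒩) :
    ∃ (E : Submodule R N) (hE : E.IsHomogeneous 𝒩) (r : N →ₗ[R] N), Q ≤ E ∧ EssIn 𝒜 𝒩 Q E ∧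
      GrLC.IsGrHom 𝒩 𝒩 r ∧ LinearMap.range r ≤ E ∧ (∀ x ∈ E, r x = x) ∧
      @GrLC.IsStarInj ι _ _ R _ σ _ _ 𝒜 _ E _ _ (AddSubgroup E) _ _ (subGr 𝒩 E) (subDecomp 𝒩 hE) _ := by
  obtain ⟨E, hE, hQE, hess, hmax⟩ := exists_maximal_essIn (𝒜 := 𝒜) hQ
  obtain ⟨C, hC, hCE, hCmax⟩ := exists_maximal_disjoint (𝒜 := 𝒜) hE
  letI := subDecomp 𝒩 hE
  letI := qDecomp 𝒩 hC
  have hinj : Function.Injective (C.mkQ ∘ₗ E.subtype) :=
    (injective_iff_map_eq_zero _).2 fun x hx => Subtype.ext ((Submodule.mem_bot R).1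
      (hCE ▸ ⟨(Submodule.Quotient.mk_eq_zero C).1 hx, x.2⟩))
  obtain ⟨h, hh, heq⟩ := exists_extend (ℳ := subGr 𝒩 E) (𝒩 := qGr 𝒩 C) hN
    (f := C.mkQ ∘ₗ E.subtype) (fun g x hx => mk_mem_qGr hx) hinj (g := E.subtype)
    (subtype_grHom (ℳ := 𝒩) E)
  have hfix : ∀ x ∈ E, h (C.mkQ x) = x := fun x hx => LinearMap.congr_fun heq ⟨x, hx⟩
  have hgr : GrLC.IsGrHom 𝒩 𝒩 (h ∘ₗ C.mkQ) := fun g x hx => hh g _ (mk_mem_qGr hx)
  have hrange : LinearMap.range (h ∘ₗ C.mkQ) ≤ E := by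
    refine (hmax _ (isHomogeneous_range hgr) (fun x hx => ⟨x, hfix x hx⟩) ?_).le
    refine hess.trans fun g y hy hyr hy0 => ?_
    have hyr' : y ∈ LinearMap.range (h ∘ₗ C.mkQ) := hyr
    obtain ⟨x, hx, rfl⟩ := exists_preimage (grHomDeg_zero_iff.2 hgr) (g := g)
      (by rwa [add_zero]) hyr'
    obtain ⟨a, r, hr, hrC, hrCE⟩ := hCmax g x hx fun hxC => hy0 (by
      rw [LinearMap.comp_apply, Submodule.mkQ_apply, (Submodule.Quotient.mk_eq_zero C).2 hxC, map_zero])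
    obtain ⟨c, hc, e, he, hce⟩ := Submodule.mem_sup.1 hrCE
    have hval : r • (h ∘ₗ C.mkQ) x = e := by
      rw [← map_smul, ← hce, map_add, LinearMap.comp_apply, LinearMap.comp_apply, hfix e he,
        Submodule.mkQ_apply, (Submodule.Quotient.mk_eq_zero C).2 hc, map_zero, zero_add]
    refine ⟨a, r, hr, ?_, hval ▸ he⟩
    rw [hval]
    intro e0
    exact hrC (by rw [← hce, e0, add_zero]; exact hc)
  refine ⟨E, hE, h ∘ₗ C.mkQ, hQE, hess, hgr, hrange, hfix, ?_⟩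
  exact isStarInj_of_retract (ℳ := subGr 𝒩 E) hN (s := E.subtype)
    (r := LinearMap.codRestrict E (h ∘ₗ C.mkQ) fun x => hrange ⟨x, rfl⟩) (subtype_grHom E)
    (fun g x hx => hgr g x hx) (LinearMap.ext fun x => Subtype.ext (hfix x x.2))

end Groth.Agent.GrLib
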