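import Groth.Agent.GrLib.Hull
import Mathlib.RingTheory.Noetherian.Basic
import Mathlib.RingTheory.GradedAlgebra.Radical
import Mathlib.LinearAlgebra.FreeModule.Basic
import Mathlib.LinearAlgebra.FreeModule.Finite.Basic
import Mathlib.Data.Finsupp.Lex

/-!
*injective envelopes of `R ⧸ p` for homogeneous primes.
-/

set_option autoImplicit false
set_option linter.unusedSectionVars false
set_option linter.unusedVariables false
set_option linter.style.haveILetI false

universe u

open DirectSum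

namespace Groth.Agent.GrLib

variable {ι : Type} [AddCommGroup ι] [DecidableEq ι]

/-- A finitely generated free abelian group admits a compatible linear order. -/
theorem exists_linearOrder (ι : Type) [AddCommGroup ι] [Module.Free ℤ ι] [Module.Finite ℤ ι] :
    ∃ l : LinearOrder ι, @IsOrderedAddMonoid ι _ l.toPartialOrder.toPreorder := by
  let b := Module.finBasis ℤ ι
  let f : ι →+ (Fin (Module.finrank ℤ ι) →₀ ℤ) := b.repr.toAddEquiv.toAddMonoidHom
  let g : ι → Lex (Fin (Module.finrank ℤ ι) →₀ ℤ) := fun x => toLex (f x)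
  have hg : Function.Injective g := fun x y h => b.repr.injective (toLex.injective h)
  have hadd : ∀ x y, g (x + y) = g x + g y := fun x y => congrArg toLex (map_add f x y)
  let l : LinearOrder ι := LinearOrder.lift' g hg
  refine ⟨l, ⟨fun a b h c => ?_, fun a b h c => ?_⟩⟩
  · show g (a + c) ≤ g (b + c)
    rw [hadd, hadd]
    have h' : g a ≤ g b := h
    gcongr
  · show g (c + a) ≤ g (c + b)
    rw [hadd, hadd]
    have h' : g a ≤ g b := h
    gcongr

variable {R : Type u} [CommRing R] {σ : Type u} [SetLike σ R] [AddSubgroupClass σ R]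
  {𝒜 : ι → σ} [GradedRing 𝒜]
variable {E : Type u} [AddCommGroup E] [Module R E] {τ : Type u} [SetLike τ E] [AddSubgroupClass τ E]
  {𝓔 : ι → τ} [Decomposition 𝓔] [SetLike.GradedSMul 𝒜 𝓔]

/-- A homogeneous ideal whose test on homogeneous elements passes is prime. -/
theorem isPrime_of_hom [Module.Free ℤ ι] [Module.Finite ℤ ι] {I : Ideal R} (hI : I.IsHomogeneous 𝒜)
    (hne : I ≠ ⊤)
    (h : ∀ {a b : ι}, ∀ x ∈ 𝒜 a, ∀ y ∈ 𝒜 b, x * y ∈ I → x ∈ I ∨ y ∈ I) : I.IsPrime := by
  obtain ⟨l, hl⟩ := exists_linearOrder ι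
  letI := l
  have e : ‹DecidableEq ι› = (fun a b => l.toDecidableEq a b) := Subsingleton.elim _ _
  subst e
  haveI := hl
  refine hI.isPrime_of_homogeneous_mem_or_mem hne ?_
  rintro x y ⟨a, hx⟩ ⟨b, hy⟩ hxy
  exact h x hx y hy hxy

theorem isHomogeneous_ann {g : ι} {y : E} (hy : y ∈ 𝓔 g) :
    ((Submodule.span R {y}).annihilator).IsHomogeneous 𝒜 := by
  intro a r hr
  rw [Submodule.mem_annihilator_span_singleton] at hr ⊢
  have key : proj 𝓔 (a + g) (r • y) = proj 𝒜 a r • y := by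
    refine smul_induction 𝒜 (motive := fun r => proj 𝓔 (a + g) (r • y) = proj 𝒜 a r • y) (by simp) ?_ ?_ r
    · intro b s hs
      by_cases e : b = a
      · subst e
        rw [proj_of_mem hs, proj_of_mem (smul_mem hs hy)]
      · rw [proj_of_mem_ne hs e, zero_smul]
        exact proj_of_mem_ne (smul_mem hs hy) fun e' => e (add_right_cancel e')
    · intro x y hx hy
      simp [add_smul, hx, hy]
  show proj 𝒜 a r • y = 0
  rw [← key, hr, map_zero]

variable {p : HomogeneousIdeal 𝒜} {e : (R ⧸ p.toIdeal) →ₗ[R] E}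

theorem isHomogeneous_range_quotGr (he : GrLC.IsGrHom (GrLC.quotGr 𝒜 p) 𝓔 e) :
    (LinearMap.range e).IsHomogeneous 𝓔 := by
  letI := qDecomp 𝒜 (p := (p.toIdeal : Submodule R R)) p.isHomogeneous
  exact isHomogeneous_range (ℳ := qGr 𝒜 (p.toIdeal : Submodule R R)) fun g x hx => he g x hx

theorem smul_eq_zero_of_mem (r : R) (hr : r ∈ p.toIdeal) (t : R ⧸ p.toIdeal) : r • t = 0 := by
  obtain ⟨s, rfl⟩ := Submodule.Quotient.mk_surjective _ t
  exact (Submodule.Quotient.mk_eq_zero _).2 (Ideal.mul_mem_right s _ hr)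

variable (he : GrLC.IsStarInjHull 𝒜 (GrLC.quotGr 𝒜 p) 𝓔 e)
include he

theorem hull_essIn : EssIn 𝒜 𝓔 (LinearMap.range e) ⊤ :=
  essIn_top_of_isStarEss he.toIsStarEss (isHomogeneous_range_quotGr he.grHom)

theorem hull_gam [IsNoetherianRing R] : GrLC.gam p.toIdeal E = ⊤ := by
  refine eq_top_iff.2 fun x _ => induction 𝓔 (motive := fun x => x ∈ GrLC.gam p.toIdeal E)
    (zero_mem _) (fun g y hy => ?_) (fun _ _ h h' => add_mem h h') x
  set J := (Submodule.span R {y}).annihilator with hJ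
  have key : ∀ a, ∀ r ∈ 𝒜 a, r ∈ p.toIdeal → r ∈ J.radical := by
    intro a r hr hrp
    let c : ℕ →o Submodule R R := ⟨fun k => (Submodule.span R {r ^ k • y}).annihilator,
      monotone_nat_of_le_succ fun k s hs => by
        rw [Submodule.mem_annihilator_span_singleton] at hs ⊢
        rw [pow_succ', mul_smul, smul_comm, hs, smul_zero]⟩
    obtain ⟨k, hk⟩ := (monotone_stabilizes_iff_noetherian.2 (inferInstance : IsNoetherianRing R)) c
    refine ⟨k, ?_⟩
    rw [hJ, Submodule.mem_annihilator_span_singleton]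
    by_contra h0
    obtain ⟨b, s, hs, hs0, ⟨t, ht⟩⟩ := hull_essIn he _ (r ^ k • y)
      (smul_mem (SetLike.pow_mem_graded k hr) hy) trivial h0
    have h1 : s ∈ c (k + 1) := by
      show s ∈ (Submodule.span R {r ^ (k + 1) • y}).annihilator
      rw [Submodule.mem_annihilator_span_singleton, pow_succ', mul_smul, smul_comm, ← ht, ← map_smul,
        smul_eq_zero_of_mem r hrp, map_zero]
    rw [← hk (k + 1) (Nat.le_succ k)] at h1
    exact hs0 (Submodule.mem_annihilator_span_singleton _ _ |>.1 h1)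
  have hle : p.toIdeal ≤ J.radical := fun r hr =>
    mem_of_proj_mem 𝒜 J.radical fun a => key a _ (proj_mem 𝒜 a r) (p.isHomogeneous a hr)
  obtain ⟨n, hn⟩ := Ideal.exists_pow_le_of_le_radical_of_fg hle (IsNoetherian.noetherian _)
  exact ⟨n, fun r hr => (Submodule.mem_annihilator_span_singleton _ _).1 (hn hr)⟩

variable [hp : p.toIdeal.IsPrime]
include hp

theorem hull_smul_injective {g : ι} {r : R} (hr : r ∈ 𝒜 g) (hrp : r ∉ p.toIdeal) :
    Function.Injective (fun x : E => r • x) := by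
  have hK := isHomogeneous_ker_deg (f := r • (LinearMap.id : E →ₗ[R] E)) (ℳ := 𝓔) (𝒩 := 𝓔) (d := g)
    fun k x hx => by rw [add_comm]; exact smul_mem hr hx
  have hbot : LinearMap.ker (r • (LinearMap.id : E →ₗ[R] E)) = ⊥ := by
    by_contra hne
    refine he.essential _ hK hne (eq_bot_iff.2 ?_)
    rintro _ ⟨h0, t, rfl⟩
    have h1 : r • t = 0 := he.injective (by rw [map_smul, map_zero]; exact h0)
    obtain ⟨s, rfl⟩ := Submodule.Quotient.mk_surjective _ t
    have : s ∈ p.toIdeal :=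
      (hp.mem_or_mem ((Submodule.Quotient.mk_eq_zero _).1 h1)).resolve_left hrp
    rw [(Submodule.Quotient.mk_eq_zero _).2 this, map_zero]
    exact zero_mem _
  exact LinearMap.ker_eq_bot.1 hbot

theorem hull_smul_bijective {g : ι} {r : R} (hr : r ∈ 𝒜 g) (hrp : r ∉ p.toIdeal) :
    Function.Bijective (fun x : E => r • x) := by
  refine ⟨hull_smul_injective he hr hrp, fun x => ?_⟩
  letI := shiftDecomp 𝓔 (-g)
  obtain ⟨h, -, eh⟩ := exists_extend_deg (ℳ := shiftGr 𝓔 (-g)) (𝒩 := 𝓔) he.starInj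
    (f := r • (LinearMap.id : E →ₗ[R] E)) (fun k y hy => by
      have := smul_mem (ℳ := 𝓔) hr hy
      rwa [add_comm g, neg_add_cancel_right] at this)
    (hull_smul_injective he hr hrp) (g := LinearMap.id) (d := -g) (fun k y hy => hy)
  refine ⟨h x, ?_⟩
  show r • h x = x
  rw [← map_smul]
  exact LinearMap.congr_fun eh x

theorem hull_indec : GrLC.IsStarIndec R 𝓔 := by
  have h1 : e (Submodule.Quotient.mk 1) ≠ 0 := fun h0 =>
    hp.ne_top ((Ideal.eq_top_iff_one _).2
      ((Submodule.Quotient.mk_eq_zero _).1 (he.injective (h0.trans (map_zero e).symm))))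
  refine ⟨⟨_, 0, h1⟩, fun P Q hP hQ hc => ?_⟩
  by_contra! hne
  obtain ⟨x, hx, hx0⟩ := Submodule.exists_mem_ne_zero_of_ne_bot (he.essential P hP hne.1)
  obtain ⟨y, hy, hy0⟩ := Submodule.exists_mem_ne_zero_of_ne_bot (he.essential Q hQ hne.2)
  obtain ⟨⟨s', hs⟩, ⟨t', ht⟩⟩ := And.intro hx.2 hy.2
  obtain ⟨s, rfl⟩ := Submodule.Quotient.mk_surjective _ s'
  obtain ⟨t, rfl⟩ := Submodule.Quotient.mk_surjective _ t'
  have e1 : t • x = s • y := by
    rw [← hs, ← ht, ← map_smul, ← map_smul, ← Submodule.Quotient.mk_smul, ← Submodule.Quotient.mk_smul,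
      smul_eq_mul, smul_eq_mul, mul_comm]
  have h0 : t • x = 0 := Submodule.disjoint_def.1 hc.disjoint _ (P.smul_mem t hx.1) (e1 ▸ Q.smul_mem s hy.1)
  rw [← hs, ← map_smul] at h0
  have h2 : t * s ∈ p.toIdeal :=
    (Submodule.Quotient.mk_eq_zero _).1 (he.injective (h0.trans (map_zero e).symm))
  rcases hp.mem_or_mem h2 with h | h
  · exact hy0 (by rw [← ht, (Submodule.Quotient.mk_eq_zero _).2 h, map_zero])
  · exact hx0 (by rw [← hs, (Submodule.Quotient.mk_eq_zero _).2 h, map_zero])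

omit he in
theorem hull_le_of_equiv {q : HomogeneousIdeal 𝒜} {F : Type u} [AddCommGroup F] [Module R F]
    {f : (R ⧸ q.toIdeal) →ₗ[R] F} (hfi : Function.Injective f) (hq : q.toIdeal ≠ ⊤) (φ : E ≃ₗ[R] F)
    (he : GrLC.IsStarInjHull 𝒜 (GrLC.quotGr 𝒜 p) 𝓔 e) : q ≤ p := by
  intro r hr
  refine mem_of_proj_mem 𝒜 p.toIdeal fun a => ?_
  by_contra hn
  have hb := (hull_smul_injective he (proj_mem 𝒜 a r) hn)
  have h0 : proj 𝒜 a r • φ.symm (f (Submodule.Quotient.mk 1)) = proj 𝒜 a r • (0 : E) := by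
    rw [smul_zero, ← map_smul, ← map_smul,
      smul_eq_zero_of_mem (proj 𝒜 a r) (q.isHomogeneous a hr), map_zero, map_zero]
  have h1 := φ.symm.injective ((hb h0).trans (map_zero φ.symm).symm)
  exact hq ((Ideal.eq_top_iff_one _).2
    ((Submodule.Quotient.mk_eq_zero _).1 (hfi (h1.trans (map_zero f).symm))))

end Groth.Agent.GrLib
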