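import Groth.Agent.GrLib.StarInj

/-!
Comparison of *injective resolutions, functoriality and gradings of the graded local
cohomology modules computed from them.
-/

set_option autoImplicit false
set_option linter.unusedSectionVars false
set_option linter.unusedVariables false
set_option linter.style.haveILetI false

universe u

open DirectSum

namespace Groth.Agent.GrLib

variable {ι : Type} [AddCommGroup ι] [DecidableEq ι]
variable {R : Type u} [CommRing R] {σ : Type u} [SetLike σ R] [AddSubgroupClass σ R]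
  {𝒜 : ι → σ} [GradedRing 𝒜]
variable {M : Type u} [AddCommGroup M] [Module R M] {τ : Type u} [SetLike τ M] [AddSubgroupClass τ M]
  {ℳ : ι → τ} [Decomposition ℳ] [SetLike.GradedSMul 𝒜 ℳ]
variable {N : Type u} [AddCommGroup N] [Module R N] {τ' : Type u} [SetLike τ' N] [AddSubgroupClass τ' N]
  {𝒩 : ι → τ'} [Decomposition 𝒩] [SetLike.GradedSMul 𝒜 𝒩]
variable {P : Type u} [AddCommGroup P] [Module R P] {τ'' : Type u} [SetLike τ'' P] [AddSubgroupClass τ'' P]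
  {𝒬 : ι → τ''} [Decomposition 𝒬] [SetLike.GradedSMul 𝒜 𝒬]
variable {E : GrLC.StarInjRes 𝒜 ℳ} {F : GrLC.StarInjRes 𝒜 𝒩} {G : GrLC.StarInjRes 𝒜 𝒬}

section basic

variable (E)

theorem d_comp_ε (m : M) : E.d 0 (E.ε m) = 0 := by
  have : E.ε m ∈ LinearMap.ker (E.d 0) := E.exact_zero ▸ LinearMap.mem_range_self _ m
  exact this

theorem d_comp_d (n : ℕ) (x : (E.X n).carrier) : E.d (n + 1) (E.d n x) = 0 := by
  have : E.d n x ∈ LinearMap.ker (E.d (n + 1)) := E.exact_succ n ▸ LinearMap.mem_range_self _ x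
  exact this

theorem exists_d_eq (n : ℕ) {x : (E.X (n + 1)).carrier} (hx : E.d (n + 1) x = 0) :
    ∃ y, E.d n y = x := by
  have : x ∈ LinearMap.ker (E.d (n + 1)) := hx
  rw [E.exact_succ n] at this
  exact this

theorem exists_ε_eq {x : (E.X 0).carrier} (hx : E.d 0 x = 0) : ∃ m, E.ε m = x := by
  have : x ∈ LinearMap.ker (E.d 0) := hx
  rw [E.exact_zero] at this
  exact this

end basic

/-- A lift of a homogeneous map to resolutions. -/
structure Lift (E : GrLC.StarInjRes 𝒜 ℳ) (F : GrLC.StarInjRes 𝒜 𝒩) (φ : M →ₗ[R] N) (d : ι) where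
  /-- the components -/
  u : ∀ n, (E.X n).carrier →ₗ[R] (F.X n).carrier
  deg : ∀ n, GrLC.IsGrHomDeg (E.X n).gr (F.X n).gr (u n) d
  comm₀ : ∀ m, u 0 (E.ε m) = F.ε (φ m)
  comm : ∀ n x, u (n + 1) (E.d n x) = F.d n (u n x)

theorem deg_comp {A B C : Type u} [AddCommGroup A] [Module R A] [AddCommGroup B] [Module R B]
    [AddCommGroup C] [Module R C] {S₁ S₂ S₃ : Type u} [SetLike S₁ A] [SetLike S₂ B] [SetLike S₃ C]
    {𝒳 : ι → S₁} {𝒴 : ι → S₂} {𝒵 : ι → S₃} [AddSubgroupClass S₁ A] [AddSubgroupClass S₂ B]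
    [AddSubgroupClass S₃ C] {f : A →ₗ[R] B} {g : B →ₗ[R] C} {d e : ι}
    (hf : GrLC.IsGrHomDeg 𝒳 𝒴 f d) (hg : GrLC.IsGrHomDeg 𝒴 𝒵 g e) :
    GrLC.IsGrHomDeg 𝒳 𝒵 (g ∘ₗ f) (d + e) := fun k x hx => by
  rw [← add_assoc]
  exact hg _ _ (hf k x hx)

section lift

variable (E F) (φ : M →ₗ[R] N) (d : ι) (hφ : GrLC.IsGrHomDeg ℳ 𝒩 φ d)

/-- A partial lift. -/
def LiftStep (n : ℕ) : Type u :=
  { u : (E.X n).carrier →ₗ[R] (F.X n).carrier //
    GrLC.IsGrHomDeg (E.X n).gr (F.X n).gr u d ∧ ∀ x, E.d n x = 0 → F.d n (u x) = 0 }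

include hφ in
theorem exists_lift_zero : ∃ u : LiftStep E F d 0, ∀ m, u.1 (E.ε m) = F.ε (φ m) := by
  obtain ⟨u, hu, e⟩ := exists_extend_deg (F.starInj 0) E.ε_grHom E.ε_injective (g := F.ε ∘ₗ φ) (d := d)
    (fun k x hx => F.ε_grHom _ _ (hφ k x hx))
  refine ⟨⟨u, hu, fun x hx => ?_⟩, LinearMap.congr_fun e⟩
  obtain ⟨m, rfl⟩ := exists_ε_eq E hx
  rw [show u (E.ε m) = F.ε (φ m) from LinearMap.congr_fun e m]
  exact d_comp_ε F _

theorem exists_lift_succ (n : ℕ) (u : LiftStep E F d n) :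
    ∃ u' : LiftStep E F d (n + 1), ∀ x, u'.1 (E.d n x) = F.d n (u.1 x) := by
  obtain ⟨u', hu', e⟩ := exists_factor_deg (F.starInj (n + 1)) (E.d_grHom n) (g := F.d n ∘ₗ u.1) (d := d)
    (fun k x hx => F.d_grHom n _ _ (u.2.1 k x hx)) (fun x hx => u.2.2 x hx)
  refine ⟨⟨u', hu', fun x hx => ?_⟩, LinearMap.congr_fun e⟩
  obtain ⟨y, rfl⟩ := exists_d_eq E n hx
  rw [show u' (E.d n y) = F.d n (u.1 y) from LinearMap.congr_fun e y]
  exact d_comp_d F n _

/-- The recursion. -/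
noncomputable def liftSteps (u₀ : LiftStep E F d 0) : ∀ n, LiftStep E F d n
  | 0 => u₀
  | n + 1 => (exists_lift_succ E F d n (liftSteps u₀ n)).choose

/-- A chosen lift. -/
noncomputable def someLift : Lift E F φ d where
  u n := (liftSteps E F d (exists_lift_zero E F φ d hφ).choose n).1
  deg n := (liftSteps E F d (exists_lift_zero E F φ d hφ).choose n).2.1
  comm₀ := (exists_lift_zero E F φ d hφ).choose_spec
  comm n := (exists_lift_succ E F d n _).choose_spec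

/-- A partial homotopy. -/
def HtpyStep (v : Lift E F (0 : M →ₗ[R] N) d) (n : ℕ) : Type u :=
  { s : (E.X (n + 1)).carrier →ₗ[R] (F.X n).carrier //
    ∀ x, F.d n (s (E.d n x)) = F.d n (v.u n x) }

theorem exists_htpy_zero (v : Lift E F (0 : M →ₗ[R] N) d) :
    ∃ s : HtpyStep E F d v 0, ∀ x, s.1 (E.d 0 x) = v.u 0 x := by
  obtain ⟨s, hs, e⟩ := exists_factor_deg (F.starInj 0) (E.d_grHom 0) (v.deg 0) (fun x hx => by
    obtain ⟨m, rfl⟩ := exists_ε_eq E hx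
    rw [LinearMap.mem_ker, v.comm₀, LinearMap.zero_apply, map_zero])
  exact ⟨⟨s, fun x => by rw [show s (E.d 0 x) = v.u 0 x from LinearMap.congr_fun e x]⟩,
    LinearMap.congr_fun e⟩

theorem exists_htpy_succ (v : Lift E F (0 : M →ₗ[R] N) d) (n : ℕ) (s : HtpyStep E F d v n)
    (hs : GrLC.IsGrHomDeg (E.X (n + 1)).gr (F.X n).gr s.1 d) :
    ∃ s' : HtpyStep E F d v (n + 1), GrLC.IsGrHomDeg (E.X (n + 2)).gr (F.X (n + 1)).gr s'.1 d ∧
      ∀ x, s'.1 (E.d (n + 1) x) = v.u (n + 1) x - F.d n (s.1 x) := by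
  obtain ⟨s', hs', e⟩ := exists_factor_deg (F.starInj (n + 1)) (E.d_grHom (n + 1))
    (g := v.u (n + 1) - F.d n ∘ₗ s.1) (d := d)
    (fun k x hx => sub_mem (v.deg (n + 1) k x hx) (F.d_grHom n _ _ (hs k x hx))) (fun x hx => by
    obtain ⟨y, rfl⟩ := exists_d_eq E n hx
    rw [LinearMap.mem_ker, LinearMap.sub_apply, LinearMap.comp_apply, v.comm, s.2, sub_self])
  refine ⟨⟨s', fun x => ?_⟩, hs', LinearMap.congr_fun e⟩
  rw [show s' (E.d (n + 1) x) = v.u (n + 1) x - F.d n (s.1 x) from LinearMap.congr_fun e x, map_sub,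
    d_comp_d, sub_zero]

theorem exists_htpy (v : Lift E F (0 : M →ₗ[R] N) d) :
    ∃ s : ∀ n, (E.X (n + 1)).carrier →ₗ[R] (F.X n).carrier,
      (∀ x, s 0 (E.d 0 x) = v.u 0 x) ∧
      ∀ n x, s (n + 1) (E.d (n + 1) x) = v.u (n + 1) x - F.d n (s n x) := by
  obtain ⟨s₀, hs₀, e₀⟩ : ∃ s : HtpyStep E F d v 0,
      GrLC.IsGrHomDeg (E.X 1).gr (F.X 0).gr s.1 d ∧ ∀ x, s.1 (E.d 0 x) = v.u 0 x := by
    obtain ⟨s, hs, e⟩ := exists_factor_deg (F.starInj 0) (E.d_grHom 0) (v.deg 0) (fun x hx => by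
      obtain ⟨m, rfl⟩ := exists_ε_eq E hx
      rw [LinearMap.mem_ker, v.comm₀, LinearMap.zero_apply, map_zero])
    exact ⟨⟨s, fun x => by rw [show s (E.d 0 x) = v.u 0 x from LinearMap.congr_fun e x]⟩, hs,
      LinearMap.congr_fun e⟩
  let t : ∀ n, { s : HtpyStep E F d v n // GrLC.IsGrHomDeg (E.X (n + 1)).gr (F.X n).gr s.1 d } :=
    fun n => Nat.rec (motive := fun n =>
      { s : HtpyStep E F d v n // GrLC.IsGrHomDeg (E.X (n + 1)).gr (F.X n).gr s.1 d }) ⟨s₀, hs₀⟩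
      (fun n p => ⟨(exists_htpy_succ E F d v n p.1 p.2).choose,
        (exists_htpy_succ E F d v n p.1 p.2).choose_spec.1⟩) n
  exact ⟨fun n => (t n).1.1, e₀, fun n x => (exists_htpy_succ E F d v n (t n).1 (t n).2).choose_spec.2 x⟩

end lift

section cohomology

variable (a : HomogeneousIdeal 𝒜)

/-- A lift preserves cocycles. -/
theorem Lift.mem_cocyc {φ : M →ₗ[R] N} {d : ι} (L : Lift E F φ d) (n : ℕ) {z : (E.X n).carrier}
    (hz : z ∈ E.cocyc a n) : L.u n z ∈ F.cocyc a n :=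
  ⟨map_gam_le (L.u n) (Submodule.mem_map_of_mem hz.1), by
    show F.d n (L.u n z) = 0
    rw [← L.comm, LinearMap.mem_ker.1 hz.2, map_zero]⟩

theorem Lift.mem_cobdy {φ : M →ₗ[R] N} {d : ι} (L : Lift E F φ d) (n : ℕ) {z : (E.X n).carrier}
    (hz : z ∈ E.cobdy a n) : L.u n z ∈ F.cobdy a n := by
  cases n with
  | zero =>
    rw [(Submodule.mem_bot R).1 hz, map_zero]
    exact zero_mem _
  | succ n =>
    obtain ⟨w, hw, rfl⟩ := hz
    rw [L.comm]
    exact Submodule.mem_map_of_mem (map_gam_le (L.u n) (Submodule.mem_map_of_mem hw))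

/-- The map induced by a lift. -/
noncomputable def Lift.mapH {φ : M →ₗ[R] N} {d : ι} (L : Lift E F φ d) (n : ℕ) :
    E.H a n →ₗ[R] F.H a n :=
  Submodule.mapQ _ _ ((L.u n).restrict fun _ h => L.mem_cocyc a n h) fun _ h => L.mem_cobdy a n h

theorem Lift.mapH_toH {φ : M →ₗ[R] N} {d : ι} (L : Lift E F φ d) (n : ℕ) (z : E.cocyc a n) :
    L.mapH a n (E.toH a n z) = F.toH a n ⟨L.u n z, L.mem_cocyc a n z.2⟩ := rfl

theorem toH_surjective (n : ℕ) : Function.Surjective (E.toH a n) :=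
  Submodule.Quotient.mk_surjective _

theorem toH_eq_zero {n : ℕ} {z : E.cocyc a n} :
    E.toH a n z = 0 ↔ (z : (E.X n).carrier) ∈ E.cobdy a n :=
  Submodule.Quotient.mk_eq_zero _

theorem Lift.mapH_eq {φ : M →ₗ[R] N} {d : ι} (L L' : Lift E F φ d) (n : ℕ) :
    L.mapH a n = L'.mapH a n := by
  let v : Lift E F (0 : M →ₗ[R] N) d :=
    { u := fun n => L.u n - L'.u n
      deg := fun n k x hx => sub_mem (L.deg n k x hx) (L'.deg n k x hx)
      comm₀ := fun m => by simp [L.comm₀, L'.comm₀]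
      comm := fun n x => by simp [L.comm, L'.comm] }
  obtain ⟨s, h0, hs⟩ := exists_htpy E F d v
  refine LinearMap.ext fun x => ?_
  obtain ⟨z, rfl⟩ := toH_surjective a n x
  rw [L.mapH_toH, L'.mapH_toH, ← sub_eq_zero, ← map_sub, toH_eq_zero]
  show v.u n z ∈ F.cobdy a n
  cases n with
  | zero =>
    rw [← h0, LinearMap.mem_ker.1 z.2.2, map_zero]
    exact zero_mem _
  | succ n =>
    have := hs n z
    rw [LinearMap.mem_ker.1 z.2.2, map_zero, eq_comm, sub_eq_zero] at this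
    rw [this]
    exact Submodule.mem_map_of_mem (map_gam_le (s n) (Submodule.mem_map_of_mem z.2.1))

variable (E F) in
/-- The map on graded local cohomology induced by a homogeneous map. -/
noncomputable def mapH {φ : M →ₗ[R] N} {d : ι} (hφ : GrLC.IsGrHomDeg ℳ 𝒩 φ d) (n : ℕ) :
    E.H a n →ₗ[R] F.H a n :=
  (someLift E F φ d hφ).mapH a n

theorem mapH_eq {φ : M →ₗ[R] N} {d : ι} (hφ : GrLC.IsGrHomDeg ℳ 𝒩 φ d) (L : Lift E F φ d) (n : ℕ) :
    mapH E F a hφ n = L.mapH a n :=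
  Lift.mapH_eq a _ L n

/-- The identity lift. -/
def idLift (E : GrLC.StarInjRes 𝒜 ℳ) : Lift E E (LinearMap.id : M →ₗ[R] M) 0 where
  u n := LinearMap.id
  deg n := grHomDeg_zero_iff.2 fun _ _ h => h
  comm₀ _ := rfl
  comm _ _ := rfl

theorem mapH_id (hid : GrLC.IsGrHomDeg ℳ ℳ (LinearMap.id : M →ₗ[R] M) 0) (n : ℕ) :
    mapH E E a hid n = LinearMap.id := by
  rw [mapH_eq a hid (idLift E)]
  refine LinearMap.ext fun x => ?_
  obtain ⟨z, rfl⟩ := toH_surjective a n x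
  rfl

theorem mapH_comp {φ : M →ₗ[R] N} {ψ : N →ₗ[R] P} {d e : ι} (hφ : GrLC.IsGrHomDeg ℳ 𝒩 φ d)
    (hψ : GrLC.IsGrHomDeg 𝒩 𝒬 ψ e) (h : GrLC.IsGrHomDeg ℳ 𝒬 (ψ ∘ₗ φ) (d + e)) (n : ℕ) :
    mapH E G a h n = mapH F G a hψ n ∘ₗ mapH E F a hφ n := by
  rw [mapH_eq a h
    { u := fun n => (someLift F G ψ e hψ).u n ∘ₗ (someLift E F φ d hφ).u n
      deg := fun n => deg_comp ((someLift E F φ d hφ).deg n) ((someLift F G ψ e hψ).deg n)
      comm₀ := fun m => by simp [(someLift E F φ d hφ).comm₀, (someLift F G ψ e hψ).comm₀]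
      comm := fun n x => by simp [(someLift E F φ d hφ).comm, (someLift F G ψ e hψ).comm] }]
  refine LinearMap.ext fun x => ?_
  obtain ⟨z, rfl⟩ := toH_surjective a n x
  rfl

theorem mapH_congr {φ ψ : M →ₗ[R] N} {d e : ι} (h : φ = ψ) (hd : d = e)
    (hφ : GrLC.IsGrHomDeg ℳ 𝒩 φ d) (hψ : GrLC.IsGrHomDeg ℳ 𝒩 ψ e) (n : ℕ) :
    mapH E F a hφ n = mapH E F a hψ n := by
  subst h hd
  rfl

theorem mapH_smul_id {x : R} {d : ι} (hx : x ∈ 𝒜 d)
    (h : GrLC.IsGrHomDeg ℳ ℳ (x • LinearMap.id : M →ₗ[R] M) d) (n : ℕ) :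
    mapH E E a h n = x • LinearMap.id := by
  rw [mapH_eq a h
    { u := fun n => x • LinearMap.id
      deg := fun n k y hy => by rw [add_comm]; exact smul_mem hx hy
      comm₀ := fun m => (E.ε.map_smul x m).symm
      comm := fun n y => ((E.d n).map_smul x y).symm }]
  refine LinearMap.ext fun y => ?_
  obtain ⟨z, rfl⟩ := toH_surjective a n y
  rfl

theorem smul_id_grHomDeg {x : R} {d : ι} (hx : x ∈ 𝒜 d) :
    GrLC.IsGrHomDeg ℳ ℳ (x • LinearMap.id : M →ₗ[R] M) d := fun k y hy => by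
  rw [add_comm]; exact smul_mem hx hy

theorem mem_Hgr {n : ℕ} {g : ι} {x : E.H a n} :
    x ∈ E.Hgr a n g ↔ ∃ z : E.cocyc a n, (z : (E.X n).carrier) ∈ (E.X n).gr g ∧ E.toH a n z = x :=
  Iff.rfl

theorem mapH_grHomDeg {φ : M →ₗ[R] N} {d : ι} (hφ : GrLC.IsGrHomDeg ℳ 𝒩 φ d) (n : ℕ) :
    GrLC.IsGrHomDeg (E.Hgr a n) (F.Hgr a n) (mapH E F a hφ n) d := by
  rintro g x ⟨z, hz, rfl⟩
  exact ⟨⟨_, (someLift E F φ d hφ).mem_cocyc a n z.2⟩, (someLift E F φ d hφ).deg n g _ hz, rfl⟩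

variable (E) in
/-- Comparison of two resolutions of the same module. -/
noncomputable def compEquiv (E' : GrLC.StarInjRes 𝒜 ℳ) (n : ℕ) : E.H a n ≃ₗ[R] E'.H a n :=
  have hid : GrLC.IsGrHomDeg ℳ ℳ (LinearMap.id : M →ₗ[R] M) 0 := grHomDeg_zero_iff.2 fun _ _ h => h
  LinearEquiv.ofLinear (mapH E E' a hid n) (mapH E' E a hid n)
    (by
      rw [← mapH_comp a hid hid (by simpa using hid) n,
        mapH_congr a (LinearMap.comp_id _) (add_zero 0) _ hid, mapH_id])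
    (by
      rw [← mapH_comp a hid hid (by simpa using hid) n,
        mapH_congr a (LinearMap.comp_id _) (add_zero 0) _ hid, mapH_id])

theorem compEquiv_apply (E' : GrLC.StarInjRes 𝒜 ℳ) (n : ℕ) (x : E.H a n) :
    compEquiv E a E' n x = mapH E E' a (φ := LinearMap.id) (d := 0) (grHomDeg_zero_iff.2 fun _ _ h => h) n x := rfl

theorem compEquiv_mem (E' : GrLC.StarInjRes 𝒜 ℳ) (n : ℕ) {g : ι} {x : E.H a n}
    (hx : x ∈ E.Hgr a n g) : compEquiv E a E' n x ∈ E'.Hgr a n g := by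
  have := mapH_grHomDeg (E := E) (F := E') a (φ := LinearMap.id) (d := 0)
    (grHomDeg_zero_iff.2 fun _ _ h => h) n g x hx
  rwa [add_zero] at this

theorem compEquiv_mem_iff (E' : GrLC.StarInjRes 𝒜 ℳ) (n : ℕ) {g : ι} {x : E.H a n} :
    compEquiv E a E' n x ∈ E'.Hgr a n g ↔ x ∈ E.Hgr a n g := by
  refine ⟨fun h => ?_, compEquiv_mem a E' n⟩
  have := compEquiv_mem (E := E') a E n h
  have e : compEquiv E' a E n (compEquiv E a E' n x) = x := (compEquiv E a E' n).symm_apply_apply x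
  rwa [e] at this

theorem eq_bot_iff_of_comp (E' : GrLC.StarInjRes 𝒜 ℳ) (n : ℕ) (g : ι) :
    E.Hgr a n g = ⊥ ↔ E'.Hgr a n g = ⊥ := by
  simp only [AddSubgroup.eq_bot_iff_forall]
  constructor
  · intro h y hy
    obtain ⟨x, rfl⟩ := (compEquiv E a E' n).surjective y
    rw [h x ((compEquiv_mem_iff a E' n).1 hy), map_zero]
  · intro h x hx
    exact (LinearEquiv.map_eq_zero_iff _).1 (h _ (compEquiv_mem a E' n hx))

theorem isHomogeneous_cocyc (n : ℕ) : (E.cocyc a n).IsHomogeneous (E.X n).gr :=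
  isHomogeneous_inf _ (isHomogeneous_gam (𝒜 := 𝒜) a.isHomogeneous) (isHomogeneous_ker (E.d_grHom n))

theorem isHomogeneous_cobdy (n : ℕ) : (E.cobdy a n).IsHomogeneous (E.X n).gr := by
  cases n with
  | zero => exact isHomogeneous_bot _
  | succ n => exact isHomogeneous_map (E.d_grHom n) (isHomogeneous_gam (𝒜 := 𝒜) a.isHomogeneous)

theorem Hgr_eq (n : ℕ) : E.Hgr a n =
    qGr (subGr (E.X n).gr (E.cocyc a n)) ((E.cobdy a n).comap (E.cocyc a n).subtype) := rfl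

variable (E) in
/-- The graded local cohomology is decomposed by its pieces. -/
noncomputable abbrev Hdecomp (n : ℕ) : Decomposition (E.Hgr a n) :=
  letI := subDecomp (E.X n).gr (isHomogeneous_cocyc (E := E) a n)
  qDecomp (subGr (E.X n).gr (E.cocyc a n))
    (isHomogeneous_comap (subtype_grHom _) (isHomogeneous_cobdy a n))

theorem isInternal_Hgr (n : ℕ) : DirectSum.IsInternal (E.Hgr a n) :=
  letI := Hdecomp E a n
  Decomposition.isInternal (E.Hgr a n)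

instance Hgr_gradedSMul (n : ℕ) : SetLike.GradedSMul 𝒜 (E.Hgr a n) where
  smul_mem {b g r x} hr hx := by
    obtain ⟨z, hz, rfl⟩ := hx
    rw [vadd_eq_add]
    exact ⟨r • z, smul_mem hr hz, map_smul _ _ _⟩

end cohomology

end Groth.Agent.GrLib
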