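import Groth.Agent.GrLib.LES
import Groth.Agent.LocCoh.Local
import Groth.Agent.LocCoh.Injectives
import Mathlib.Algebra.Category.ModuleCat.Projective
import Mathlib.Algebra.Homology.DerivedCategory.Ext.EnoughProjectives
import Mathlib.RingTheory.Noetherian.Basic
import Mathlib.LinearAlgebra.StdBasis

/-!
*injective modules are acyclic for `Ext` out of finite graded modules and for local cohomology;
graded local cohomology computes local cohomology.
-/

set_option autoImplicit false
set_option linter.unusedSectionVars false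
set_option linter.unusedVariables false
set_option linter.style.haveILetI false

universe u

open DirectSum CategoryTheory Abelian

namespace Groth.Agent.GrLib

variable {ι : Type} [AddCommGroup ι] [DecidableEq ι]
variable {R : Type u} [CommRing R] {σ : Type u} [SetLike σ R] [AddSubgroupClass σ R]
  {𝒜 : ι → σ} [GradedRing 𝒜]
variable {M : Type u} [AddCommGroup M] [Module R M] {τ : Type u} [SetLike τ M] [AddSubgroupClass τ M]
  {ℳ : ι → τ} [Decomposition ℳ] [SetLike.GradedSMul 𝒜 ℳ]
variable {N : Type u} [AddCommGroup N] [Module R N] {τ' : Type u} [SetLike τ' N] [AddSubgroupClass τ' N]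
  {𝒩 : ι → τ'} [Decomposition 𝒩] [SetLike.GradedSMul 𝒜 𝒩]

section homComponents

variable (𝒜) (f : M →ₗ[R] N)

variable (ℳ 𝒩) in
/-- The degree `d` component of a linear map, as an additive map. -/
noncomputable def homCompAdd (d : ι) : M →+ N :=
  (DirectSum.toAddMonoid (fun g => ((proj 𝒩 (g + d)).comp f.toAddMonoidHom).comp
    (AddSubmonoidClass.subtype (ℳ g)))).comp (decomposeAddEquiv ℳ).toAddMonoidHom

theorem homCompAdd_apply {d g : ι} {m : M} (hm : m ∈ ℳ g) :
    homCompAdd ℳ 𝒩 f d m = proj 𝒩 (g + d) (f m) := by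
  show DirectSum.toAddMonoid _ (decompose ℳ m) = _
  rw [decompose_of_mem ℳ hm, DirectSum.toAddMonoid_of]
  rfl

variable (ℳ 𝒩) in
/-- The degree `d` component of a linear map. -/
noncomputable def homComponent (d : ι) : M →ₗ[R] N :=
  linearOfHom 𝒜 ℳ (homCompAdd ℳ 𝒩 f d) fun a g r hr m hm => by
    rw [homCompAdd_apply f (smul_mem (ℳ := ℳ) hr hm), homCompAdd_apply f hm, map_smul, add_assoc,
      proj_smul (ℳ := 𝒩) hr]

theorem homComponent_apply {d g : ι} {m : M} (hm : m ∈ ℳ g) :
    homComponent 𝒜 ℳ 𝒩 f d m = proj 𝒩 (g + d) (f m) :=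
  homCompAdd_apply f hm

theorem homComponent_deg (d : ι) : GrLC.IsGrHomDeg ℳ 𝒩 (homComponent 𝒜 ℳ 𝒩 f d) d := fun g m hm => by
  rw [homComponent_apply 𝒜 f hm]
  exact proj_mem 𝒩 _ _

include 𝒜 in
/-- A finite graded module has a finite set of homogeneous generators. -/
theorem exists_hom_generators [Module.Finite R M] :
    ∃ (n : ℕ) (x : Fin n → M) (g : Fin n → ι), (∀ j, x j ∈ ℳ (g j)) ∧
      Submodule.span R (Set.range x) = ⊤ := by
  classical
  obtain ⟨s, hs⟩ := Module.Finite.fg_top (R := R) (M := M)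
  let T : Finset (ι × M) := s.biUnion fun m =>
    (decompose ℳ m).support.image fun g => (g, proj ℳ g m)
  refine ⟨T.card, fun j => ((T.equivFin.symm j : ι × M)).2, fun j => ((T.equivFin.symm j : ι × M)).1,
    fun j => ?_, eq_top_iff.2 ?_⟩
  · obtain ⟨m, _, hm⟩ := Finset.mem_biUnion.1 (T.equivFin.symm j).2
    obtain ⟨g, _, hg⟩ := Finset.mem_image.1 hm
    simp only
    rw [← hg]
    exact proj_mem ℳ g m
  · rw [← hs, Submodule.span_le]
    intro m hm
    rw [SetLike.mem_coe, ← sum_support_decompose ℳ m]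
    refine sum_mem fun g hg => Submodule.subset_span ?_
    have hT : (g, proj ℳ g m) ∈ T := Finset.mem_biUnion.2 ⟨m, hm, Finset.mem_image.2 ⟨g, hg, rfl⟩⟩
    exact ⟨T.equivFin ⟨_, hT⟩, by simp [proj_apply]⟩

include 𝒜 in
/-- A linear map out of a finite graded module is a finite sum of homogeneous ones. -/
theorem exists_sum_homComponent [Module.Finite R M] :
    ∃ S : Finset ι, f = ∑ d ∈ S, homComponent 𝒜 ℳ 𝒩 f d := by
  classical
  obtain ⟨n, x, g, hx, hspan⟩ := exists_hom_generators (ℳ := ℳ) 𝒜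
  refine ⟨Finset.univ.biUnion fun j => (decompose 𝒩 (f (x j))).support.image fun h => h - g j,
    LinearMap.ext_on_range hspan fun j => ?_⟩
  rw [LinearMap.sum_apply]
  rw [Finset.sum_congr rfl fun d _ => homComponent_apply 𝒜 f (hx j)]
  refine proj_ext 𝒩 fun h => ?_
  rw [map_sum]
  by_cases hh : h - g j ∈ Finset.univ.biUnion fun j => (decompose 𝒩 (f (x j))).support.image fun h => h - g j
  · rw [Finset.sum_eq_single (h - g j) (fun b _ hb => proj_of_mem_ne (proj_mem 𝒩 _ _)
      (fun e => hb (by rw [← e, add_sub_cancel_left]))) (fun hn => absurd hh hn), add_sub_cancel,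
      proj_of_mem (proj_mem 𝒩 h _)]
  · rw [Finset.sum_eq_zero fun b hb => proj_of_mem_ne (proj_mem 𝒩 _ _)
      (fun e => hh (by rw [← e, add_sub_cancel_left]; exact hb))]
    by_contra hne
    refine hh (Finset.mem_biUnion.2 ⟨j, Finset.mem_univ j, Finset.mem_image.2 ⟨h, ?_, rfl⟩⟩)
    rw [DFinsupp.mem_support_toFun]
    exact fun h0 => hne (by rw [proj_apply, h0]; rfl)

end homComponents

section free

variable {n : ℕ}

variable (𝒜) in
/-- The grading of a free module with basis in the degrees `g j`. -/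
def freeGr (g : Fin n → ι) (h : ι) : AddSubgroup (Fin n → R) :=
  ⨅ j, (AddSubgroup.ofClass (𝒜 (h - g j))).comap (Pi.evalAddMonoidHom (fun _ => R) j)

theorem mem_freeGr {g : Fin n → ι} {h : ι} {v : Fin n → R} :
    v ∈ freeGr 𝒜 g h ↔ ∀ j, v j ∈ 𝒜 (h - g j) := by
  simp only [freeGr, AddSubgroup.mem_iInf]
  rfl

variable (𝒜) in
/-- The free graded module is decomposed. -/
noncomputable abbrev freeDecomp (g : Fin n → ι) : Decomposition (freeGr 𝒜 g) :=
  decompositionOfProj (freeGr 𝒜 g)
    (fun h => AddMonoidHom.mk' (fun v j => proj 𝒜 (h - g j) (v j))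
      fun v w => funext fun j => map_add _ _ _)
    (fun h v hv => funext fun j => proj_of_mem (mem_freeGr.1 hv j))
    (fun h k hne v hv => funext fun j =>
      proj_of_mem_ne (mem_freeGr.1 hv j) fun e => hne (sub_left_injective e))
    (eq_top_iff.2 fun v _ => by
      classical
      rw [← Finset.univ_sum_single v]
      refine sum_mem fun j _ => ?_
      refine induction 𝒜 (motive := fun r => Pi.single j r ∈ ⨆ h, freeGr 𝒜 g h)
        (by rw [Pi.single_zero]; exact zero_mem _) (fun a r hr => AddSubgroup.mem_iSup_of_mem (a + g j) ?_)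
        (fun r r' hr hr' => by rw [Pi.single_add]; exact add_mem hr hr') (v j)
      refine mem_freeGr.2 fun k => ?_
      by_cases hk : k = j
      · subst hk
        rw [Pi.single_eq_same, add_sub_cancel_right]
        exact hr
      · rw [Pi.single_eq_of_ne hk]
        exact zero_mem _)

instance freeGr_gradedSMul (g : Fin n → ι) : SetLike.GradedSMul 𝒜 (freeGr 𝒜 g) where
  smul_mem {a h r v} hr hv := by
    rw [vadd_eq_add, mem_freeGr]
    intro j
    rw [add_sub_assoc]
    exact SetLike.mul_mem_graded hr (mem_freeGr.1 hv j)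

end free

section ext

variable [IsNoetherianRing R] {I : Type u} [AddCommGroup I] [Module R I]
  {τI : Type u} [SetLike τI I] [AddSubgroupClass τI I]
  {ℐ : ι → τI} [Decomposition ℐ] [SetLike.GradedSMul 𝒜 ℐ]

theorem subsingleton_ext_aux (hI : GrLC.IsStarInj 𝒜 ℐ) (i : ℕ) :
    ∀ {M : Type u} [AddCommGroup M] [Module R M] {τ : Type u} [SetLike τ M] [AddSubgroupClass τ M]
      {ℳ : ι → τ} [Decomposition ℳ] [SetLike.GradedSMul 𝒜 ℳ], Module.Finite R M →
      Subsingleton (Ext.{u} (ModuleCat.of R M) (ModuleCat.of R I) (i + 1)) := by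
  induction i with
  | zero =>
    intro M _ _ τ _ _ ℳ _ _ hM
    obtain ⟨n, x, g, hx, hspan⟩ := exists_hom_generators (ℳ := ℳ) 𝒜
    letI := freeDecomp 𝒜 g
    let p : (Fin n → R) →ₗ[R] M := Fintype.linearCombination R x
    have hp : Function.Surjective p := by
      rw [← LinearMap.range_eq_top, eq_top_iff, ← hspan, Submodule.span_le]
      rintro _ ⟨j, rfl⟩
      exact ⟨Pi.single j 1, by simp [p]⟩
    have hpg : GrLC.IsGrHom (freeGr 𝒜 g) ℳ p := fun h v hv => by
      rw [Fintype.linearCombination_apply]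
      refine sum_mem fun j _ => ?_
      have := smul_mem (ℳ := ℳ) (mem_freeGr.1 hv j) (hx j)
      rwa [sub_add_cancel] at this
    have hK := isHomogeneous_ker hpg
    letI := subDecomp (freeGr 𝒜 g) hK
    have hS := LocCoh.shortExact_of (f := (LinearMap.ker p).subtype) (g := p) Subtype.coe_injective hp
      (LinearMap.exact_subtype_ker_map p)
    haveI : Projective (ModuleCat.of R (Fin n → R)) :=
      (IsProjective.iff_projective _).1 inferInstance
    refine subsingleton_of_forall_eq 0 fun y => ?_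
    obtain ⟨z, rfl⟩ := Ext.contravariant_sequence_exact₃ hS (ModuleCat.of R I) y
      (Ext.eq_zero_of_projective _) (n₀ := 0) (add_zero 1)
    obtain ⟨φ, rfl⟩ : ∃ φ, Ext.mk₀ φ = z := ⟨_, Ext.mk₀_addEquiv₀_apply z⟩
    obtain ⟨S, hSφ⟩ := exists_sum_homComponent (ℳ := subGr (freeGr 𝒜 g) (LinearMap.ker p)) (𝒩 := ℐ) 𝒜 φ.hom
    choose e _ he using fun d => exists_extend_deg (ℳ := subGr (freeGr 𝒜 g) (LinearMap.ker p))
      hI (subtype_grHom (ℳ := freeGr 𝒜 g) (LinearMap.ker p)) Subtype.coe_injective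
      (homComponent_deg (ℳ := subGr (freeGr 𝒜 g) (LinearMap.ker p)) (𝒩 := ℐ) 𝒜 φ.hom d)
    have hφ : φ = ModuleCat.ofHom (LinearMap.ker p).subtype ≫ ModuleCat.ofHom (∑ d ∈ S, e d) := by
      refine ModuleCat.hom_ext ?_
      conv_lhs => rw [hSφ, Finset.sum_congr rfl fun d _ => (he d).symm]
      exact LinearMap.ext fun w => by simp [LinearMap.sum_apply]
    rw [hφ, ← Ext.mk₀_comp_mk₀]
    exact hS.extClass_comp_assoc _
  | succ i ih =>
    intro M _ _ τ _ _ ℳ _ _ hM
    obtain ⟨n, x, g, hx, hspan⟩ := exists_hom_generators (ℳ := ℳ) 𝒜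
    letI := freeDecomp 𝒜 g
    let p : (Fin n → R) →ₗ[R] M := Fintype.linearCombination R x
    have hp : Function.Surjective p := by
      rw [← LinearMap.range_eq_top, eq_top_iff, ← hspan, Submodule.span_le]
      rintro _ ⟨j, rfl⟩
      exact ⟨Pi.single j 1, by simp [p]⟩
    have hpg : GrLC.IsGrHom (freeGr 𝒜 g) ℳ p := fun h v hv => by
      rw [Fintype.linearCombination_apply]
      refine sum_mem fun j _ => ?_
      have := smul_mem (ℳ := ℳ) (mem_freeGr.1 hv j) (hx j)
      rwa [sub_add_cancel] at this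
    have hK := isHomogeneous_ker hpg
    letI := subDecomp (freeGr 𝒜 g) hK
    have hS := LocCoh.shortExact_of (f := (LinearMap.ker p).subtype) (g := p) Subtype.coe_injective hp
      (LinearMap.exact_subtype_ker_map p)
    haveI : Projective (ModuleCat.of R (Fin n → R)) :=
      (IsProjective.iff_projective _).1 inferInstance
    have := ih (M := LinearMap.ker p) (ℳ := subGr (freeGr 𝒜 g) (LinearMap.ker p)) inferInstance
    refine subsingleton_of_forall_eq 0 fun y => ?_
    obtain ⟨z, rfl⟩ := Ext.contravariant_sequence_exact₃ hS (ModuleCat.of R I) y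
      (Ext.eq_zero_of_projective _) (n₀ := i + 1) (by omega)
    rw [Subsingleton.elim z 0, Ext.comp_zero]

include ℳ in
theorem subsingleton_ext_of_isStarInj (hI : GrLC.IsStarInj 𝒜 ℐ) (i : ℕ) (hM : Module.Finite R M) :
    Subsingleton (Ext.{u} (ModuleCat.of R M) (ModuleCat.of R I) (i + 1)) :=
  subsingleton_ext_aux hI i (ℳ := ℳ) hM

theorem subsingleton_H_of_isStarInj (hI : GrLC.IsStarInj 𝒜 ℐ) (a : HomogeneousIdeal 𝒜) {i : ℕ}
    (hi : 0 < i) : Subsingleton (_root_.LocCoh.H a.toIdeal i I) := by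
  obtain ⟨j, rfl⟩ : ∃ j, i = j + 1 := ⟨i - 1, by omega⟩
  refine LocCoh.subsingleton_H_of_ext fun n => ?_
  letI := qDecomp 𝒜 (p := (a.toIdeal ^ n : Submodule R R)) (isHomogeneous_pow 𝒜 a.isHomogeneous n)
  exact subsingleton_ext_aux (ℳ := qGr 𝒜 (a.toIdeal ^ n : Submodule R R)) hI j inferInstance

end ext

section comparison

variable [IsNoetherianRing R] (E : GrLC.StarInjRes 𝒜 ℳ) (a : HomogeneousIdeal 𝒜)

/-- The cosyzygies. -/
abbrev Z (n : ℕ) : Submodule R (E.X n).carrier := LinearMap.ker (E.d n)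

/-- The differential onto the next cosyzygy. -/
def dZ (n : ℕ) : (E.X n).carrier →ₗ[R] Z E (n + 1) :=
  LinearMap.codRestrict _ (E.d n) fun x => d_comp_d E n x

theorem dZ_surjective (n : ℕ) : Function.Surjective (dZ E n) := fun ⟨y, hy⟩ => by
  obtain ⟨x, rfl⟩ := exists_d_eq E n hy
  exact ⟨x, rfl⟩

theorem dZ_exact (n : ℕ) : Function.Exact (Z E n).subtype (dZ E n) := by
  intro x
  constructor
  · intro hx
    exact ⟨⟨x, congrArg Subtype.val hx⟩, rfl⟩
  · rintro ⟨y, rfl⟩
    exact Subtype.ext y.2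

theorem nonempty_shift (i : ℕ) : ∀ n, Nonempty
    (_root_.LocCoh.H a.toIdeal (i + 1) (Z E n) ≃ₗ[R] _root_.LocCoh.H a.toIdeal 1 (Z E (n + i))) := by
  induction i with
  | zero => exact fun n => ⟨LinearEquiv.refl R _⟩
  | succ i ih =>
    intro n
    obtain ⟨e⟩ := ih (n + 1)
    haveI := subsingleton_H_of_isStarInj (E.starInj n) a (i := i + 1) (by omega)
    haveI := subsingleton_H_of_isStarInj (E.starInj n) a (i := i + 1 + 1) (by omega)
    rw [show n + (i + 1) = n + 1 + i by omega]
    exact ⟨(LocCoh.shiftEquiv (I := a.toIdeal) (Z E n).injective_subtype (dZ_surjective E n)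
      (dZ_exact E n) (i + 1)).symm.trans e⟩

/-- Power torsion of a cosyzygy is the cocycles. -/
def torsionEquiv (n : ℕ) : LocCoh.powTorsion a.toIdeal (Z E n) ≃ₗ[R] E.cocyc a n where
  toFun x := ⟨x.1.1, by
    obtain ⟨k, hk⟩ := x.2
    exact ⟨k, fun r hr => congrArg Subtype.val (hk r hr)⟩, x.1.2⟩
  invFun z := ⟨⟨z.1, z.2.2⟩, by
    obtain ⟨k, hk⟩ := z.2.1
    exact ⟨k, fun r hr => Subtype.ext (hk r hr)⟩⟩
  left_inv _ := rfl
  right_inv _ := rfl
  map_add' _ _ := rfl
  map_smul' _ _ := rfl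

/-- Graded local cohomology computes local cohomology. -/
theorem nonempty_H_equiv (i : ℕ) : Nonempty (E.H a i ≃ₗ[R] _root_.LocCoh.H a.toIdeal i M) := by
  let eM : M ≃ₗ[R] Z E 0 :=
    (LinearEquiv.ofInjective E.ε E.ε_injective).trans (LinearEquiv.ofEq _ _ E.exact_zero.symm)
  cases i with
  | zero =>
    refine ⟨(Submodule.quotEquivOfEqBot _ ?_).trans ((torsionEquiv E a 0).symm.trans
      ((LocCoh.H0Equiv a.toIdeal (Z E 0)).symm.trans (LocCoh.Hequiv a.toIdeal 0 eM).symm))⟩
    rw [eq_bot_iff]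
    exact fun z hz => (Submodule.mem_bot R).2 (Subtype.ext ((Submodule.mem_bot R).1 hz))
  | succ n =>
    obtain ⟨e⟩ := nonempty_shift E a n 0
    rw [zero_add] at e
    haveI := subsingleton_H_of_isStarInj (E.starInj n) a (i := 1) one_pos
    have e₁ := LocCoh.H1Equiv (I := a.toIdeal) (Z E n).injective_subtype (dZ_surjective E n) (dZ_exact E n)
    refine ⟨(Submodule.Quotient.equiv _ _ (torsionEquiv E a (n + 1)).symm ?_).trans
      (e₁.trans (e.symm.trans (LocCoh.Hequiv a.toIdeal (n + 1) eM).symm))⟩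
    refine le_antisymm ?_ ?_
    · rintro _ ⟨z, hz, rfl⟩
      obtain ⟨w, hw, hwz⟩ := hz
      exact ⟨⟨w, hw⟩, Subtype.ext (Subtype.ext hwz)⟩
    · rintro _ ⟨⟨w, hw⟩, rfl⟩
      refine ⟨⟨E.d n w, map_gam_le (E.d n) (Submodule.mem_map_of_mem hw), d_comp_d E n w⟩,
        Submodule.mem_map_of_mem hw, rfl⟩

end comparison

end Groth.Agent.GrLib
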