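import Groth.Agent.GrLib.FreeCoh
import Groth.Agent.GrLib.Std

/-!
Castelnuovo–Mumford regularity of modules over a polynomial ring: syzygies against local cohomology.
-/

set_option autoImplicit false
set_option linter.unusedSectionVars false
set_option linter.unusedVariables false
set_option linter.style.haveILetI false

universe u

open DirectSum MvPolynomial

namespace Groth.Agent.GrLib

section endDeg

variable {M : Type u} [AddCommGroup M]

theorem endDeg_le_iff (f : ℤ → AddSubgroup M) (c : WithBot (WithTop ℤ)) :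
    GrLC.endDeg f ≤ c ↔ ∀ n, f n ≠ ⊥ → ((n : WithTop ℤ) : WithBot (WithTop ℤ)) ≤ c :=
  iSup₂_le_iff

theorem endDeg_le_int (f : ℤ → AddSubgroup M) (d : ℤ) :
    GrLC.endDeg f ≤ ((d : WithTop ℤ) : WithBot (WithTop ℤ)) ↔ ∀ n, d < n → ∀ y ∈ f n, y = 0 := by
  rw [endDeg_le_iff]
  simp only [WithBot.coe_le_coe, WithTop.coe_le_coe, ← AddSubgroup.eq_bot_iff_forall]
  exact ⟨fun h n hn => by_contra fun hne => absurd (h n hne) (not_le.2 hn),
    fun h n hne => le_of_not_gt fun hn => hne (h n hn)⟩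

theorem endDeg_add_le_int (f : ℤ → AddSubgroup M) (i d : ℤ) :
    GrLC.endDeg f + ((i : WithTop ℤ) : WithBot (WithTop ℤ)) ≤ ((d : WithTop ℤ) : WithBot (WithTop ℤ)) ↔
      ∀ n, d < n + i → ∀ y ∈ f n, y = 0 := by
  have key : ∀ x : WithBot (WithTop ℤ), x + ((i : WithTop ℤ) : WithBot (WithTop ℤ)) ≤ ((d : WithTop ℤ) : WithBot (WithTop ℤ))
      ↔ x ≤ (((d - i : ℤ) : WithTop ℤ) : WithBot (WithTop ℤ)) := by
    intro x
    induction x with
    | bot => simp
    | coe x =>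
      induction x with
      | top =>
        rw [← WithBot.coe_add, WithTop.top_add, WithBot.coe_le_coe, WithBot.coe_le_coe]
        simp
      | coe x =>
        rw [← WithBot.coe_add, ← WithTop.coe_add]
        simp only [WithBot.coe_le_coe, WithTop.coe_le_coe]
        omega
  rw [key, endDeg_le_int]
  exact ⟨fun h n hn => h n (by omega), fun h n hn => h n (by omega)⟩

theorem iInf_int_le (x : WithBot (WithTop ℤ)) :
    (⨅ (r : ℤ) (_ : x ≤ ((r : WithTop ℤ) : WithBot (WithTop ℤ))), ((r : WithTop ℤ) : WithBot (WithTop ℤ))) = x := by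
  refine le_antisymm ?_ (le_iInf₂ fun r h => h)
  induction x with
  | bot =>
    generalize hI : (⨅ (r : ℤ) (_ : (⊥ : WithBot (WithTop ℤ)) ≤ ((r : WithTop ℤ) : WithBot (WithTop ℤ))),
      ((r : WithTop ℤ) : WithBot (WithTop ℤ))) = I
    have h : ∀ c : ℤ, I ≤ ((c : WithTop ℤ) : WithBot (WithTop ℤ)) := fun c => hI ▸
      iInf₂_le (f := fun (r : ℤ) _ => ((r : WithTop ℤ) : WithBot (WithTop ℤ))) c bot_le
    clear hI
    induction I with
    | bot => exact le_rfl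
    | coe I =>
      induction I with
      | top => exact absurd (WithBot.coe_le_coe.1 (h 0)) (not_le.2 (WithTop.coe_lt_top 0))
      | coe I =>
        have := h (I - 1)
        simp only [WithBot.coe_le_coe, WithTop.coe_le_coe] at this
        omega
  | coe x =>
    induction x with
    | top => exact le_top
    | coe x => exact iInf₂_le (f := fun (r : ℤ) _ => ((r : WithTop ℤ) : WithBot (WithTop ℤ))) x le_rfl

end endDeg

variable (k : Type u) [Field k] (m : ℕ)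


theorem irrel_eq_deg_one : (GrSyz.irrel (GrSyz.stdGr k (Fin m))).toIdeal = Ideal.span (((GrSyz.stdGr k (Fin m)) 1 : Submodule k (MvPolynomial (Fin m) k)) : Set (MvPolynomial (Fin m) k)) := by
  refine le_antisymm ?_ (Ideal.span_mono fun p hp => ⟨1, one_pos, hp⟩)
  rw [irrel_eq]
  exact Ideal.span_mono (Set.range_subset_iff.2 fun j => X_mem_stdGr k m j)

theorem irrel_ne_top : (GrSyz.irrel (GrSyz.stdGr k (Fin m))).toIdeal ≠ ⊤ := by
  rw [irrel_eq]
  intro h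
  have h1 : (1 : (MvPolynomial (Fin m) k)) ∈ Ideal.span (Set.range (X : Fin m → (MvPolynomial (Fin m) k))) := h ▸ Submodule.mem_top
  rw [← Set.image_univ, mem_ideal_span_X_image] at h1
  obtain ⟨i, -, hi⟩ := h1 0 (by rw [mem_support_iff]; simp)
  exact hi rfl

theorem cdLE_irrel : LocCoh.CdLE (MvPolynomial (Fin m) k) (GrSyz.irrel (GrSyz.stdGr k (Fin m))).toIdeal m := by
  classical
  intro M _ _ i hi
  rw [irrel_eq]
  have h := LocCoh.cdLE_span_finset (Finset.univ.image (X : Fin m → (MvPolynomial (Fin m) k)))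
  rw [Finset.coe_image, Finset.coe_univ, Set.image_univ] at h
  exact h M i (lt_of_le_of_lt (Finset.card_image_le.trans (by simp)) hi)

theorem stdGr_neg : ∀ n : ℤ, n < 0 → ∀ p ∈ (GrSyz.stdGr k (Fin m)) n, p = 0 := stdGr_eq_zero_of_neg k m

theorem isUnit_of_notMem (p : (MvPolynomial (Fin m) k)) (n : ℤ) (hp : p ∈ (GrSyz.stdGr k (Fin m)) n) (h : p ∉ (GrSyz.irrel (GrSyz.stdGr k (Fin m))).toIdeal) : IsUnit p := by
  rcases lt_trichotomy n 0 with hn | hn | hn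
  · rw [stdGr_eq_zero_of_neg k m n hn p hp] at h
    exact absurd (zero_mem _) h
  · subst hn
    have hC : p = C (coeff 0 p) := by
      refine MvPolynomial.ext _ _ fun d => ?_
      rw [coeff_C]
      split_ifs with hd
      · rw [hd]
      · by_contra hne
        have h0 := (GrSyz.mem_stdGr_iff k (Fin m) 0 p).1 hp hne
        refine hd (Finsupp.ext fun i => ?_)
        rw [Finsupp.weight_apply] at h0
        have := (Finset.sum_eq_zero_iff_of_nonneg (fun j _ => by simp)).1 h0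
        by_contra hi
        have h1 := this i (Finsupp.mem_support_iff.2 (Ne.symm hi))
        simp at h1
        exact hi (by simp [h1])
    rw [hC]
    refine (Ne.isUnit ?_).map C
    intro h0
    exact h (by rw [hC, h0, map_zero]; exact zero_mem _)
  · exact absurd (show p ∈ Ideal.span {q : MvPolynomial (Fin m) k | ∃ l : ℤ, 0 < l ∧ q ∈ GrSyz.stdGr k (Fin m) l} from Ideal.subset_span ⟨n, hn, hp⟩) h

variable {k m}
variable {M : Type u} [AddCommGroup M] [Module k M] [Module (MvPolynomial (Fin m) k) M] [Module.Finite (MvPolynomial (Fin m) k) M]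
  {ℳ : ℤ → Submodule k M} [Decomposition ℳ] [SetLike.GradedSMul (GrSyz.stdGr k (Fin m)) ℳ]

/-- Generation bounds of a minimal resolution against vanishing of local cohomology. -/
theorem isGenLE_iff (F : GrSyz.FreeRes (GrSyz.stdGr k (Fin m)) ℳ) (hF : F.IsMinimal (GrSyz.irrel (GrSyz.stdGr k (Fin m))).toIdeal)
    (E : GrLC.StarInjRes (GrSyz.stdGr k (Fin m)) ℳ) (d : ℤ) :
    F.IsGenLE d ↔ ∀ (i : ℕ) (n : ℤ), d < n + i → ∀ y ∈ E.Hgr (GrSyz.irrel (GrSyz.stdGr k (Fin m))) i n, y = 0 :=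
  ⟨fun h => Hgr_eq_zero_of_isGenLE F (GrSyz.irrel (GrSyz.stdGr k (Fin m))) m (fun E i n => Hgr_stdGr k m i E n) (cdLE_irrel k m) d h E,
    fun h => isGenLE_of_regular (stdGr_neg k m) (GrSyz.irrel (GrSyz.stdGr k (Fin m))) F (irrel_eq_deg_one k m) (irrel_ne_top k m) m
      (fun E i n => Hgr_stdGr k m i E n) hF E d h⟩

/-- Generation bounds against the ends of local cohomology. -/
theorem isGenLE_iff_endDeg (F : GrSyz.FreeRes (GrSyz.stdGr k (Fin m)) ℳ) (hF : F.IsMinimal (GrSyz.irrel (GrSyz.stdGr k (Fin m))).toIdeal)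
    (E : GrLC.StarInjRes (GrSyz.stdGr k (Fin m)) ℳ) (d : ℤ) :
    F.IsGenLE d ↔ ∀ i : ℕ, GrLC.endDeg (E.Hgr (GrSyz.irrel (GrSyz.stdGr k (Fin m))) i) + (((i : ℤ) : WithTop ℤ) : WithBot (WithTop ℤ)) ≤
      ((d : WithTop ℤ) : WithBot (WithTop ℤ)) := by
  rw [isGenLE_iff F hF E]
  exact forall_congr' fun i => (endDeg_add_le_int _ _ _).symm

variable (ℳ) in
include m in
theorem exists_minimal : ∃ F : GrSyz.FreeRes (GrSyz.stdGr k (Fin m)) ℳ, F.IsMinimal (GrSyz.irrel (GrSyz.stdGr k (Fin m))).toIdeal :=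
  exists_minimal_res (ℳ := ℳ) _ (isUnit_of_notMem k m)

theorem isRegLE_iff (E : GrLC.StarInjRes (GrSyz.stdGr k (Fin m)) ℳ) (d : ℤ) :
    GrSyz.IsRegLE (GrSyz.stdGr k (Fin m)) ℳ (GrSyz.irrel (GrSyz.stdGr k (Fin m))).toIdeal d ↔ ∀ (i : ℕ) (n : ℤ), d < n + i → ∀ y ∈ E.Hgr (GrSyz.irrel (GrSyz.stdGr k (Fin m))) i n, y = 0 := by
  constructor
  · rintro ⟨F, hF, hd⟩
    exact (isGenLE_iff F hF E d).1 hd
  · intro h
    obtain ⟨F, hF⟩ := exists_minimal (m := m) ℳ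
    exact ⟨F, hF, (isGenLE_iff F hF E d).2 h⟩

theorem isRegLE_iff_minimal (F : GrSyz.FreeRes (GrSyz.stdGr k (Fin m)) ℳ) (hF : F.IsMinimal (GrSyz.irrel (GrSyz.stdGr k (Fin m))).toIdeal) (d : ℤ) :
    GrSyz.IsRegLE (GrSyz.stdGr k (Fin m)) ℳ (GrSyz.irrel (GrSyz.stdGr k (Fin m))).toIdeal d ↔ F.IsGenLE d :=
  (isRegLE_iff (starRes (GrSyz.stdGr k (Fin m)) ℳ) d).trans (isGenLE_iff F hF _ d).symm

theorem reg_eq_of_iff {c : WithBot (WithTop ℤ)}
    (h : ∀ d : ℤ, GrSyz.IsRegLE (GrSyz.stdGr k (Fin m)) ℳ (GrSyz.irrel (GrSyz.stdGr k (Fin m))).toIdeal d ↔ c ≤ ((d : WithTop ℤ) : WithBot (WithTop ℤ))) :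
    GrSyz.reg (GrSyz.stdGr k (Fin m)) ℳ (GrSyz.irrel (GrSyz.stdGr k (Fin m))).toIdeal = c := by
  rw [GrSyz.reg]
  simp only [h]
  exact iInf_int_le c

theorem reg_eq_iSup (E : GrLC.StarInjRes (GrSyz.stdGr k (Fin m)) ℳ) : GrSyz.reg (GrSyz.stdGr k (Fin m)) ℳ (GrSyz.irrel (GrSyz.stdGr k (Fin m))).toIdeal =
    ⨆ i : ℕ, (GrLC.endDeg (E.Hgr (GrSyz.irrel (GrSyz.stdGr k (Fin m))) i) + (((i : ℤ) : WithTop ℤ) : WithBot (WithTop ℤ))) :=
  reg_eq_of_iff fun d => by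
    rw [isRegLE_iff E, iSup_le_iff]
    exact forall_congr' fun i => (endDeg_add_le_int _ _ _).symm

theorem reg_le_iff (E : GrLC.StarInjRes (GrSyz.stdGr k (Fin m)) ℳ) (d : ℤ) :
    GrSyz.reg (GrSyz.stdGr k (Fin m)) ℳ (GrSyz.irrel (GrSyz.stdGr k (Fin m))).toIdeal ≤ ((d : WithTop ℤ) : WithBot (WithTop ℤ)) ↔
      ∀ (i : ℕ) (n : ℤ), d < n + i → ∀ y ∈ E.Hgr (GrSyz.irrel (GrSyz.stdGr k (Fin m))) i n, y = 0 := by
  rw [reg_eq_iSup E, iSup_le_iff]
  exact forall_congr' fun i => endDeg_add_le_int _ _ _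

/-- Diagonal vanishing propagates. -/
theorem Hgr_eq_zero_of_diag (E : GrLC.StarInjRes (GrSyz.stdGr k (Fin m)) ℳ) {l : ℕ} (hl : 1 ≤ l) (d : ℤ)
    (h : ∀ i : ℕ, l ≤ i → E.Hcomp (GrSyz.irrel (GrSyz.stdGr k (Fin m))) i (d - i + 1) = ⊥) :
    ∀ (i : ℕ) (n : ℤ), l ≤ i → d < n + i → ∀ y ∈ E.Hgr (GrSyz.irrel (GrSyz.stdGr k (Fin m))) i n, y = 0 := by
  have key : ∀ (t : ℕ) (i : ℕ), l ≤ i → E.Hgr (GrSyz.irrel (GrSyz.stdGr k (Fin m))) i (d + 1 + t - i) = ⊥ := by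
    intro t
    induction t with
    | zero =>
      intro i hi
      rw [Hgr_eq_bot_iff, show d + 1 + ((0 : ℕ) : ℤ) - i = d - i + 1 by push_cast; ring]
      exact h i hi
    | succ t ih =>
      intro i hi
      rw [show d + 1 + ((t + 1 : ℕ) : ℤ) - i = d + 1 + t + 1 - i by push_cast; ring]
      exact Hgr_eq_bot_succ E (GrSyz.irrel (GrSyz.stdGr k (Fin m))) (irrel_eq_deg_one k m) hl _ ih i hi
  intro i n hi hn
  obtain ⟨t, ht⟩ : ∃ t : ℕ, n + i - (d + 1) = t := ⟨_, (Int.toNat_of_nonneg (by omega)).symm⟩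
  rw [show n = d + 1 + t - i by omega]
  exact AddSubgroup.eq_bot_iff_forall _ |>.1 (key t i hi)

/-- The usual definition of `d`-regularity. -/
theorem regular_iff (E : GrLC.StarInjRes (GrSyz.stdGr k (Fin m)) ℳ) (d : ℤ) :
    (GrLC.endDeg (E.Hgr (GrSyz.irrel (GrSyz.stdGr k (Fin m))) 0) ≤ ((d : WithTop ℤ) : WithBot (WithTop ℤ)) ∧
      ∀ i : ℕ, 0 < i → E.Hcomp (GrSyz.irrel (GrSyz.stdGr k (Fin m))) i (d - (i : ℤ) + 1) = ⊥) ↔
    ∀ (i : ℕ) (n : ℤ), d < n + i → ∀ y ∈ E.Hgr (GrSyz.irrel (GrSyz.stdGr k (Fin m))) i n, y = 0 := by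
  constructor
  · rintro ⟨h0, h1⟩ i n hn
    rcases Nat.eq_zero_or_pos i with rfl | hi
    · exact (endDeg_le_int _ _).1 h0 n (by simpa using hn)
    · exact Hgr_eq_zero_of_diag E le_rfl d (fun j hj => h1 j hj) i n hi hn
  · exact fun h => ⟨(endDeg_le_int _ _).2 fun n hn => h 0 n (by simpa using hn),
      fun i hi => (Hcomp_eq_bot_iff (GrSyz.irrel (GrSyz.stdGr k (Fin m))) i _).2 (h i _ (by omega))⟩

end Groth.Agent.GrLib
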