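import Groth.Agent.GrLib.Derived
import Mathlib.RingTheory.Artinian.Module
import Mathlib.RingTheory.Noetherian.Basic

/-!
Homogeneous pieces as modules over the degree zero subring.
-/

set_option autoImplicit false
set_option linter.unusedSectionVars false
set_option linter.unusedVariables false
set_option linter.style.haveILetI false

universe u

open DirectSum

namespace Groth.Agent.GrLib

variable {ι : Type} [AddCommGroup ι] [DecidableEq ι]
variable {R : Type u} [CommRing R] {σ : Type u} [SetLike σ R] [AddSubgroupClass σ R]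
  {𝒜 : ι → σ} [GradedRing 𝒜]
variable {M : Type u} [AddCommGroup M] [Module R M] {τ : Type u} [SetLike τ M] [AddSubgroupClass τ M]
  {ℳ : ι → τ} [Decomposition ℳ] [SetLike.GradedSMul 𝒜 ℳ]
variable {N : Type u} [AddCommGroup N] [Module R N] {τ' : Type u} [SetLike τ' N] [AddSubgroupClass τ' N]
  {𝒩 : ι → τ'} [Decomposition 𝒩] [SetLike.GradedSMul 𝒜 𝒩]
variable {P : Type u} [AddCommGroup P] [Module R P] {τ'' : Type u} [SetLike τ'' P] [AddSubgroupClass τ'' P]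
  {𝒬 : ι → τ''} [Decomposition 𝒬] [SetLike.GradedSMul 𝒜 𝒬]

section piece

variable (𝒜 ℳ)

omit [Decomposition ℳ] in
theorem mem_comp {g : ι} {m : M} : m ∈ GrLC.comp 𝒜 ℳ g ↔ m ∈ ℳ g := Iff.rfl

/-- A submodule of a piece is recovered from the submodule it generates. -/
theorem span_inter_piece {g : ι} (Q : Submodule (GrLC.deg0 𝒜) (GrLC.comp 𝒜 ℳ g)) {y : GrLC.comp 𝒜 ℳ g}
    (hy : (y : M) ∈ Submodule.span R (Subtype.val '' (Q : Set (GrLC.comp 𝒜 ℳ g)))) : y ∈ Q := by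
  have key : ∀ x ∈ Submodule.span R (Subtype.val '' (Q : Set (GrLC.comp 𝒜 ℳ g))),
      ∀ r : R, (⟨proj ℳ g (r • x), proj_mem ℳ g _⟩ : GrLC.comp 𝒜 ℳ g) ∈ Q := by
    intro x hx
    induction hx using Submodule.span_induction with
    | mem x hx =>
      obtain ⟨q, hq, rfl⟩ := hx
      intro r
      have e : proj ℳ g (r • (q : M)) = proj 𝒜 0 r • (q : M) := by
        refine smul_induction 𝒜 (motive := fun r => proj ℳ g (r • (q : M)) = proj 𝒜 0 r • (q : M))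
          (by simp) ?_ ?_ r
        · intro a s hs
          by_cases h : a = 0
          · subst h
            rw [proj_of_mem hs]
            refine proj_of_mem ?_
            have := smul_mem (ℳ := ℳ) hs q.2
            rwa [zero_add] at this
          · rw [proj_of_mem_ne hs h, zero_smul]
            exact proj_of_mem_ne (smul_mem hs q.2) fun e => h (add_eq_right.1 e)
        · intro x y hx hy
          simp [add_smul, hx, hy]
      have := Q.smul_mem ⟨proj 𝒜 0 r, proj_mem 𝒜 0 r⟩ hq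
      convert this using 1
      exact Subtype.ext e
    | zero =>
      intro r
      convert Q.zero_mem using 1
      exact Subtype.ext (by simp)
    | add x y _ _ hx hy =>
      intro r
      convert add_mem (hx r) (hy r) using 1
      exact Subtype.ext (by simp [smul_add])
    | smul s x _ hx =>
      intro r
      convert hx (r * s) using 1
      exact Subtype.ext (by simp [mul_smul])
  convert key _ hy 1 using 1
  exact Subtype.ext (by rw [one_smul]; exact (proj_of_mem (ℳ := ℳ) y.2).symm)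

/-- The extension map from submodules of a piece. -/
def spanPiece (g : ι) (Q : Submodule (GrLC.deg0 𝒜) (GrLC.comp 𝒜 ℳ g)) : Submodule R M :=
  Submodule.span R (Subtype.val '' (Q : Set (GrLC.comp 𝒜 ℳ g)))

theorem spanPiece_strictMono (g : ι) : StrictMono (spanPiece 𝒜 ℳ g) := by
  intro Q Q' hlt
  refine lt_of_le_of_ne (Submodule.span_mono (Set.image_mono hlt.le)) fun e => hlt.not_ge fun y hy => ?_
  have h : (y : M) ∈ spanPiece 𝒜 ℳ g Q' := Submodule.subset_span ⟨y, hy, rfl⟩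
  rw [← e] at h
  exact span_inter_piece 𝒜 ℳ Q h

theorem isNoetherian_piece [IsNoetherian R M] (g : ι) :
    IsNoetherian (GrLC.deg0 𝒜) (GrLC.comp 𝒜 ℳ g) :=
  isNoetherian_mk (StrictMono.wellFoundedGT (spanPiece_strictMono 𝒜 ℳ g))

theorem isArtinian_piece [IsArtinian R M] (g : ι) :
    IsArtinian (GrLC.deg0 𝒜) (GrLC.comp 𝒜 ℳ g) :=
  StrictMono.wellFoundedLT (spanPiece_strictMono 𝒜 ℳ g)

theorem isNoetherianRing_deg0 [IsNoetherianRing R] : IsNoetherianRing (GrLC.deg0 𝒜) := by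
  haveI := isNoetherian_piece 𝒜 𝒜 0
  let e : GrLC.deg0 𝒜 ≃ₗ[GrLC.deg0 𝒜] GrLC.comp 𝒜 𝒜 0 :=
    { toFun := fun r => ⟨r.1, r.2⟩
      invFun := fun r => ⟨r.1, r.2⟩
      left_inv := fun _ => rfl
      right_inv := fun _ => rfl
      map_add' := fun _ _ => rfl
      map_smul' := fun _ _ => rfl }
  exact isNoetherian_of_linearEquiv e.symm

end piece

section restrict

/-- A homogeneous map on pieces. -/
def pieceMap {f : M →ₗ[R] N} {d : ι} (hf : GrLC.IsGrHomDeg ℳ 𝒩 f d) (g g' : ι) (h : g + d = g') :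
    GrLC.comp 𝒜 ℳ g →ₗ[GrLC.deg0 𝒜] GrLC.comp 𝒜 𝒩 g' :=
  ((f.restrictScalars (GrLC.deg0 𝒜)).comp (GrLC.comp 𝒜 ℳ g).subtype).codRestrict _
    fun m => show f m.1 ∈ 𝒩 g' from h ▸ hf g m.1 m.2

theorem pieceMap_apply {f : M →ₗ[R] N} {d : ι} (hf : GrLC.IsGrHomDeg ℳ 𝒩 f d) (g g' : ι) (h : g + d = g')
    (m : GrLC.comp 𝒜 ℳ g) : (pieceMap (𝒜 := 𝒜) hf g g' h m : N) = f m.1 := rfl

theorem pieceMap_exact {f : M →ₗ[R] N} {e : N →ₗ[R] P} {d d' : ι} (hf : GrLC.IsGrHomDeg ℳ 𝒩 f d)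
    (he : GrLC.IsGrHomDeg 𝒩 𝒬 e d') (hex : Function.Exact f e) (g g' g'' : ι) (h : g + d = g')
    (h' : g' + d' = g'') :
    Function.Exact (pieceMap (𝒜 := 𝒜) hf g g' h) (pieceMap (𝒜 := 𝒜) he g' g'' h') := by
  intro y
  constructor
  · intro hy
    obtain ⟨x, hx, hxy⟩ := exists_preimage hf (g := g) (y := y.1) (h ▸ y.2) ((hex y.1).1 (congrArg Subtype.val hy))
    exact ⟨⟨x, hx⟩, Subtype.ext hxy⟩
  · rintro ⟨x, rfl⟩
    exact Subtype.ext (hex.apply_apply_eq_zero x.1)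

theorem isNoetherian_piece_mid {f : M →ₗ[R] N} {e : N →ₗ[R] P} {d d' : ι} (hf : GrLC.IsGrHomDeg ℳ 𝒩 f d)
    (he : GrLC.IsGrHomDeg 𝒩 𝒬 e d') (hex : Function.Exact f e) (g g' g'' : ι) (h : g + d = g')
    (h' : g' + d' = g'') [IsNoetherian (GrLC.deg0 𝒜) (GrLC.comp 𝒜 ℳ g)]
    [IsNoetherian (GrLC.deg0 𝒜) (GrLC.comp 𝒜 𝒬 g'')] :
    IsNoetherian (GrLC.deg0 𝒜) (GrLC.comp 𝒜 𝒩 g') :=
  isNoetherian_of_range_eq_ker (pieceMap (𝒜 := 𝒜) hf g g' h) (pieceMap (𝒜 := 𝒜) he g' g'' h')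
    (LinearMap.exact_iff.1 (pieceMap_exact hf he hex g g' g'' h h')).symm

theorem isArtinian_piece_mid {f : M →ₗ[R] N} {e : N →ₗ[R] P} {d d' : ι} (hf : GrLC.IsGrHomDeg ℳ 𝒩 f d)
    (he : GrLC.IsGrHomDeg 𝒩 𝒬 e d') (hex : Function.Exact f e) (g g' g'' : ι) (h : g + d = g')
    (h' : g' + d' = g'') [IsArtinian (GrLC.deg0 𝒜) (GrLC.comp 𝒜 ℳ g)]
    [IsArtinian (GrLC.deg0 𝒜) (GrLC.comp 𝒜 𝒬 g'')] :
    IsArtinian (GrLC.deg0 𝒜) (GrLC.comp 𝒜 𝒩 g') :=
  isArtinian_of_range_eq_ker (pieceMap (𝒜 := 𝒜) hf g g' h) (pieceMap (𝒜 := 𝒜) he g' g'' h')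
    (LinearMap.exact_iff.1 (pieceMap_exact hf he hex g g' g'' h h')).symm

theorem eq_zero_of_exact {f : M →ₗ[R] N} {e : N →ₗ[R] P} {d d' : ι} (hf : GrLC.IsGrHomDeg ℳ 𝒩 f d)
    (he : GrLC.IsGrHomDeg 𝒩 𝒬 e d') (hex : Function.Exact f e) (g g' g'' : ι) (h : g + d = g')
    (h' : g' + d' = g'') (hM : ∀ x ∈ ℳ g, x = 0) (hP : ∀ x ∈ 𝒬 g'', x = 0) :
    ∀ y ∈ 𝒩 g', y = 0 := fun y hy => by
  obtain ⟨x, hx, rfl⟩ := exists_preimage hf (g := g) (h ▸ hy) ((hex y).1 (hP _ (h' ▸ he g' y hy)))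
  rw [hM x hx, map_zero]

end restrict

section Hcomp

variable {E : GrLC.StarInjRes 𝒜 ℳ} (a : HomogeneousIdeal 𝒜)

theorem isNoetherian_Hcomp_iff (i : ℕ) (g : ι) :
    IsNoetherian (GrLC.deg0 𝒜) (E.Hcomp a i g) ↔ IsNoetherian (GrLC.deg0 𝒜) (GrLC.comp 𝒜 (E.Hgr a i) g) :=
  Iff.rfl

theorem Hcomp_eq_bot_iff (i : ℕ) (g : ι) : E.Hcomp a i g = ⊥ ↔ ∀ x ∈ E.Hgr a i g, x = 0 := by
  rw [Submodule.eq_bot_iff]
  rfl

theorem Hgr_eq_bot_iff (i : ℕ) (g : ι) : E.Hgr a i g = ⊥ ↔ E.Hcomp a i g = ⊥ := by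
  rw [Hcomp_eq_bot_iff, AddSubgroup.eq_bot_iff_forall]

theorem exists_pow_smul_H (i : ℕ) (x : E.H a i) : ∃ k : ℕ, ∀ r ∈ a.toIdeal ^ k, r • x = 0 := by
  obtain ⟨z, rfl⟩ := toH_surjective a i x
  obtain ⟨k, hk⟩ := z.2.1
  exact ⟨k, fun r hr => by rw [← map_smul, show r • z = 0 from Subtype.ext (hk r hr), map_zero]⟩

end Hcomp

end Groth.Agent.GrLib
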