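import Groth.Agent.GrLib.Basic
import Mathlib.Algebra.Module.CharacterModule

/-!
*injective graded modules: extension lemmas, cofree modules, enough *injectives and the
existence of *injective resolutions.
-/

set_option autoImplicit false
set_option linter.unusedSectionVars false
set_option linter.unusedVariables false
set_option linter.style.haveILetI false

universe u

open DirectSum

namespace Groth.Agent.GrLib

variable {ι : Type} [AddCommGroup ι] [DecidableEq ι]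
variable {R : Type u} [CommRing R] {σ : Type u} [SetLike σ R] [AddSubgroupClass σ R]
  {𝒜 : ι → σ} [GradedRing 𝒜]
variable {M : Type u} [AddCommGroup M] [Module R M] {τ : Type u} [SetLike τ M] [AddSubgroupClass τ M]
  {ℳ : ι → τ} [Decomposition ℳ] [SetLike.GradedSMul 𝒜 ℳ]
variable {N : Type u} [AddCommGroup N] [Module R N] {τ' : Type u} [SetLike τ' N] [AddSubgroupClass τ' N]
  {𝒩 : ι → τ'} [Decomposition 𝒩] [SetLike.GradedSMul 𝒜 𝒩]
variable {I : Type u} [AddCommGroup I] [Module R I] {τI : Type u} [SetLike τI I] [AddSubgroupClass τI I]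
  {ℐ : ι → τI} [Decomposition ℐ] [SetLike.GradedSMul 𝒜 ℐ]

section extend

/-- The extension property, phrased unbundled: maps of degree `d` factor through degree zero maps. -/
theorem exists_factor_deg (hI : GrLC.IsStarInj 𝒜 ℐ) {f : M →ₗ[R] N} (hf : GrLC.IsGrHom ℳ 𝒩 f)
    {g : M →ₗ[R] I} {d : ι} (hg : GrLC.IsGrHomDeg ℳ ℐ g d)
    (hk : LinearMap.ker f ≤ LinearMap.ker g) :
    ∃ h : N →ₗ[R] I, GrLC.IsGrHomDeg 𝒩 ℐ h d ∧ h ∘ₗ f = g := by
  letI dA : Decomposition (shiftGr ℳ (-d)) := shiftDecomp ℳ (-d)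
  letI dB : Decomposition (shiftGr 𝒩 (-d)) := shiftDecomp 𝒩 (-d)
  have hf' : GrLC.IsGrHom (shiftGr ℳ (-d)) (shiftGr 𝒩 (-d)) f := fun k m hm => hf _ m hm
  have hg' : GrLC.IsGrHom (shiftGr ℳ (-d)) ℐ g := fun k m hm => by
    have := hg _ m hm
    rwa [add_assoc, neg_add_cancel, add_zero] at this
  have hkh := isHomogeneous_ker hf'
  letI dQ : Decomposition (qGr (shiftGr ℳ (-d)) (LinearMap.ker f)) := qDecomp _ hkh
  obtain ⟨h, hh, hhf⟩ := hI (qGMod 𝒜 (shiftGr ℳ (-d)) _ hkh) (shiftGMod 𝒜 𝒩 (-d))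
    ((LinearMap.ker f).liftQ f le_rfl)
    (fun k x hx => by
      obtain ⟨m, hm, rfl⟩ := hx
      exact hf' k m hm)
    (LinearMap.ker_eq_bot.1 (Submodule.ker_liftQ_eq_bot _ _ _ le_rfl))
    ((LinearMap.ker f).liftQ g hk)
    (fun k x hx => by
      obtain ⟨m, hm, rfl⟩ := hx
      exact hg' k m hm)
  refine ⟨h, fun k x hx => hh (k + d) x ?_, LinearMap.ext fun m =>
    LinearMap.congr_fun hhf (Submodule.Quotient.mk m)⟩
  show x ∈ shiftGr 𝒩 (-d) (k + d)
  rw [mem_shiftGr, add_neg_cancel_right]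
  exact hx

theorem exists_factor (hI : GrLC.IsStarInj 𝒜 ℐ) {f : M →ₗ[R] N} (hf : GrLC.IsGrHom ℳ 𝒩 f)
    {g : M →ₗ[R] I} (hg : GrLC.IsGrHom ℳ ℐ g) (hk : LinearMap.ker f ≤ LinearMap.ker g) :
    ∃ h : N →ₗ[R] I, GrLC.IsGrHom 𝒩 ℐ h ∧ h ∘ₗ f = g := by
  obtain ⟨h, hh, e⟩ := exists_factor_deg hI hf (grHomDeg_zero_iff.2 hg) hk
  exact ⟨h, grHomDeg_zero_iff.1 hh, e⟩

theorem exists_extend (hI : GrLC.IsStarInj 𝒜 ℐ) {f : M →ₗ[R] N} (hf : GrLC.IsGrHom ℳ 𝒩 f)
    (hinj : Function.Injective f) {g : M →ₗ[R] I} (hg : GrLC.IsGrHom ℳ ℐ g) :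
    ∃ h : N →ₗ[R] I, GrLC.IsGrHom 𝒩 ℐ h ∧ h ∘ₗ f = g :=
  exists_factor hI hf hg (by rw [LinearMap.ker_eq_bot.2 hinj]; exact bot_le)

theorem exists_extend_deg (hI : GrLC.IsStarInj 𝒜 ℐ) {f : M →ₗ[R] N} (hf : GrLC.IsGrHom ℳ 𝒩 f)
    (hinj : Function.Injective f) {g : M →ₗ[R] I} {d : ι} (hg : GrLC.IsGrHomDeg ℳ ℐ g d) :
    ∃ h : N →ₗ[R] I, GrLC.IsGrHomDeg 𝒩 ℐ h d ∧ h ∘ₗ f = g :=
  exists_factor_deg hI hf hg (by rw [LinearMap.ker_eq_bot.2 hinj]; exact bot_le)

/-- A retract of a *injective module is *injective. -/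
theorem isStarInj_of_retract (hI : GrLC.IsStarInj 𝒜 ℐ) {s : M →ₗ[R] I} {r : I →ₗ[R] M}
    (hs : GrLC.IsGrHom ℳ ℐ s) (hr : GrLC.IsGrHom ℐ ℳ r) (hrs : r ∘ₗ s = LinearMap.id) :
    GrLC.IsStarInj 𝒜 ℳ := by
  intro A B f hf hinj g hg
  obtain ⟨h, hh, e⟩ := hI A B f hf hinj (s ∘ₗ g) (fun k x hx => hs k _ (hg k x hx))
  refine ⟨r ∘ₗ h, fun k x hx => hr k _ (hh k x hx), ?_⟩
  rw [LinearMap.comp_assoc, e, ← LinearMap.comp_assoc, hrs, LinearMap.id_comp]

theorem isStarInj_shift (hI : GrLC.IsStarInj 𝒜 ℐ) (d : ι) :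
    @GrLC.IsStarInj ι _ _ R _ σ _ _ 𝒜 _ I _ _ (AddSubgroup I) _ _ (shiftGr ℐ d) (shiftDecomp ℐ d) _ := by
  intro A B f hf hinj g hg
  exact exists_extend_deg (ℳ := A.gr) (𝒩 := B.gr) hI hf hinj (d := d) hg

theorem isStarInj_prod (hM : GrLC.IsStarInj 𝒜 ℳ) (hN : GrLC.IsStarInj 𝒜 𝒩) :
    @GrLC.IsStarInj ι _ _ R _ σ _ _ 𝒜 _ (M × N) _ _ (AddSubgroup (M × N)) _ _ (prodGr ℳ 𝒩)
      (prodDecomp ℳ 𝒩) _ := by
  intro A B f hf hinj g hg
  obtain ⟨h₁, hh₁, e₁⟩ := hM A B f hf hinj (LinearMap.fst R M N ∘ₗ g) fun k x hx => (hg k x hx).1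
  obtain ⟨h₂, hh₂, e₂⟩ := hN A B f hf hinj (LinearMap.snd R M N ∘ₗ g) fun k x hx => (hg k x hx).2
  refine ⟨h₁.prod h₂, fun k x hx => ⟨hh₁ k x hx, hh₂ k x hx⟩, LinearMap.ext fun a => Prod.ext ?_ ?_⟩
  · exact LinearMap.congr_fun e₁ a
  · exact LinearMap.congr_fun e₂ a

end extend

section cofree

variable (𝒜) {Λ : Type u} (deg : Λ → ι)

/-- The degree `n` piece of the cofree module. -/
def cofPiece (n : ι) : AddSubgroup (Λ → CharacterModule R) where
  carrier := {f | ∀ l j, j ≠ deg l - n → ∀ s ∈ 𝒜 j, f l s = 0}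
  zero_mem' := fun _ _ _ _ _ => rfl
  add_mem' := fun {f f'} hf hf' l j hj s hs => by
    show f l s + f' l s = 0
    rw [hf l j hj s hs, hf' l j hj s hs, add_zero]
  neg_mem' := fun {f} hf l j hj s hs => by
    show -(f l s) = 0
    rw [hf l j hj s hs, neg_zero]

theorem smul_mem_cofPiece {a n : ι} {r : R} (hr : r ∈ 𝒜 a) {f : Λ → CharacterModule R}
    (hf : f ∈ cofPiece 𝒜 deg n) : r • f ∈ cofPiece 𝒜 deg (a + n) := by
  intro l j hj s hs
  show f l (r • s) = 0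
  refine hf l (a + j) (fun e => hj ?_) _ (SetLike.mul_mem_graded hr hs)
  rw [sub_add_eq_sub_sub, sub_right_comm, ← e, add_sub_cancel_left]

/-- The carrier of the cofree module. -/
def cofSub : Submodule R (Λ → CharacterModule R) :=
  { (⨆ n, cofPiece 𝒜 deg n : AddSubgroup (Λ → CharacterModule R)) with
    smul_mem' := fun r f hf => by
      refine smul_induction 𝒜 (motive := fun r => r • f ∈ ⨆ n, cofPiece 𝒜 deg n) ?_ ?_ ?_ r
      · rw [zero_smul]; exact zero_mem _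
      · intro a s hs
        refine AddSubgroup.iSup_induction (cofPiece 𝒜 deg)
          (C := fun f => s • f ∈ ⨆ n, cofPiece 𝒜 deg n) hf
          (fun n x hx => AddSubgroup.mem_iSup_of_mem (a + n) (smul_mem_cofPiece 𝒜 deg hs hx)) ?_ ?_
        · rw [smul_zero]; exact zero_mem _
        · intro x y hx hy; rw [smul_add]; exact add_mem hx hy
      · intro x y hx hy; rw [add_smul]; exact add_mem hx hy }

/-- The grading of the cofree module. -/
def cofGr (n : ι) : AddSubgroup (cofSub 𝒜 deg) :=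
  (cofPiece 𝒜 deg n).comap (cofSub 𝒜 deg).subtype.toAddMonoidHom

/-- The projections of the cofree module. -/
noncomputable def cofProj (n : ι) : cofSub 𝒜 deg →+ cofSub 𝒜 deg :=
  AddMonoidHom.mk' (fun f => ⟨fun l => AddMonoidHom.comp (f.1 l) (proj 𝒜 (deg l - n)),
    AddSubgroup.mem_iSup_of_mem n (fun l j hj s hs => by
      show f.1 l (proj 𝒜 (deg l - n) s) = 0
      rw [proj_of_mem_ne hs hj, map_zero])⟩)
    fun f f' => Subtype.ext (funext fun l => AddMonoidHom.ext fun s => rfl)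

noncomputable instance cofDecomp : Decomposition (cofGr 𝒜 deg) :=
  decompositionOfProj (cofGr 𝒜 deg) (cofProj 𝒜 deg)
    (fun n f hf => Subtype.ext (funext fun l => by
      refine addHom_ext 𝒜 fun j s hs => ?_
      show f.1 l (proj 𝒜 (deg l - n) s) = f.1 l s
      by_cases hj : j = deg l - n
      · subst hj; rw [proj_of_mem hs]
      · rw [proj_of_mem_ne hs hj, map_zero]
        exact (hf l j hj s hs).symm))
    (fun n h hne f hf => Subtype.ext (funext fun l => by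
      refine addHom_ext 𝒜 fun j s hs => ?_
      show f.1 l (proj 𝒜 (deg l - n) s) = 0
      exact hf l (deg l - n) (fun e => hne (sub_right_injective e).symm) _ (proj_mem 𝒜 _ s)))
    (eq_top_iff.2 fun x _ => by
      have key : ∀ y : Λ → CharacterModule R, y ∈ ⨆ n, cofPiece 𝒜 deg n →
          ∃ z ∈ ⨆ n, cofGr 𝒜 deg n, (z : Λ → CharacterModule R) = y := by
        intro y hy
        refine AddSubgroup.iSup_induction (cofPiece 𝒜 deg)
          (C := fun y => ∃ z ∈ ⨆ n, cofGr 𝒜 deg n, (z : Λ → CharacterModule R) = y) hy ?_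
          ⟨0, zero_mem _, rfl⟩ ?_
        · intro n v hv
          exact ⟨⟨v, AddSubgroup.mem_iSup_of_mem n hv⟩, AddSubgroup.mem_iSup_of_mem n hv, rfl⟩
        · rintro _ _ ⟨a, ha, rfl⟩ ⟨b, hb, rfl⟩
          exact ⟨a + b, add_mem ha hb, rfl⟩
      obtain ⟨z, hz, e⟩ := key x.1 x.2
      rwa [Subtype.ext e] at hz)

instance cofGradedSMul : SetLike.GradedSMul 𝒜 (cofGr 𝒜 deg) where
  smul_mem {a n r f} hr hf := by
    rw [vadd_eq_add]
    exact smul_mem_cofPiece 𝒜 deg hr hf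

/-- The cofree module as a graded module. -/
noncomputable def cof : GrLC.GMod.{u} 𝒜 where
  carrier := cofSub 𝒜 deg
  gr := cofGr 𝒜 deg

variable {𝒜} {deg}

/-- The map into the cofree module defined by a family of characters. -/
noncomputable def toCof (χ : Λ → (M →+ AddCircle (1 : ℚ))) :
    M →+ (Λ → CharacterModule R) :=
  AddMonoidHom.mk' (fun m l => AddMonoidHom.mk' (fun s => χ l (proj ℳ (deg l) (s • m)))
      fun s t => by rw [add_smul, map_add, map_add])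
    fun m m' => funext fun l => AddMonoidHom.ext fun s => by
      show χ l (proj ℳ (deg l) (s • (m + m'))) = χ l (proj ℳ (deg l) (s • m)) + χ l (proj ℳ (deg l) (s • m'))
      rw [smul_add, map_add, map_add]

theorem toCof_apply (χ : Λ → (M →+ AddCircle (1 : ℚ))) (m : M) (l : Λ) (s : R) :
    toCof (ℳ := ℳ) (deg := deg) χ m l s = χ l (proj ℳ (deg l) (s • m)) := rfl

theorem toCof_mem_piece (χ : Λ → (M →+ AddCircle (1 : ℚ))) {n : ι} {m : M} (hm : m ∈ ℳ n) :
    toCof (R := R) (ℳ := ℳ) (deg := deg) χ m ∈ cofPiece 𝒜 deg n := by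
  intro l j hj s hs
  rw [toCof_apply, proj_of_mem_ne (smul_mem (ℳ := ℳ) hs hm) (fun e => hj (by rw [← e, add_sub_cancel_right])),
    map_zero]

variable (𝒜) in
/-- The homogeneous linear map into the cofree module defined by a family of characters. -/
noncomputable def toCofL (χ : Λ → (M →+ AddCircle (1 : ℚ))) : M →ₗ[R] cofSub 𝒜 deg :=
  LinearMap.codRestrict (cofSub 𝒜 deg)
    { toFun := toCof (ℳ := ℳ) (deg := deg) χ
      map_add' := map_add _
      map_smul' := fun r m => funext fun l => AddMonoidHom.ext fun s => by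
        show χ l (proj ℳ (deg l) (s • r • m)) = χ l (proj ℳ (deg l) ((r • s) • m))
        rw [smul_smul, smul_eq_mul, mul_comm] }
    fun m => induction ℳ (motive := fun m => toCof (R := R) (ℳ := ℳ) (deg := deg) χ m ∈ cofSub 𝒜 deg)
      (by rw [map_zero]; exact zero_mem _)
      (fun n x hx => AddSubgroup.mem_iSup_of_mem n (toCof_mem_piece χ hx))
      (fun x y hx hy => by rw [map_add]; exact add_mem hx hy) m

theorem toCofL_grHom (χ : Λ → (M →+ AddCircle (1 : ℚ))) :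
    GrLC.IsGrHom ℳ (cofGr 𝒜 deg) (toCofL 𝒜 (ℳ := ℳ) χ) :=
  fun _ _ hm => toCof_mem_piece χ hm

variable (𝒜 deg) in
/-- The cofree module is *injective. -/
theorem isStarInj_cof : GrLC.IsStarInj 𝒜 (cofGr 𝒜 deg) := by
  intro A B f hf hinj g hg
  have hχ : ∀ l : Λ, ∃ χ : B.carrier →+ AddCircle (1 : ℚ), ∀ a,
      χ (f a) = (g (proj A.gr (deg l) a)).1 l 1 := by
    intro l
    obtain ⟨χ, hχ⟩ := CharacterModule.dual_surjective_of_injective (f.toAddMonoidHom.toIntLinearMap)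
      hinj (AddMonoidHom.mk' (fun a => (g (proj A.gr (deg l) a)).1 l 1) fun a b => by
        rw [map_add, map_add]; rfl)
    exact ⟨χ, fun a => DFunLike.congr_fun hχ a⟩
  choose χ hχ using hχ
  refine ⟨toCofL 𝒜 (ℳ := B.gr) χ, toCofL_grHom χ, LinearMap.ext fun a => Subtype.ext (funext fun l => ?_)⟩
  refine addHom_ext 𝒜 fun j s hs => ?_
  show χ l (proj B.gr (deg l) (s • f a)) = (g a).1 l s
  rw [← map_smul, proj_map hf, hχ]
  rw [proj_of_mem (proj_mem A.gr _ _)]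
  refine induction A.gr (motive := fun a => (g (proj A.gr (deg l) (s • a))).1 l 1 = (g a).1 l s) ?_ ?_ ?_ a
  · simp only [smul_zero, map_zero]; rfl
  · intro n x hx
    by_cases hj : j + n = deg l
    · rw [proj_of_mem (hj ▸ smul_mem hs hx), map_smul]
      show (g x).1 l (s • (1 : R)) = _
      rw [smul_eq_mul, mul_one]
    · rw [proj_of_mem_ne (smul_mem hs hx) hj, map_zero]
      exact ((hg n x hx) l j (fun e => hj (by rw [e, sub_add_cancel])) s hs).symm
  · intro x y hx hy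
    rw [smul_add, map_add, map_add, map_add]
    show (g _).1 l 1 + (g _).1 l 1 = (g x).1 l s + (g y).1 l s
    rw [hx, hy]

end cofree

section enough

variable (𝒜 ℳ) in
/-- The *injective module into which a graded module embeds. -/
noncomputable def hullBig : GrLC.GMod.{u} 𝒜 :=
  cof 𝒜 (Λ := ι × (M →+ AddCircle (1 : ℚ))) Prod.fst

variable (𝒜 ℳ) in
/-- The embedding into a *injective module. -/
noncomputable def toHullBig : M →ₗ[R] (hullBig 𝒜 (M := M)).carrier :=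
  toCofL 𝒜 (ℳ := ℳ) (deg := Prod.fst) fun l => l.2

theorem hullBig_starInj : GrLC.IsStarInj 𝒜 (hullBig 𝒜 (M := M)).gr :=
  isStarInj_cof 𝒜 _

theorem toHullBig_grHom : GrLC.IsGrHom ℳ (hullBig 𝒜 (M := M)).gr (toHullBig 𝒜 ℳ) :=
  toCofL_grHom _

theorem toHullBig_injective : Function.Injective (toHullBig 𝒜 ℳ) := by
  refine (injective_iff_map_eq_zero _).2 fun m hm => eq_zero_of_proj ℳ fun g => ?_
  refine CharacterModule.eq_zero_of_character_apply fun c => ?_
  have := DFunLike.congr_fun (congrFun (congrArg Subtype.val hm) (g, c)) (1 : R)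
  rw [← one_smul R m]
  exact this

theorem exists_starInj_embedding : ∃ (X : GrLC.GMod.{u} 𝒜) (e : M →ₗ[R] X.carrier),
    GrLC.IsStarInj 𝒜 X.gr ∧ GrLC.IsGrHom ℳ X.gr e ∧ Function.Injective e :=
  ⟨hullBig 𝒜, toHullBig 𝒜 ℳ, hullBig_starInj, toHullBig_grHom, toHullBig_injective⟩

/-- One step of the construction of a resolution. -/
structure Step (𝒜 : ι → σ) [GradedRing 𝒜] where
  /-- the term -/
  X : GrLC.GMod.{u} 𝒜
  /-- the image of the previous map -/
  K : Submodule R X.carrier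
  hom : K.IsHomogeneous X.gr
  inj : GrLC.IsStarInj 𝒜 X.gr

/-- The next step. -/
noncomputable def Step.next (S : Step 𝒜) : Step 𝒜 :=
  letI := qDecomp S.X.gr S.hom
  { X := hullBig 𝒜 (M := S.X.carrier ⧸ S.K)
    K := LinearMap.range (toHullBig 𝒜 (qGr S.X.gr S.K) ∘ₗ S.K.mkQ)
    hom := isHomogeneous_range (ℳ := S.X.gr) (fun k x hx =>
      toHullBig_grHom (ℳ := qGr S.X.gr S.K) k _ (mk_mem_qGr hx))
    inj := hullBig_starInj }

variable (𝒜 ℳ) in
/-- The steps of a resolution. -/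
noncomputable def steps : ℕ → Step 𝒜
  | 0 => { X := hullBig 𝒜 (M := M)
           K := LinearMap.range (toHullBig 𝒜 ℳ)
           hom := isHomogeneous_range toHullBig_grHom
           inj := hullBig_starInj }
  | n + 1 => (steps n).next

variable (𝒜 ℳ) in
/-- The differentials. -/
noncomputable def stepD (n : ℕ) : (steps 𝒜 ℳ n).X.carrier →ₗ[R] (steps 𝒜 ℳ (n + 1)).X.carrier :=
  letI := qDecomp (steps 𝒜 ℳ n).X.gr (steps 𝒜 ℳ n).hom
  toHullBig 𝒜 (qGr (steps 𝒜 ℳ n).X.gr (steps 𝒜 ℳ n).K) ∘ₗ (steps 𝒜 ℳ n).K.mkQ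

theorem stepD_ker (n : ℕ) : LinearMap.ker (stepD 𝒜 ℳ n) = (steps 𝒜 ℳ n).K := by
  let := qDecomp (steps 𝒜 ℳ n).X.gr (steps 𝒜 ℳ n).hom
  ext x
  exact (map_eq_zero_iff _ (toHullBig_injective (ℳ := qGr (steps 𝒜 ℳ n).X.gr _))).trans
    (Submodule.Quotient.mk_eq_zero _)

theorem stepD_grHom (n : ℕ) :
    GrLC.IsGrHom (steps 𝒜 ℳ n).X.gr (steps 𝒜 ℳ (n + 1)).X.gr (stepD 𝒜 ℳ n) := by
  letI := qDecomp (steps 𝒜 ℳ n).X.gr (steps 𝒜 ℳ n).hom
  exact fun k x hx => toHullBig_grHom (ℳ := qGr _ (steps 𝒜 ℳ n).K) k _ (mk_mem_qGr hx)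

variable (𝒜 ℳ) in
/-- A chosen *injective resolution. -/
noncomputable def starRes : GrLC.StarInjRes 𝒜 ℳ where
  X n := (steps 𝒜 ℳ n).X
  d := stepD 𝒜 ℳ
  ε := toHullBig 𝒜 ℳ
  d_grHom := stepD_grHom
  ε_grHom := toHullBig_grHom
  ε_injective := toHullBig_injective
  exact_zero := stepD_ker 0
  exact_succ n := stepD_ker (n + 1)
  starInj n := (steps 𝒜 ℳ n).inj

end enough

end Groth.Agent.GrLib
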