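import Groth.Agent.GrLib.Derived

/-!
Horseshoe lemma and the long exact sequence of graded local cohomology.
-/

set_option autoImplicit false
set_option linter.unusedSectionVars false
set_option linter.unusedVariables false
set_option linter.style.haveILetI false

universe u

open DirectSum

namespace Groth.Agent.GrLib

variable {ι : Type} [AddCommGroup ι] [DecidableEq ι]
variable {R : Type u} [CommRing R] {σ : Type u} [SetLike σ R] [AddSubgroupClass σ R]
  {𝒜 : ι → σ} [GradedRing 𝒜]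
variable {M : Type u} [AddCommGroup M] [Module R M] {τ : Type u} [SetLike τ M] [AddSubgroupClass τ M]
  {ℳ : ι → τ} [Decomposition ℳ] [SetLike.GradedSMul 𝒜 ℳ]
variable {N : Type u} [AddCommGroup N] [Module R N] {τ' : Type u} [SetLike τ' N] [AddSubgroupClass τ' N]
  {𝒩 : ι → τ'} [Decomposition 𝒩] [SetLike.GradedSMul 𝒜 𝒩]
variable {P : Type u} [AddCommGroup P] [Module R P] {τ'' : Type u} [SetLike τ'' P] [AddSubgroupClass τ'' P]
  {𝒬 : ι → τ''} [Decomposition 𝒬] [SetLike.GradedSMul 𝒜 𝒬]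
variable (E : GrLC.StarInjRes 𝒜 ℳ) (G : GrLC.StarInjRes 𝒜 𝒬)

section horseshoe

variable {f : M →ₗ[R] N} {g : N →ₗ[R] P}

/-- A partial twisting map. -/
def SigStep (n : ℕ) : Type u :=
  { s : (G.X n).carrier →ₗ[R] (E.X (n + 1)).carrier //
    GrLC.IsGrHom (G.X n).gr (E.X (n + 1)).gr s ∧ ∀ x, G.d n x = 0 → E.d (n + 1) (s x) = 0 }

theorem exists_sig_succ (n : ℕ) (s : SigStep E G n) :
    ∃ s' : SigStep E G (n + 1), ∀ x, s'.1 (G.d n x) = -E.d (n + 1) (s.1 x) := by
  obtain ⟨s', hs', e⟩ := exists_factor (E.starInj (n + 2)) (G.d_grHom n) (g := -(E.d (n + 1) ∘ₗ s.1))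
    (fun k x hx => neg_mem (E.d_grHom (n + 1) _ _ (s.2.1 k x hx)))
    (fun x hx => LinearMap.mem_ker.2 (by
      rw [LinearMap.neg_apply, LinearMap.comp_apply, s.2.2 x hx, neg_zero]))
  refine ⟨⟨s', hs', fun x hx => ?_⟩, LinearMap.congr_fun e⟩
  obtain ⟨y, rfl⟩ := exists_d_eq G n hx
  rw [show s' (G.d n y) = -E.d (n + 1) (s.1 y) from LinearMap.congr_fun e y, map_neg, d_comp_d, neg_zero]

/-- The data from which the middle resolution is built. -/
structure HData (f : M →ₗ[R] N) (g : N →ₗ[R] P) where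
  /-- the first component of the augmentation -/
  h : N →ₗ[R] (E.X 0).carrier
  /-- the twisting maps -/
  s : ∀ n, (G.X n).carrier →ₗ[R] (E.X (n + 1)).carrier
  h_grHom : GrLC.IsGrHom 𝒩 (E.X 0).gr h
  h_f : ∀ m, h (f m) = E.ε m
  s_grHom : ∀ n, GrLC.IsGrHom (G.X n).gr (E.X (n + 1)).gr (s n)
  s_zero : ∀ m, s 0 (G.ε (g m)) = -E.d 0 (h m)
  s_succ : ∀ n x, s (n + 1) (G.d n x) = -E.d (n + 1) (s n x)

theorem exists_hdata (hf : GrLC.IsGrHom ℳ 𝒩 f) (hfi : Function.Injective f)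
    (hg : GrLC.IsGrHom 𝒩 𝒬 g) (hgs : Function.Surjective g) (hfg : Function.Exact f g) :
    Nonempty (HData E G (𝒩 := 𝒩) f g) := by
  obtain ⟨h, hh, eh⟩ := exists_extend (E.starInj 0) hf hfi E.ε_grHom
  obtain ⟨s₀, hs₀, es₀⟩ := exists_factor (E.starInj 1) (f := G.ε ∘ₗ g) (g := -(E.d 0 ∘ₗ h))
    (fun k x hx => G.ε_grHom _ _ (hg k x hx))
    (fun k x hx => neg_mem (E.d_grHom 0 _ _ (hh k x hx)))
    (fun x hx => by
      have : g x = 0 := G.ε_injective (by rw [map_zero]; exact hx)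
      obtain ⟨m, rfl⟩ := (hfg x).1 this
      rw [LinearMap.mem_ker, LinearMap.neg_apply, LinearMap.comp_apply,
        show h (f m) = E.ε m from LinearMap.congr_fun eh m, d_comp_ε, neg_zero])
  let t₀ : SigStep E G 0 := ⟨s₀, hs₀, fun x hx => by
    obtain ⟨p, rfl⟩ := exists_ε_eq G hx
    obtain ⟨m, rfl⟩ := hgs p
    rw [show s₀ (G.ε (g m)) = -E.d 0 (h m) from LinearMap.congr_fun es₀ m, map_neg, d_comp_d, neg_zero]⟩
  let t : ∀ n, SigStep E G n := fun n =>
    Nat.rec (motive := fun n => SigStep E G n) t₀ (fun n s => (exists_sig_succ E G n s).choose) n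
  exact ⟨{ h := h, s := fun n => (t n).1, h_grHom := hh, h_f := LinearMap.congr_fun eh
           s_grHom := fun n => (t n).2.1, s_zero := LinearMap.congr_fun es₀
           s_succ := fun n => (exists_sig_succ E G n (t n)).choose_spec }⟩

variable {E G}

/-- The terms of the middle resolution. -/
noncomputable def hsX (E : GrLC.StarInjRes 𝒜 ℳ) (G : GrLC.StarInjRes 𝒜 𝒬) (n : ℕ) :
    GrLC.GMod.{u} 𝒜 where
  carrier := (E.X n).carrier × (G.X n).carrier
  gr := prodGr (E.X n).gr (G.X n).gr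
  dec := prodDecomp _ _

/-- The first projection. -/
noncomputable def hsFst (E : GrLC.StarInjRes 𝒜 ℳ) (G : GrLC.StarInjRes 𝒜 𝒬) (n : ℕ) :
    (hsX E G n).carrier →ₗ[R] (E.X n).carrier := LinearMap.fst R (E.X n).carrier (G.X n).carrier

/-- The second projection. -/
noncomputable def hsSnd (E : GrLC.StarInjRes 𝒜 ℳ) (G : GrLC.StarInjRes 𝒜 𝒬) (n : ℕ) :
    (hsX E G n).carrier →ₗ[R] (G.X n).carrier := LinearMap.snd R (E.X n).carrier (G.X n).carrier

/-- The differential of the middle resolution. -/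
noncomputable def HData.hsD (D : HData E G (𝒩 := 𝒩) f g) (n : ℕ) :
    (hsX E G n).carrier →ₗ[R] (hsX E G (n + 1)).carrier :=
  (E.d n ∘ₗ hsFst E G n + D.s n ∘ₗ hsSnd E G n).prod (G.d n ∘ₗ hsSnd E G n)

theorem HData.hsD_grHom (D : HData E G (𝒩 := 𝒩) f g) (n : ℕ) :
    GrLC.IsGrHom (hsX E G n).gr (hsX E G (n + 1)).gr (D.hsD n) :=
  fun k x hx => ⟨add_mem (E.d_grHom n k _ hx.1) (D.s_grHom n k _ hx.2), G.d_grHom n k _ hx.2⟩

/-- The middle resolution. -/
noncomputable def HData.res (D : HData E G (𝒩 := 𝒩) f g) (hfg : Function.Exact f g)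
    (hgs : Function.Surjective g) (hg : GrLC.IsGrHom 𝒩 𝒬 g) : GrLC.StarInjRes 𝒜 𝒩 where
  X := hsX E G
  d := D.hsD
  ε := D.h.prod (G.ε ∘ₗ g)
  d_grHom := D.hsD_grHom
  ε_grHom k x hx := ⟨D.h_grHom k x hx, G.ε_grHom k _ (hg k x hx)⟩
  ε_injective := (injective_iff_map_eq_zero _).2 fun x hx => by
    have : g x = 0 := G.ε_injective (by rw [map_zero]; exact congrArg Prod.snd hx)
    obtain ⟨m, rfl⟩ := (hfg x).1 this
    have h1 : D.h (f m) = 0 := congrArg Prod.fst hx
    rw [D.h_f] at h1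
    rw [E.ε_injective (h1.trans (map_zero _).symm), map_zero]
  exact_zero := by
    refine le_antisymm (fun x hx => ?_) ?_
    · obtain ⟨x', x''⟩ := x
      obtain ⟨p, rfl⟩ := exists_ε_eq G (congrArg Prod.snd hx)
      obtain ⟨m, rfl⟩ := hgs p
      have h1 : E.d 0 x' + D.s 0 (G.ε (g m)) = 0 := congrArg Prod.fst hx
      rw [D.s_zero, ← sub_eq_add_neg, ← map_sub] at h1
      obtain ⟨m', hm'⟩ := exists_ε_eq E h1
      refine ⟨m + f m', Prod.ext ?_ ?_⟩
      · show D.h (m + f m') = x'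
        rw [map_add, D.h_f, hm', add_sub_cancel]
      · show G.ε (g (m + f m')) = _
        rw [map_add, hfg.apply_apply_eq_zero, add_zero]
    · rintro _ ⟨m, rfl⟩
      refine Prod.ext ?_ ?_
      · show E.d 0 (D.h m) + D.s 0 (G.ε (g m)) = 0
        rw [D.s_zero, add_neg_cancel]
      · exact d_comp_ε G _
  exact_succ n := by
    refine le_antisymm (fun x hx => ?_) ?_
    · obtain ⟨x', x''⟩ := x
      obtain ⟨y'', rfl⟩ := exists_d_eq G n (congrArg Prod.snd hx)
      have h1 : E.d (n + 1) x' + D.s (n + 1) (G.d n y'') = 0 := congrArg Prod.fst hx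
      rw [D.s_succ, ← sub_eq_add_neg, ← map_sub] at h1
      obtain ⟨y', hy'⟩ := exists_d_eq E n h1
      refine ⟨(y', y''), Prod.ext ?_ rfl⟩
      show E.d n y' + D.s n y'' = x'
      rw [hy', sub_add_cancel]
    · rintro _ ⟨⟨y', y''⟩, rfl⟩
      refine Prod.ext ?_ ?_
      · show E.d (n + 1) (E.d n y' + D.s n y'') + D.s (n + 1) (G.d n y'') = 0
        rw [D.s_succ, map_add, d_comp_d, zero_add, add_neg_cancel]
      · exact d_comp_d G _ _
  starInj n := isStarInj_prod (E.starInj n) (G.starInj n)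

end horseshoe

section les

variable {f : M →ₗ[R] N} {g : N →ₗ[R] P} (F : GrLC.StarInjRes 𝒜 𝒩) (a : HomogeneousIdeal 𝒜)
  (hf : GrLC.IsGrHom ℳ 𝒩 f) (hfi : Function.Injective f)
  (hg : GrLC.IsGrHom 𝒩 𝒬 g) (hgs : Function.Surjective g) (hfg : Function.Exact f g)
include hf hfi hg hgs hfg

/-- The long exact sequence of graded local cohomology. -/
theorem exists_les : ∃ δ : ∀ n, G.H a n →ₗ[R] E.H a (n + 1),
    (∀ n, GrLC.IsGrHom (G.Hgr a n) (E.Hgr a (n + 1)) (δ n)) ∧
    Function.Injective (mapH E F a (grHomDeg_zero_iff.2 hf) 0) ∧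
    ∀ n, Function.Exact (mapH E F a (grHomDeg_zero_iff.2 hf) n) (mapH F G a (grHomDeg_zero_iff.2 hg) n) ∧
      Function.Exact (mapH F G a (grHomDeg_zero_iff.2 hg) n) (δ n) ∧
      Function.Exact (δ n) (mapH E F a (grHomDeg_zero_iff.2 hf) (n + 1)) := by
  obtain ⟨D⟩ := exists_hdata E G hf hfi hg hgs hfg
  let F₀ : GrLC.StarInjRes 𝒜 𝒩 := D.res hfg hgs hg
  let Lf : Lift E F₀ f 0 :=
    { u := fun n => LinearMap.inl R _ _
      deg := fun n => grHomDeg_zero_iff.2 fun k x hx => ⟨hx, zero_mem _⟩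
      comm₀ := fun m => Prod.ext (D.h_f m).symm (by
        show (0 : (G.X 0).carrier) = G.ε (g (f m))
        rw [hfg.apply_apply_eq_zero, map_zero])
      comm := fun n x => Prod.ext (by
        show E.d n x = E.d n x + D.s n 0
        rw [map_zero, add_zero]) (map_zero (G.d n)).symm }
  let Lg : Lift F₀ G g 0 :=
    { u := fun n => LinearMap.snd R _ _
      deg := fun n => grHomDeg_zero_iff.2 fun k x hx => hx.2
      comm₀ := fun m => rfl
      comm := fun n x => rfl }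
  have hsig : ∀ n (z : G.cocyc a n), D.s n z ∈ E.cocyc a (n + 1) := fun n z =>
    ⟨map_gam_le (D.s n) (Submodule.mem_map_of_mem z.2.1), by
      show E.d (n + 1) (D.s n z) = 0
      have := D.s_succ n z
      rw [LinearMap.mem_ker.1 z.2.2, map_zero, eq_comm, neg_eq_zero] at this
      exact this⟩
  let δ : ∀ n, G.H a n →ₗ[R] E.H a (n + 1) := fun n => Submodule.mapQ _ _
    (LinearMap.codRestrict (E.cocyc a (n + 1)) (D.s n ∘ₗ (G.cocyc a n).subtype) (hsig n))
    (fun z hz => by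
      show D.s n z ∈ (GrLC.gam a.toIdeal (E.X n).carrier).map (E.d n)
      cases n with
      | zero =>
        rw [show ((z : G.cocyc a 0) : (G.X 0).carrier) = 0 from (Submodule.mem_bot R).1 hz, map_zero]
        exact zero_mem _
      | succ n =>
        obtain ⟨w, hw, hwz⟩ := hz
        have e : D.s (n + 1) z = E.d (n + 1) (-(D.s n w)) := by
          rw [map_neg, ← D.s_succ, hwz]; rfl
        rw [e]
        exact Submodule.mem_map_of_mem (neg_mem (map_gam_le (D.s n) (Submodule.mem_map_of_mem hw))))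
  -- exactness for the middle resolution
  have k0 : Function.Injective (Lf.mapH a 0) := by
    refine (injective_iff_map_eq_zero _).2 fun x hx => ?_
    obtain ⟨z, rfl⟩ := toH_surjective a 0 x
    rw [Lf.mapH_toH, toH_eq_zero] at hx
    rw [toH_eq_zero]
    exact (Submodule.mem_bot R).2 (congrArg Prod.fst ((Submodule.mem_bot R (M := (F₀.X 0).carrier)).1 hx))
  have k1 : ∀ n, Function.Exact (Lf.mapH a n) (Lg.mapH a n) := by
    intro n x
    obtain ⟨z, rfl⟩ := toH_surjective a n x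
    constructor
    · intro hx
      rw [Lg.mapH_toH, toH_eq_zero] at hx
      obtain ⟨⟨z', z''⟩, hz⟩ := z
      cases n with
      | zero =>
        have h2 : z'' = 0 := (Submodule.mem_bot R).1 hx
        subst h2
        have hd : E.d 0 z' + D.s 0 0 = 0 := congrArg Prod.fst ((LinearMap.mem_ker (f := F₀.d 0)).1 hz.2)
        rw [map_zero, add_zero] at hd
        exact ⟨E.toH a 0 ⟨z', map_gam_le (hsFst E G _) (Submodule.mem_map_of_mem hz.1), hd⟩, rfl⟩
      | succ n =>
        obtain ⟨w, hw, hwz⟩ := hx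
        replace hwz : G.d n w = z'' := hwz
        subst hwz
        have hd : E.d (n + 1) z' + D.s (n + 1) (G.d n w) = 0 :=
          congrArg Prod.fst ((LinearMap.mem_ker (f := F₀.d (n + 1))).1 hz.2)
        rw [D.s_succ, ← sub_eq_add_neg, ← map_sub] at hd
        refine ⟨E.toH a (n + 1) ⟨z' - D.s n w, sub_mem
          (map_gam_le (hsFst E G _) (Submodule.mem_map_of_mem hz.1))
          (map_gam_le (D.s n) (Submodule.mem_map_of_mem hw)), hd⟩, ?_⟩
        rw [Lf.mapH_toH, eq_comm, ← sub_eq_zero, ← map_sub, toH_eq_zero]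
        refine ⟨((0 : (E.X n).carrier), w), ?_, ?_⟩
        · obtain ⟨k, hk⟩ := hw
          exact ⟨k, fun r hr => Prod.ext (smul_zero r) (hk r hr)⟩
        · refine Prod.ext ?_ ?_
          · show E.d n 0 + D.s n w = z' - (z' - D.s n w)
            rw [map_zero, zero_add, sub_sub_cancel]
          · show G.d n w = G.d n w - 0
            rw [sub_zero]
    · rintro ⟨y, hy⟩
      obtain ⟨w, rfl⟩ := toH_surjective a n y
      rw [← hy, Lf.mapH_toH, Lg.mapH_toH, toH_eq_zero]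
      exact zero_mem _
  have k2 : ∀ n, Function.Exact (Lg.mapH a n) (δ n) := by
    intro n x
    obtain ⟨z, rfl⟩ := toH_surjective a n x
    constructor
    · intro hx
      have hx' : D.s n z ∈ (GrLC.gam a.toIdeal (E.X n).carrier).map (E.d n) :=
        (toH_eq_zero (E := E) a (z := ⟨D.s n z, hsig n z⟩)).1 hx
      obtain ⟨w, hw, hwz⟩ := hx'
      refine ⟨F₀.toH a n ⟨(-w, (z : (G.X n).carrier)), ?_, ?_⟩, rfl⟩
      · obtain ⟨k, hk⟩ := neg_mem hw
        obtain ⟨l, hl⟩ := z.2.1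
        exact ⟨k + l, fun r hr => Prod.ext (hk r (Ideal.pow_le_pow_right (Nat.le_add_right k l) hr))
          (hl r (Ideal.pow_le_pow_right (Nat.le_add_left l k) hr))⟩
      · refine Prod.ext ?_ (LinearMap.mem_ker.1 z.2.2)
        show E.d n (-w) + D.s n z = 0
        rw [map_neg, hwz, neg_add_cancel]
    · rintro ⟨y, hy⟩
      obtain ⟨⟨⟨w', w''⟩, hw⟩, rfl⟩ := toH_surjective a n y
      rw [← hy]
      refine (Submodule.Quotient.mk_eq_zero _).2 ?_
      show D.s n w'' ∈ (GrLC.gam a.toIdeal (E.X n).carrier).map (E.d n)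
      have hd : E.d n w' + D.s n w'' = 0 := congrArg Prod.fst ((LinearMap.mem_ker (f := F₀.d n)).1 hw.2)
      refine ⟨-w', neg_mem (map_gam_le (hsFst E G _) (Submodule.mem_map_of_mem hw.1)), ?_⟩
      rw [map_neg, neg_eq_iff_add_eq_zero, hd]
  have k3 : ∀ n, Function.Exact (δ n) (Lf.mapH a (n + 1)) := by
    intro n x
    obtain ⟨z, rfl⟩ := toH_surjective a (n + 1) x
    constructor
    · intro hx
      rw [Lf.mapH_toH, toH_eq_zero] at hx
      obtain ⟨⟨w', w''⟩, hw, hwz⟩ := hx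
      have h2 : G.d n w'' = 0 := congrArg Prod.snd hwz
      have h1 : E.d n w' + D.s n w'' = z := congrArg Prod.fst hwz
      refine ⟨G.toH a n ⟨w'', map_gam_le (hsSnd E G _) (Submodule.mem_map_of_mem hw), h2⟩, ?_⟩
      refine (Submodule.Quotient.eq _).2 ?_
      show D.s n w'' - z ∈ (GrLC.gam a.toIdeal (E.X n).carrier).map (E.d n)
      refine ⟨-w', neg_mem (map_gam_le (hsFst E G _) (Submodule.mem_map_of_mem hw)), ?_⟩
      rw [map_neg, ← h1]
      abel
    · rintro ⟨y, hy⟩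
      obtain ⟨w, rfl⟩ := toH_surjective a n y
      rw [← hy]
      refine (Submodule.Quotient.mk_eq_zero _).2 ?_
      refine ⟨((0 : (E.X n).carrier), (w : (G.X n).carrier)), ?_, ?_⟩
      · obtain ⟨k, hk⟩ := w.2.1
        exact ⟨k, fun r hr => Prod.ext (smul_zero r) (hk r hr)⟩
      · refine Prod.ext ?_ (LinearMap.mem_ker.1 w.2.2)
        show E.d n 0 + D.s n w = D.s n w
        rw [map_zero, zero_add]
  -- transport to the given resolution
  have hid : GrLC.IsGrHomDeg 𝒩 𝒩 (LinearMap.id : N →ₗ[R] N) 0 := grHomDeg_zero_iff.2 fun _ _ h => h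
  have ef : ∀ n x, mapH E F a (grHomDeg_zero_iff.2 hf) n x = compEquiv F₀ a F n (Lf.mapH a n x) := by
    intro n x
    rw [compEquiv_apply, ← mapH_eq a (grHomDeg_zero_iff.2 hf) Lf, ← LinearMap.comp_apply,
      ← mapH_comp a (grHomDeg_zero_iff.2 hf) hid (by simpa using grHomDeg_zero_iff.2 hf) n]
    exact LinearMap.congr_fun (mapH_congr a (LinearMap.id_comp f).symm (add_zero 0).symm _ _ n) x
  have eg : ∀ n x, mapH F G a (grHomDeg_zero_iff.2 hg) n (compEquiv F₀ a F n x) = Lg.mapH a n x := by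
    intro n x
    rw [compEquiv_apply, ← mapH_eq a (grHomDeg_zero_iff.2 hg) Lg, ← LinearMap.comp_apply,
      ← mapH_comp a hid (grHomDeg_zero_iff.2 hg) (by simpa using grHomDeg_zero_iff.2 hg) n]
    exact LinearMap.congr_fun (mapH_congr a (LinearMap.comp_id g) (add_zero 0) _ _ n) x
  refine ⟨δ, fun n k x hx => ?_, ?_, fun n => ⟨?_, ?_, ?_⟩⟩
  · obtain ⟨z, hz, rfl⟩ := hx
    exact ⟨⟨_, hsig n z⟩, D.s_grHom n k _ hz, rfl⟩
  · intro x y hxy
    rw [ef, ef] at hxy
    exact k0 ((compEquiv F₀ a F 0).injective hxy)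
  · intro y
    obtain ⟨y, rfl⟩ := (compEquiv F₀ a F n).surjective y
    rw [eg, k1 n y]
    exact ⟨fun ⟨x, hx⟩ => ⟨x, by rw [ef, hx]⟩,
      fun ⟨x, hx⟩ => ⟨x, (compEquiv F₀ a F n).injective (by rw [← ef, hx])⟩⟩
  · intro y
    rw [k2 n y]
    exact ⟨fun ⟨x, hx⟩ => ⟨compEquiv F₀ a F n x, by rw [eg, hx]⟩,
      fun ⟨x, hx⟩ => ⟨(compEquiv F₀ a F n).symm x, by rw [← eg, LinearEquiv.apply_symm_apply, hx]⟩⟩
  · intro x
    rw [ef, LinearEquiv.map_eq_zero_iff]
    exact k3 n x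

end les

section shift

/-- The resolution of a shifted module. -/
noncomputable def shiftRes (d : ι) :
    @GrLC.StarInjRes ι _ _ R _ σ _ _ 𝒜 _ M _ _ (AddSubgroup M) _ _ (shiftGr ℳ d) (shiftDecomp ℳ d) _ :=
  letI := shiftDecomp ℳ d
  { X := fun n => shiftGMod 𝒜 (E.X n).gr d
    d := E.d
    ε := E.ε
    d_grHom := fun n k x hx => E.d_grHom n _ x hx
    ε_grHom := fun k x hx => E.ε_grHom _ x hx
    ε_injective := E.ε_injective
    exact_zero := E.exact_zero
    exact_succ := E.exact_succ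
    starInj := fun n => isStarInj_shift (E.starInj n) d }

/-- The long exact sequence when the first map has degree `d`. -/
theorem exists_les_deg (F : GrLC.StarInjRes 𝒜 𝒩) (a : HomogeneousIdeal 𝒜) {f : M →ₗ[R] N}
    {g : N →ₗ[R] P} {d : ι} (hf : GrLC.IsGrHomDeg ℳ 𝒩 f d) (hfi : Function.Injective f)
    (hg : GrLC.IsGrHom 𝒩 𝒬 g) (hgs : Function.Surjective g) (hfg : Function.Exact f g) :
    ∃ δ : ∀ n, G.H a n →ₗ[R] E.H a (n + 1),
    (∀ n, GrLC.IsGrHomDeg (G.Hgr a n) (E.Hgr a (n + 1)) (δ n) (-d)) ∧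
    Function.Injective (mapH E F a hf 0) ∧
    ∀ n, Function.Exact (mapH E F a hf n) (mapH F G a (grHomDeg_zero_iff.2 hg) n) ∧
      Function.Exact (mapH F G a (grHomDeg_zero_iff.2 hg) n) (δ n) ∧
      Function.Exact (δ n) (mapH E F a hf (n + 1)) := by
  letI := shiftDecomp ℳ (-d)
  have hf' : GrLC.IsGrHom (shiftGr ℳ (-d)) 𝒩 f := fun k x hx => by
    have := hf _ x hx
    rwa [neg_add_cancel_right] at this
  obtain ⟨δ, hδ, h0, hex⟩ := exists_les (shiftRes E (-d)) G F a hf' hfi hg hgs hfg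
  have key : ∀ n, mapH (shiftRes E (-d)) F a (grHomDeg_zero_iff.2 hf') n = mapH E F a hf n := by
    intro n
    rw [mapH_eq a (E := shiftRes E (-d)) (F := F) (grHomDeg_zero_iff.2 hf')
      { u := fun n => (someLift E F f d hf).u n
        deg := fun n => grHomDeg_zero_iff.2 fun k x hx => by
          have := (someLift E F f d hf).deg n _ x hx
          rwa [neg_add_cancel_right] at this
        comm₀ := (someLift E F f d hf).comm₀
        comm := (someLift E F f d hf).comm }]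
    rfl
  refine ⟨δ, fun n k x hx => hδ n k x hx, ?_, fun n => ⟨?_, (hex n).2.1, ?_⟩⟩
  · rw [← key]; exact h0
  · rw [← key]; exact (hex n).1
  · rw [← key]; exact (hex n).2.2

end shift

end Groth.Agent.GrLib
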