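import Groth.Prelude.Def_GrLC
import Mathlib.RingTheory.GradedAlgebra.Homogeneous.Ideal
import Mathlib.RingTheory.Finiteness.Basic
import Mathlib.RingTheory.Noetherian.Basic
import Mathlib.LinearAlgebra.Prod
import Mathlib.LinearAlgebra.Quotient.Basic

/-!
Elementary tools for graded modules over a graded ring: components, constructors of
decompositions, induced gradings on submodules, quotients, products and shifts.
-/

set_option autoImplicit false
set_option linter.unusedSectionVars false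

universe u

open DirectSum

namespace Groth.Agent.GrLib

section proj

variable {ι : Type} [DecidableEq ι] {M : Type u} [AddCommGroup M] {τ : Type u} [SetLike τ M]
  [AddSubgroupClass τ M] (ℳ : ι → τ) [Decomposition ℳ]

/-- The component of degree `g`. -/
def proj (g : ι) : M →+ M :=
  { toFun := fun m => (decompose ℳ m g : M)
    map_zero' := by simp
    map_add' := fun x y => by simp [DirectSum.add_apply] }

theorem proj_apply (g : ι) (m : M) : proj ℳ g m = (decompose ℳ m g : M) := rfl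

theorem proj_mem (g : ι) (m : M) : proj ℳ g m ∈ ℳ g := (decompose ℳ m g).2

variable {ℳ}

theorem proj_of_mem {g : ι} {m : M} (h : m ∈ ℳ g) : proj ℳ g m = m := decompose_of_mem_same ℳ h

theorem proj_of_mem_ne {g h : ι} {m : M} (hm : m ∈ ℳ h) (hne : h ≠ g) : proj ℳ g m = 0 :=
  decompose_of_mem_ne ℳ hm hne

variable (ℳ)

theorem induction {motive : M → Prop} (zero : motive 0) (hom : ∀ g, ∀ m ∈ ℳ g, motive m)
    (add : ∀ m m' : M, motive m → motive m' → motive (m + m')) (m : M) : motive m :=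
  Decomposition.inductionOn (ℳ := ℳ) (motive := motive) zero (fun {g} m => hom g m m.2) add m

theorem mem_of_proj_mem {P : Type*} [SetLike P M] [AddSubmonoidClass P M] (p : P) {m : M}
    (h : ∀ g, proj ℳ g m ∈ p) : m ∈ p := by
  classical
  rw [← sum_support_decompose ℳ m]
  exact sum_mem fun g _ => h g

theorem eq_zero_of_proj {m : M} (h : ∀ g, proj ℳ g m = 0) : m = 0 :=
  AddSubgroup.mem_bot.1 (mem_of_proj_mem ℳ (⊥ : AddSubgroup M) fun g => AddSubgroup.mem_bot.2 (h g))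

theorem proj_ext {m m' : M} (h : ∀ g, proj ℳ g m = proj ℳ g m') : m = m' :=
  sub_eq_zero.1 (eq_zero_of_proj ℳ fun g => by rw [map_sub, h g, sub_self])

theorem finite_support (m : M) : {g | proj ℳ g m ≠ 0}.Finite := by
  classical
  refine ((decompose ℳ m).support : Finset ι).finite_toSet.subset fun g hg => ?_
  simp only [Finset.mem_coe, DFinsupp.mem_support_toFun]
  exact fun h => hg (by rw [proj_apply, h]; rfl)

theorem sum_proj (m : M) {S : Finset ι} (hS : ∀ g, g ∉ S → proj ℳ g m = 0) :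
    ∑ g ∈ S, proj ℳ g m = m := by
  classical
  refine proj_ext ℳ fun h => ?_
  rw [map_sum]
  by_cases hh : h ∈ S
  · rw [Finset.sum_eq_single h (fun b _ hb => proj_of_mem_ne (proj_mem ℳ b m) hb)
      (fun hn => absurd hh hn), proj_of_mem (proj_mem ℳ h m)]
  · rw [hS h hh]
    exact Finset.sum_eq_zero fun b hb => proj_of_mem_ne (proj_mem ℳ b m) fun e => hh (e ▸ hb)

theorem addHom_ext {N : Type*} [AddCommMonoid N] {f f' : M →+ N}
    (h : ∀ g, ∀ m ∈ ℳ g, f m = f' m) : f = f' := by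
  refine AddMonoidHom.ext fun m => induction ℳ (motive := fun m => f m = f' m) (by simp) h ?_ m
  intro a b ha hb
  simp [ha, hb]

theorem linearMap_ext {R : Type*} [Semiring R] [Module R M] {N : Type*} [AddCommMonoid N]
    [Module R N] {f f' : M →ₗ[R] N} (h : ∀ g, ∀ m ∈ ℳ g, f m = f' m) : f = f' :=
  LinearMap.toAddMonoidHom_injective (addHom_ext ℳ (f := f.toAddMonoidHom) (f' := f'.toAddMonoidHom) h)

variable {R : Type*} [Semiring R] [Module R M]

theorem isHomogeneous_iff {p : Submodule R M} :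
    p.IsHomogeneous ℳ ↔ ∀ g, ∀ m ∈ p, proj ℳ g m ∈ p := Iff.rfl

theorem isHomogeneous_bot : (⊥ : Submodule R M).IsHomogeneous ℳ := fun g m hm => by
  show proj ℳ g m ∈ (⊥ : Submodule R M)
  rw [(Submodule.mem_bot R).1 hm, map_zero]
  exact zero_mem _

theorem isHomogeneous_top : (⊤ : Submodule R M).IsHomogeneous ℳ := fun _ _ _ => trivial

theorem isHomogeneous_inf {p q : Submodule R M} (hp : p.IsHomogeneous ℳ) (hq : q.IsHomogeneous ℳ) :
    (p ⊓ q).IsHomogeneous ℳ := fun g _ hm => ⟨hp g hm.1, hq g hm.2⟩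

theorem isHomogeneous_sup {p q : Submodule R M} (hp : p.IsHomogeneous ℳ) (hq : q.IsHomogeneous ℳ) :
    (p ⊔ q).IsHomogeneous ℳ := by
  intro g m hm
  obtain ⟨y, hy, z, hz, rfl⟩ := Submodule.mem_sup.1 hm
  show proj ℳ g (y + z) ∈ p ⊔ q
  rw [map_add]
  exact add_mem (Submodule.mem_sup_left (hp g hy)) (Submodule.mem_sup_right (hq g hz))

theorem isHomogeneous_iSup {κ : Sort*} {p : κ → Submodule R M} (hp : ∀ k, (p k).IsHomogeneous ℳ) :
    (⨆ k, p k).IsHomogeneous ℳ := by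
  intro g m hm
  refine Submodule.iSup_induction p (motive := fun m => proj ℳ g m ∈ ⨆ k, p k) hm
    (fun k x hx => Submodule.mem_iSup_of_mem k (hp k g hx)) ?_ ?_
  · rw [map_zero]; exact zero_mem _
  · intro x y hx hy; rw [map_add]; exact add_mem hx hy

end proj

section ofProj

variable {ι : Type} [DecidableEq ι] {M : Type u} [AddCommGroup M] (𝒩 : ι → AddSubgroup M)

theorem isInternal_of_proj (π : ι → M →+ M) (hself : ∀ g, ∀ m ∈ 𝒩 g, π g m = m)
    (hne : ∀ g h, h ≠ g → ∀ m ∈ 𝒩 h, π g m = 0) (hspan : ⨆ g, 𝒩 g = ⊤) :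
    DirectSum.IsInternal 𝒩 := by
  have key : ∀ (g : ι) (x : ⨁ i, 𝒩 i), π g (DirectSum.coeAddMonoidHom 𝒩 x) = (x g : M) := by
    intro g x
    induction x using DirectSum.induction_on with
    | zero => simp
    | of i y =>
      rw [DirectSum.coeAddMonoidHom_of]
      by_cases h : i = g
      · subst h
        rw [DirectSum.of_eq_same, hself i y y.2]
      · rw [hne g i h y y.2, DirectSum.of_eq_of_ne _ _ _ (fun e => h e.symm)]
        rfl
    | add x y hx hy => rw [map_add, map_add, hx, hy, DirectSum.add_apply]; rfl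
  refine ⟨fun x y hxy => DFinsupp.ext fun g => Subtype.ext ?_, fun m => ?_⟩
  · rw [← key g x, ← key g y]
    exact congrArg (π g) hxy
  · have hm : m ∈ ⨆ g, 𝒩 g := hspan ▸ AddSubgroup.mem_top m
    refine AddSubgroup.iSup_induction 𝒩 (C := fun m => ∃ x, DirectSum.coeAddMonoidHom 𝒩 x = m) hm
      (fun g y hy => ⟨DirectSum.of _ g ⟨y, hy⟩, DirectSum.coeAddMonoidHom_of 𝒩 g _⟩)
      ⟨0, map_zero _⟩ ?_
    rintro y z ⟨a, rfl⟩ ⟨b, rfl⟩
    exact ⟨a + b, map_add _ _ _⟩

/-- A decomposition from projections. -/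
noncomputable abbrev decompositionOfProj (π : ι → M →+ M) (hself : ∀ g, ∀ m ∈ 𝒩 g, π g m = m)
    (hne : ∀ g h, h ≠ g → ∀ m ∈ 𝒩 h, π g m = 0) (hspan : ⨆ g, 𝒩 g = ⊤) : Decomposition 𝒩 :=
  (isInternal_of_proj 𝒩 π hself hne hspan).chooseDecomposition

end ofProj

variable {ι : Type} [AddCommGroup ι] [DecidableEq ι]
variable {R : Type u} [CommRing R] {σ : Type u} [SetLike σ R] [AddSubgroupClass σ R]
  {𝒜 : ι → σ} [GradedRing 𝒜]
variable {M : Type u} [AddCommGroup M] [Module R M] {τ : Type u} [SetLike τ M] [AddSubgroupClass τ M]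
  {ℳ : ι → τ} [Decomposition ℳ] [SetLike.GradedSMul 𝒜 ℳ]
variable {N : Type u} [AddCommGroup N] [Module R N] {τ' : Type u} [SetLike τ' N] [AddSubgroupClass τ' N]
  {𝒩 : ι → τ'} [Decomposition 𝒩] [SetLike.GradedSMul 𝒜 𝒩]

omit [Decomposition ℳ] in
theorem smul_mem {a g : ι} {r : R} {m : M} (hr : r ∈ 𝒜 a) (hm : m ∈ ℳ g) : r • m ∈ ℳ (a + g) := by
  have h := SetLike.GradedSMul.smul_mem (A := 𝒜) (B := ℳ) hr hm
  rwa [vadd_eq_add] at h

theorem proj_smul {a : ι} {r : R} (hr : r ∈ 𝒜 a) (g : ι) (m : M) :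
    proj ℳ (a + g) (r • m) = r • proj ℳ g m := by
  refine induction ℳ (motive := fun m => proj ℳ (a + g) (r • m) = r • proj ℳ g m) (by simp) ?_ ?_ m
  · intro h x hx
    by_cases hg : h = g
    · subst hg
      rw [proj_of_mem (smul_mem hr hx), proj_of_mem hx]
    · rw [proj_of_mem_ne (smul_mem hr hx) (fun e => hg (add_left_cancel e)), proj_of_mem_ne hx hg,
        smul_zero]
  · intro x y hx hy
    simp [hx, hy, smul_add]

theorem proj_smul' {a : ι} {r : R} (hr : r ∈ 𝒜 a) (g : ι) (m : M) :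
    proj ℳ g (r • m) = r • proj ℳ (g - a) m := by
  have := proj_smul (ℳ := ℳ) hr (g - a) m
  rwa [add_sub_cancel] at this

variable (𝒜) in
theorem smul_induction {motive : R → Prop} (zero : motive 0) (hom : ∀ a, ∀ r ∈ 𝒜 a, motive r)
    (add : ∀ r r' : R, motive r → motive r' → motive (r + r')) (r : R) : motive r :=
  induction 𝒜 zero hom add r

variable (𝒜 ℳ) in
/-- An additive map that respects scalar multiplication on homogeneous elements is linear. -/
noncomputable def linearOfHom (f : M →+ N)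
    (h : ∀ a g, ∀ r ∈ 𝒜 a, ∀ m ∈ ℳ g, f (r • m) = r • f m) : M →ₗ[R] N :=
  { toFun := f
    map_add' := map_add f
    map_smul' := fun r m => by
      refine smul_induction 𝒜 (motive := fun r => f (r • m) = r • f m) (by simp) ?_ ?_ r
      · intro a s hs
        exact induction ℳ (motive := fun m => f (s • m) = s • f m) (by simp) (fun g x hx => h a g s hs x hx)
          (fun x y hx hy => by simp [smul_add, hx, hy]) m
      · intro x y hx hy
        simp [add_smul, hx, hy] }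

section grHom

omit [SetLike.GradedSMul 𝒜 ℳ] [SetLike.GradedSMul 𝒜 𝒩]

theorem proj_map_deg {f : M →ₗ[R] N} {d : ι} (hf : GrLC.IsGrHomDeg ℳ 𝒩 f d) (g : ι) (m : M) :
    proj 𝒩 (g + d) (f m) = f (proj ℳ g m) := by
  refine induction ℳ (motive := fun m => proj 𝒩 (g + d) (f m) = f (proj ℳ g m)) (by simp) ?_ ?_ m
  · intro h x hx
    by_cases hg : h = g
    · subst hg
      rw [proj_of_mem (hf h x hx), proj_of_mem hx]
    · rw [proj_of_mem_ne (hf h x hx) (fun e => hg (add_right_cancel e)), proj_of_mem_ne hx hg, map_zero]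
  · intro x y hx hy
    simp [hx, hy]

theorem proj_map {f : M →ₗ[R] N} (hf : GrLC.IsGrHom ℳ 𝒩 f) (g : ι) (m : M) :
    proj 𝒩 g (f m) = f (proj ℳ g m) := by
  have := proj_map_deg (d := 0) (fun h x hx => by rw [add_zero]; exact hf h x hx) g m
  rwa [add_zero] at this

theorem isHomogeneous_ker_deg {f : M →ₗ[R] N} {d : ι} (hf : GrLC.IsGrHomDeg ℳ 𝒩 f d) :
    (LinearMap.ker f).IsHomogeneous ℳ := by
  intro g m hm
  rw [LinearMap.mem_ker] at hm ⊢
  show f (proj ℳ g m) = 0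
  rw [← proj_map_deg hf, hm, map_zero]

theorem isHomogeneous_map_deg {f : M →ₗ[R] N} {d : ι} (hf : GrLC.IsGrHomDeg ℳ 𝒩 f d)
    {p : Submodule R M} (hp : p.IsHomogeneous ℳ) : (p.map f).IsHomogeneous 𝒩 := by
  rintro g _ ⟨m, hm, rfl⟩
  show proj 𝒩 g (f m) ∈ p.map f
  rw [← sub_add_cancel g d, proj_map_deg hf]
  exact Submodule.mem_map_of_mem (hp (g - d) hm)

theorem isHomogeneous_comap_deg {f : M →ₗ[R] N} {d : ι} (hf : GrLC.IsGrHomDeg ℳ 𝒩 f d)
    {p : Submodule R N} (hp : p.IsHomogeneous 𝒩) : (p.comap f).IsHomogeneous ℳ := by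
  intro g m hm
  show f (proj ℳ g m) ∈ p
  rw [← proj_map_deg hf]
  exact hp _ hm

theorem isHomogeneous_range_deg {f : M →ₗ[R] N} {d : ι} (hf : GrLC.IsGrHomDeg ℳ 𝒩 f d) :
    (LinearMap.range f).IsHomogeneous 𝒩 := by
  rw [← Submodule.map_top]
  exact isHomogeneous_map_deg hf (isHomogeneous_top ℳ)

omit [Decomposition ℳ] [Decomposition 𝒩] in
theorem grHomDeg_zero_iff {f : M →ₗ[R] N} : GrLC.IsGrHomDeg ℳ 𝒩 f 0 ↔ GrLC.IsGrHom ℳ 𝒩 f := by
  simp [GrLC.IsGrHomDeg, GrLC.IsGrHom]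

theorem isHomogeneous_ker {f : M →ₗ[R] N} (hf : GrLC.IsGrHom ℳ 𝒩 f) :
    (LinearMap.ker f).IsHomogeneous ℳ :=
  isHomogeneous_ker_deg (grHomDeg_zero_iff.2 hf)

theorem isHomogeneous_map {f : M →ₗ[R] N} (hf : GrLC.IsGrHom ℳ 𝒩 f)
    {p : Submodule R M} (hp : p.IsHomogeneous ℳ) : (p.map f).IsHomogeneous 𝒩 :=
  isHomogeneous_map_deg (grHomDeg_zero_iff.2 hf) hp

theorem isHomogeneous_comap {f : M →ₗ[R] N} (hf : GrLC.IsGrHom ℳ 𝒩 f)
    {p : Submodule R N} (hp : p.IsHomogeneous 𝒩) : (p.comap f).IsHomogeneous ℳ :=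
  isHomogeneous_comap_deg (grHomDeg_zero_iff.2 hf) hp

theorem isHomogeneous_range {f : M →ₗ[R] N} (hf : GrLC.IsGrHom ℳ 𝒩 f) :
    (LinearMap.range f).IsHomogeneous 𝒩 :=
  isHomogeneous_range_deg (grHomDeg_zero_iff.2 hf)

/-- A preimage of a homogeneous element can be chosen homogeneous. -/
theorem exists_preimage {f : M →ₗ[R] N} {d : ι} (hf : GrLC.IsGrHomDeg ℳ 𝒩 f d) {g : ι} {y : N}
    (hy : y ∈ 𝒩 (g + d)) (hr : y ∈ LinearMap.range f) : ∃ x ∈ ℳ g, f x = y := by
  obtain ⟨x, rfl⟩ := hr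
  exact ⟨proj ℳ g x, proj_mem ℳ g x, by rw [← proj_map_deg hf, proj_of_mem hy]⟩

end grHom

variable (𝒜) in
include 𝒜 in
theorem isHomogeneous_span {s : Set M} (hs : ∀ m ∈ s, ∃ g, m ∈ ℳ g) :
    (Submodule.span R s).IsHomogeneous ℳ := by
  intro g m hm
  show proj ℳ g m ∈ Submodule.span R s
  induction hm using Submodule.span_induction generalizing g with
  | mem x hx =>
    obtain ⟨h, hh⟩ := hs x hx
    by_cases hg : h = g
    · subst hg; rw [proj_of_mem hh]; exact Submodule.subset_span hx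
    · rw [proj_of_mem_ne hh hg]; exact zero_mem _
  | zero => rw [map_zero]; exact zero_mem _
  | add x y _ _ hx hy => rw [map_add]; exact add_mem (hx g) (hy g)
  | smul r x _ hx =>
    refine smul_induction 𝒜 (motive := fun r => proj ℳ g (r • x) ∈ Submodule.span R s) (by simp) ?_ ?_ r
    · intro a r hr
      rw [proj_smul' (ℳ := ℳ) hr]
      exact Submodule.smul_mem _ _ (hx _)
    · intro r r' h h'
      rw [add_smul, map_add]
      exact add_mem h h'

section sub

variable (ℳ) in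
/-- The grading of a submodule. -/
def subGr (p : Submodule R M) : ι → AddSubgroup p :=
  fun g => (AddSubgroup.ofClass (ℳ g)).comap p.subtype.toAddMonoidHom

omit [Decomposition ℳ] [SetLike.GradedSMul 𝒜 ℳ] in
theorem mem_subGr {p : Submodule R M} {g : ι} {x : p} : x ∈ subGr ℳ p g ↔ (x : M) ∈ ℳ g := Iff.rfl

variable (ℳ) in
/-- A homogeneous submodule is decomposed by its induced grading. -/
noncomputable abbrev subDecomp {p : Submodule R M} (hp : p.IsHomogeneous ℳ) :
    Decomposition (subGr ℳ p) :=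
  decompositionOfProj (subGr ℳ p)
    (fun g => AddMonoidHom.mk' (fun x : p => (⟨proj ℳ g x, hp g x.2⟩ : p))
      fun x y => Subtype.ext (map_add (proj ℳ g) (x : M) y))
    (fun _ _ hx => Subtype.ext (proj_of_mem hx))
    (fun _ _ hne _ hx => Subtype.ext (proj_of_mem_ne hx hne))
    (eq_top_iff.2 fun x _ => by
      classical
      have hx : x = ∑ g ∈ (decompose ℳ (x : M)).support, (⟨proj ℳ g x, hp g x.2⟩ : p) := by
        refine Subtype.ext ?_
        rw [AddSubmonoidClass.coe_finsetSum]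
        exact (sum_support_decompose ℳ (x : M)).symm
      rw [hx]
      exact sum_mem fun g _ => AddSubgroup.mem_iSup_of_mem g (proj_mem ℳ g _))

omit [Decomposition ℳ] in
instance subGr_gradedSMul (p : Submodule R M) : SetLike.GradedSMul 𝒜 (subGr ℳ p) where
  smul_mem {a g r x} hr hx := by
    rw [vadd_eq_add]
    exact smul_mem (ℳ := ℳ) hr hx

omit [Decomposition ℳ] [SetLike.GradedSMul 𝒜 ℳ] in
theorem subtype_grHom (p : Submodule R M) : GrLC.IsGrHom (subGr ℳ p) ℳ p.subtype :=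
  fun _ _ h => h

variable (𝒜 ℳ) in
/-- A homogeneous submodule as a graded module. -/
noncomputable def subGMod (p : Submodule R M) (hp : p.IsHomogeneous ℳ) : GrLC.GMod.{u} 𝒜 where
  carrier := p
  gr := subGr ℳ p
  dec := subDecomp ℳ hp

end sub

section quot

variable (ℳ) in
/-- The grading of a quotient. -/
def qGr (p : Submodule R M) : ι → AddSubgroup (M ⧸ p) :=
  fun g => (AddSubgroup.ofClass (ℳ g)).map p.mkQ.toAddMonoidHom

omit [Decomposition ℳ] [SetLike.GradedSMul 𝒜 ℳ] in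
theorem mk_mem_qGr {p : Submodule R M} {g : ι} {m : M} (hm : m ∈ ℳ g) :
    (Submodule.Quotient.mk m : M ⧸ p) ∈ qGr ℳ p g := ⟨m, hm, rfl⟩

omit [Decomposition ℳ] [SetLike.GradedSMul 𝒜 ℳ] in
theorem mem_qGr {p : Submodule R M} {g : ι} {x : M ⧸ p} :
    x ∈ qGr ℳ p g ↔ ∃ m ∈ ℳ g, Submodule.Quotient.mk m = x := Iff.rfl

variable (ℳ) in
/-- The projections of a quotient. -/
noncomputable def qProj {p : Submodule R M} (hp : p.IsHomogeneous ℳ) (g : ι) : M ⧸ p →+ M ⧸ p :=
  QuotientAddGroup.lift p.toAddSubgroup (p.mkQ.toAddMonoidHom.comp (proj ℳ g))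
    fun _ hm => (Submodule.Quotient.mk_eq_zero p).2 (hp g hm)

variable (ℳ) in
/-- The quotient by a homogeneous submodule is decomposed. -/
noncomputable abbrev qDecomp {p : Submodule R M} (hp : p.IsHomogeneous ℳ) :
    Decomposition (qGr ℳ p) :=
  decompositionOfProj (qGr ℳ p) (qProj ℳ hp)
    (by
      rintro g _ ⟨m, hm, rfl⟩
      show p.mkQ (proj ℳ g m) = _
      rw [proj_of_mem hm]
      rfl)
    (by
      rintro g h hne _ ⟨m, hm, rfl⟩
      show p.mkQ (proj ℳ g m) = 0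
      rw [proj_of_mem_ne hm hne, map_zero])
    (eq_top_iff.2 fun x _ => by
      obtain ⟨m, rfl⟩ := Submodule.Quotient.mk_surjective p x
      refine induction ℳ (motive := fun m => (Submodule.Quotient.mk m : M ⧸ p) ∈ ⨆ g, qGr ℳ p g)
        (zero_mem _) (fun g x hx => AddSubgroup.mem_iSup_of_mem g (mk_mem_qGr hx))
        (fun x y hx hy => add_mem hx hy) m)

omit [Decomposition ℳ] in
instance qGr_gradedSMul (p : Submodule R M) : SetLike.GradedSMul 𝒜 (qGr ℳ p) where
  smul_mem {a g r x} hr hx := by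
    obtain ⟨m, hm, rfl⟩ := hx
    rw [vadd_eq_add]
    exact ⟨r • m, smul_mem (ℳ := ℳ) hr hm, p.mkQ.map_smul r m⟩

omit [Decomposition ℳ] [SetLike.GradedSMul 𝒜 ℳ] in
theorem mkQ_grHom (p : Submodule R M) : GrLC.IsGrHom ℳ (qGr ℳ p) p.mkQ :=
  fun _ _ h => mk_mem_qGr h

omit [Decomposition ℳ] [SetLike.GradedSMul 𝒜 ℳ] [Decomposition 𝒩] [SetLike.GradedSMul 𝒜 𝒩] in
theorem liftQ_grHomDeg {p : Submodule R M} {f : M →ₗ[R] N} {d : ι} (hf : GrLC.IsGrHomDeg ℳ 𝒩 f d)
    (hp : p ≤ LinearMap.ker f) : GrLC.IsGrHomDeg (qGr ℳ p) 𝒩 (p.liftQ f hp) d := by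
  rintro g _ ⟨m, hm, rfl⟩
  exact hf g m hm

variable (𝒜 ℳ) in
/-- A quotient by a homogeneous submodule as a graded module. -/
noncomputable def qGMod (p : Submodule R M) (hp : p.IsHomogeneous ℳ) : GrLC.GMod.{u} 𝒜 where
  carrier := M ⧸ p
  gr := qGr ℳ p
  dec := qDecomp ℳ hp

end quot

section prod

variable (ℳ 𝒩) in
/-- The grading of a product. -/
def prodGr : ι → AddSubgroup (M × N) :=
  fun g => (AddSubgroup.ofClass (ℳ g)).prod (AddSubgroup.ofClass (𝒩 g))

omit [Decomposition ℳ] [Decomposition 𝒩] in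
theorem mem_prodGr {g : ι} {x : M × N} : x ∈ prodGr ℳ 𝒩 g ↔ x.1 ∈ ℳ g ∧ x.2 ∈ 𝒩 g := Iff.rfl

variable (ℳ 𝒩) in
/-- A product is decomposed. -/
noncomputable abbrev prodDecomp : Decomposition (prodGr ℳ 𝒩) :=
  decompositionOfProj (prodGr ℳ 𝒩) (fun g => (proj ℳ g).prodMap (proj 𝒩 g))
    (fun _ _ hx => Prod.ext (proj_of_mem hx.1) (proj_of_mem hx.2))
    (fun _ _ hne _ hx => Prod.ext (proj_of_mem_ne hx.1 hne) (proj_of_mem_ne hx.2 hne))
    (eq_top_iff.2 fun x _ => by
      have h1 : ∀ m : M, (m, (0 : N)) ∈ ⨆ g, prodGr ℳ 𝒩 g := fun m =>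
        induction ℳ (motive := fun m => (m, (0 : N)) ∈ ⨆ g, prodGr ℳ 𝒩 g) (zero_mem _)
          (fun g y hy => AddSubgroup.mem_iSup_of_mem g (mem_prodGr.2 ⟨hy, zero_mem _⟩))
          (fun y z hy hz => by simpa using add_mem hy hz) m
      have h2 : ∀ n : N, ((0 : M), n) ∈ ⨆ g, prodGr ℳ 𝒩 g := fun n =>
        induction 𝒩 (motive := fun n => ((0 : M), n) ∈ ⨆ g, prodGr ℳ 𝒩 g) (zero_mem _)
          (fun g y hy => AddSubgroup.mem_iSup_of_mem g (mem_prodGr.2 ⟨zero_mem _, hy⟩))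
          (fun y z hy hz => by simpa using add_mem hy hz) n
      simpa using add_mem (h1 x.1) (h2 x.2))

omit [Decomposition ℳ] [Decomposition 𝒩] in
instance prodGr_gradedSMul : SetLike.GradedSMul 𝒜 (prodGr ℳ 𝒩) where
  smul_mem {a g r x} hr hx := by
    rw [vadd_eq_add]
    exact ⟨smul_mem (ℳ := ℳ) hr hx.1, smul_mem (ℳ := 𝒩) hr hx.2⟩

end prod

section shift

variable (ℳ) in
/-- The shifted grading: degree `g` of `shiftGr ℳ d` is degree `g + d` of `ℳ`. -/
def shiftGr (d : ι) : ι → AddSubgroup M := fun g => AddSubgroup.ofClass (ℳ (g + d))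

omit [Decomposition ℳ] [SetLike.GradedSMul 𝒜 ℳ] in
theorem mem_shiftGr {d g : ι} {m : M} : m ∈ shiftGr ℳ d g ↔ m ∈ ℳ (g + d) := Iff.rfl

variable (ℳ) in
/-- The shifted grading is a decomposition. -/
noncomputable abbrev shiftDecomp (d : ι) : Decomposition (shiftGr ℳ d) :=
  decompositionOfProj (shiftGr ℳ d) (fun g => proj ℳ (g + d))
    (fun _ _ hx => proj_of_mem hx)
    (fun _ _ hne _ hx => proj_of_mem_ne hx fun e => hne (add_right_cancel e))
    (eq_top_iff.2 fun x _ => induction ℳ (motive := fun x => x ∈ ⨆ g, shiftGr ℳ d g) (zero_mem _)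
      (fun g y hy => AddSubgroup.mem_iSup_of_mem (g - d) (by rw [mem_shiftGr, sub_add_cancel]; exact hy))
      (fun y z hy hz => add_mem hy hz) x)

omit [Decomposition ℳ] in
instance shiftGr_gradedSMul (d : ι) : SetLike.GradedSMul 𝒜 (shiftGr ℳ d) where
  smul_mem {a g r x} hr hx := by
    rw [vadd_eq_add, mem_shiftGr, add_assoc]
    exact smul_mem (ℳ := ℳ) hr hx

variable (𝒜 ℳ) in
/-- The shifted graded module. -/
noncomputable def shiftGMod (d : ι) : GrLC.GMod.{u} 𝒜 where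
  carrier := M
  gr := shiftGr ℳ d
  dec := shiftDecomp ℳ d

end shift

section gam

variable (𝒜) in
theorem isHomogeneous_pow {a : Ideal R} (ha : a.IsHomogeneous 𝒜) (k : ℕ) : (a ^ k).IsHomogeneous 𝒜 := by
  induction k with
  | zero => rw [pow_zero, Ideal.one_eq_top]; exact Ideal.IsHomogeneous.top 𝒜
  | succ n ih => rw [pow_succ]; exact ih.mul ha

theorem isHomogeneous_gam {a : Ideal R} (ha : a.IsHomogeneous 𝒜) :
    (GrLC.gam a M).IsHomogeneous ℳ := by
  intro g m hm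
  obtain ⟨k, hk⟩ := hm
  refine ⟨k, fun r hr => ?_⟩
  show r • proj ℳ g m = 0
  have key : ∀ h, proj 𝒜 h r • proj ℳ g m = 0 := fun h => by
    rw [← proj_smul (ℳ := ℳ) (proj_mem 𝒜 h r), hk (proj 𝒜 h r) (isHomogeneous_pow 𝒜 ha k h hr), map_zero]
  classical
  conv_lhs => rw [← sum_support_decompose 𝒜 r]
  rw [Finset.sum_smul]
  exact Finset.sum_eq_zero fun h _ => key h

omit [Decomposition ℳ] [SetLike.GradedSMul 𝒜 ℳ] in
theorem map_gam_le {a : Ideal R} (f : M →ₗ[R] N) : (GrLC.gam a M).map f ≤ GrLC.gam a N := by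
  rintro _ ⟨m, ⟨k, hk⟩, rfl⟩
  exact ⟨k, fun r hr => by rw [← map_smul, hk r hr, map_zero]⟩

end gam

end Groth.Agent.GrLib
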