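import Groth.Agent.GrLib.Koszul

/-!
Castelnuovo-Mumford regularity: generation in degrees up to the regularity and diagonal vanishing.
-/

set_option autoImplicit false
set_option linter.unusedSectionVars false
set_option linter.unusedVariables false

universe u

open DirectSum

namespace Groth.Agent.GrLib

variable {R : Type u} [CommRing R] {σ : Type u} [SetLike σ R] [AddSubgroupClass σ R]
  {𝒜 : ℤ → σ} [GradedRing 𝒜]
variable {M : Type u} [AddCommGroup M] [Module R M] {τ : Type u} [SetLike τ M] [AddSubgroupClass τ M]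
  {ℳ : ℤ → τ} [Decomposition ℳ] [SetLike.GradedSMul 𝒜 ℳ]
  (E : GrLC.StarInjRes 𝒜 ℳ) (a : HomogeneousIdeal 𝒜)

theorem lt_of_endDeg {i : ℕ} {n : ℤ} {c : WithBot (WithTop ℤ)} (h : E.Hgr a i (n - i) ≠ ⊥)
    (hc : GrLC.endDeg (E.Hgr a i) + ((i : ℤ) : WithTop ℤ) ≤ c) :
    ((n : WithTop ℤ) : WithBot (WithTop ℤ)) ≤ c := by
  refine le_trans ?_ hc
  have h1 : (((n - i : ℤ) : WithTop ℤ) : WithBot (WithTop ℤ)) ≤ GrLC.endDeg (E.Hgr a i) :=
    le_iSup₂ (f := fun (k : ℤ) (_ : E.Hgr a i k ≠ ⊥) => ((k : WithTop ℤ) : WithBot (WithTop ℤ))) (n - i) h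
  refine le_of_eq_of_le ?_ (add_le_add_left h1 _)
  rw [← WithBot.coe_add, ← WithTop.coe_add, sub_add_cancel]

variable [IsNoetherianRing R]

theorem exists_linear_gens (ha : a.toIdeal = Ideal.span ((𝒜 1 : σ) : Set R)) :
    ∃ gens : List R, (∀ y ∈ gens, y ∈ 𝒜 1) ∧ a.toIdeal = Ideal.span {y | y ∈ gens} := by
  classical
  have hfg : (Ideal.span ((𝒜 1 : σ) : Set R)).FG := IsNoetherian.noetherian _
  obtain ⟨s, hs, hspan⟩ := (Submodule.fg_span_iff_fg_span_finset_subset _).1 hfg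
  refine ⟨s.toList, fun y hy => hs (Finset.mem_toList.1 hy), ?_⟩
  rw [ha]
  refine hspan.trans (congrArg Ideal.span ?_)
  ext y
  simp

/-- Above the regularity a module is generated by lower degrees. -/
theorem mem_span_pred (ha : a.toIdeal = Ideal.span ((𝒜 1 : σ) : Set R)) (n : ℤ)
    (hvan : ∀ i : ℕ, E.Hgr a i (n - i) = ⊥) :
    ∀ x ∈ ℳ n, x ∈ Submodule.span R {m : M | m ∈ ℳ (n - 1)} := by
  obtain ⟨gens, hgens, hgen⟩ := exists_linear_gens a ha
  obtain ⟨C, e, he, hk, htop, hspan, hb⟩ := exists_koszul (ℳ := ℳ) a gens hgens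
    (fun i k => E.Hgr a i k = ⊥)
    (fun i k h E' => AddSubgroup.eq_bot_iff_forall _ |>.1 ((eq_bot_iff_of_comp a E' i k).1 h))
  intro x hx
  have h := hspan n (e x) (he n x hx) (C.mem_range a hgen hk htop n
    (hb 0 0 n (by simpa using hvan 0))
    (fun q => hb (q + 1) (1 + q) n (by rw [Nat.add_comm q 1]; exact hvan (1 + q))) _ (he n x hx))
  rwa [e.symm_apply_apply] at h

/-- Vanishing propagates along diagonals. -/
theorem Hgr_eq_bot_succ (ha : a.toIdeal = Ideal.span ((𝒜 1 : σ) : Set R)) {l : ℕ} (hl : 1 ≤ l) (s : ℤ)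
    (hvan : ∀ i : ℕ, l ≤ i → E.Hgr a i (s - i) = ⊥) (i : ℕ) (hi : l ≤ i) :
    E.Hgr a i (s + 1 - i) = ⊥ := by
  obtain ⟨gens, hgens, hgen⟩ := exists_linear_gens a ha
  obtain ⟨C, e, he, hk, htop, hspan, hb⟩ := exists_koszul (ℳ := ℳ) a gens hgens
    (fun i k => E.Hgr a i k = ⊥)
    (fun i k h E' => AddSubgroup.eq_bot_iff_forall _ |>.1 ((eq_bot_iff_of_comp a E' i k).1 h))
  have hX : ∀ E' : GrLC.StarInjRes 𝒜 (C.X 0).gr, ∀ x ∈ E'.Hgr a i (s + 1 - i), x = 0 :=
    C.degree_zero a hgen hk htop _ (by omega) fun q => hb (q + 1) (i + q) _ (by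
      rw [show s + 1 - (i : ℤ) - ((q + 1 : ℕ) : ℤ) = s - ((i + q : ℕ) : ℤ) by push_cast; ring]
      exact hvan (i + q) (by omega))
  refine AddSubgroup.eq_bot_iff_forall _ |>.2 fun x hx => ?_
  let E' := starRes 𝒜 (C.X 0).gr
  have hesymm : GrLC.IsGrHomDeg (C.X 0).gr ℳ e.symm.toLinearMap 0 := grHomDeg_zero_iff.2 fun k y hy => by
    have h2 := proj_map (𝒩 := (C.X 0).gr) he k (e.symm y)
    rw [LinearEquiv.coe_coe, e.apply_symm_apply, proj_of_mem hy] at h2
    have h3 := congrArg e.symm h2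
    rw [e.symm_apply_apply] at h3
    show e.symm y ∈ ℳ k
    rw [h3]
    exact proj_mem ℳ _ _
  have h := mapH_grHomDeg a (grHomDeg_zero_iff.2 he) i (E := E) (F := E') _ x hx
  rw [add_zero] at h
  have h0 := hX E' _ h
  have hid : GrLC.IsGrHomDeg ℳ ℳ (LinearMap.id : M →ₗ[R] M) 0 := grHomDeg_zero_iff.2 fun _ _ h => h
  have hcomp := mapH_comp (G := E) (F := E') (E := E) a (grHomDeg_zero_iff.2 he) hesymm
    (by rw [LinearEquiv.comp_coe, LinearEquiv.self_trans_symm]; simpa using hid) i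
  have h1 := LinearMap.congr_fun hcomp x
  rw [LinearMap.comp_apply, h0, map_zero] at h1
  rw [mapH_congr a (show e.symm.toLinearMap ∘ₗ e.toLinearMap = LinearMap.id by
    rw [LinearEquiv.comp_coe, LinearEquiv.self_trans_symm]; rfl) (add_zero 0) _ hid, mapH_id] at h1
  exact h1

theorem exists_bdd_below [Module.Finite R M] (hpos : ∀ n : ℤ, n < 0 → ∀ x ∈ 𝒜 n, x = 0) :
    ∃ L : ℤ, ∀ n, n < L → ∀ x ∈ ℳ n, x = 0 := by
  classical
  obtain ⟨m, z, g, hz, hspan⟩ := exists_hom_generators (ℳ := ℳ) 𝒜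
  refine ⟨-(Finset.univ.sum fun j => |g j|), fun n hn x hx => ?_⟩
  obtain ⟨c, hc⟩ := (Submodule.mem_span_range_iff_exists_fun R).1 (hspan ▸ Submodule.mem_top (x := x))
  rw [← proj_of_mem hx, ← hc, map_sum]
  refine Finset.sum_eq_zero fun j _ => ?_
  refine smul_induction 𝒜 (motive := fun r => proj ℳ n (r • z j) = 0) (by simp) ?_ ?_ (c j)
  · intro b s hs
    by_cases h : b + g j = n
    · have h1 : |g j| ≤ ∑ i, |g i| :=
        Finset.single_le_sum (f := fun j => |g j|) (fun i _ => abs_nonneg (g i)) (Finset.mem_univ j)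
      have h2 := neg_abs_le (g j)
      rw [hpos b (by omega) s hs, zero_smul, map_zero]
    · exact proj_of_mem_ne (smul_mem hs (hz j)) h
  · intro x y hx hy
    simp [add_smul, hx, hy]

end Groth.Agent.GrLib
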