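import Groth.Agent.GrLib.Positive
import Groth.Agent.GrLib.Koszul

/-!
One step of the computation of graded local cohomology through a regular element of degree `e`.
-/

set_option autoImplicit false
set_option linter.unusedSectionVars false
set_option linter.unusedVariables false
set_option linter.style.haveILetI false

universe u

open DirectSum

namespace Groth.Agent.GrLib

variable {R : Type u} [CommRing R] [IsNoetherianRing R] {σ : Type u} [SetLike σ R] [AddSubgroupClass σ R]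
  {𝒜 : ℤ → σ} [GradedRing 𝒜]
variable {M : Type u} [AddCommGroup M] [Module R M] {τ : Type u} [SetLike τ M] [AddSubgroupClass τ M]
  {ℳ : ℤ → τ} [Decomposition ℳ] [SetLike.GradedSMul 𝒜 ℳ]
  (a : HomogeneousIdeal 𝒜)

/-- If the cohomology of `M / xM` vanishes above `c`, that of `M` in the next index vanishes above `c - e`. -/
theorem Hgr_eq_zero_of_regular_step {x : R} {e : ℤ} (he : 0 < e) (hx : x ∈ 𝒜 e) (hxa : x ∈ a.toIdeal)
    (hreg : IsSMulRegular M x) (i : ℕ) (c : ℤ)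
    (hN : letI := qDecomp ℳ (isHomogeneous_range_deg (smul_id_grHomDeg (ℳ := ℳ) hx))
      ∀ F : GrLC.StarInjRes 𝒜 (qGr ℳ (LinearMap.range (x • LinearMap.id : M →ₗ[R] M))),
        ∀ n, c < n → ∀ y ∈ F.Hgr a i n, y = 0)
    (E : GrLC.StarInjRes 𝒜 ℳ) : ∀ n, c - e < n → ∀ y ∈ E.Hgr a (i + 1) n, y = 0 := by
  letI := qDecomp ℳ (isHomogeneous_range_deg (smul_id_grHomDeg (ℳ := ℳ) hx))
  obtain ⟨E₂, δ, hδ, hex⟩ := exists_regular_step a E hx hreg
  letI := Hdecomp E₂ a i
  letI := Hdecomp E a (i + 1)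
  intro n hn y hy
  obtain ⟨j, hj⟩ := exists_pow_smul_H a (i + 1) y
  have hxj : x ^ j • y = 0 := hj _ (Ideal.pow_mem_pow hxa j)
  clear hj
  induction j generalizing n y with
  | zero => rwa [pow_zero, one_smul] at hxj
  | succ j ihj =>
    have hxy : x • y = 0 := ihj (e + n) (by omega) (x • y) (smul_mem hx hy) (by rwa [← mul_smul, ← pow_succ])
    obtain ⟨w, hw, hwy⟩ := exists_preimage (hδ i) (g := n + e) (y := y) (by rwa [add_neg_cancel_right])
      ((hex i y).1 hxy)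
    rw [← hwy, hN E₂ (n + e) (by omega) w hw, map_zero]

/-- The degree zero cohomology of a module with a regular element of the ideal vanishes. -/
theorem Hgr_zero_eq_zero_of_regular {x : R} (hxa : x ∈ a.toIdeal) (hreg : IsSMulRegular M x)
    (E : GrLC.StarInjRes 𝒜 ℳ) (y : E.H a 0) : y = 0 := by
  obtain ⟨e⟩ := nonempty_H_equiv E a 0
  haveI : Subsingleton (_root_.LocCoh.H a.toIdeal 0 M) := LocCoh.subsingleton_H0_iff.2 (eq_bot_iff.2
    fun m hm => by
      obtain ⟨k, hk⟩ := hm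
      exact (Submodule.mem_bot R).2 ((hreg.pow k).right_eq_zero_of_smul (hk _ (Ideal.pow_mem_pow hxa k))))
  haveI := e.toEquiv.subsingleton
  exact Subsingleton.elim _ _

/-- Graded local cohomology of an isomorphic module. -/
theorem Hgr_eq_zero_of_equiv {N : Type u} [AddCommGroup N] [Module R N] {τ' : Type u} [SetLike τ' N]
    [AddSubgroupClass τ' N] {𝒩 : ℤ → τ'} [Decomposition 𝒩] [SetLike.GradedSMul 𝒜 𝒩]
    (e : M ≃ₗ[R] N) (he : GrLC.IsGrHom ℳ 𝒩 e.toLinearMap) (i : ℕ) (n : ℤ)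
    (hN : ∀ F : GrLC.StarInjRes 𝒜 𝒩, ∀ y ∈ F.Hgr a i n, y = 0) (E : GrLC.StarInjRes 𝒜 ℳ) :
    ∀ x ∈ E.Hgr a i n, x = 0 := by
  intro x hx
  have hs : GrLC.IsGrHomDeg 𝒩 ℳ e.symm.toLinearMap 0 := grHomDeg_zero_iff.2 fun k y hy => by
    have h2 := proj_map (𝒩 := 𝒩) he k (e.symm y)
    rw [LinearEquiv.coe_coe, e.apply_symm_apply, proj_of_mem hy] at h2
    have h3 := congrArg e.symm h2
    rw [e.symm_apply_apply] at h3
    show e.symm y ∈ ℳ k
    rw [h3]
    exact proj_mem ℳ _ _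
  have h := mapH_grHomDeg a (grHomDeg_zero_iff.2 he) i (E := E) (F := starRes 𝒜 𝒩) _ x hx
  rw [add_zero] at h
  have hid : GrLC.IsGrHomDeg ℳ ℳ (LinearMap.id : M →ₗ[R] M) 0 := grHomDeg_zero_iff.2 fun _ _ h => h
  have hcomp := mapH_comp (G := E) (F := starRes 𝒜 𝒩) (E := E) a (grHomDeg_zero_iff.2 he) hs
    (by rw [LinearEquiv.comp_coe, LinearEquiv.self_trans_symm]; simpa using hid) i
  have h1 := LinearMap.congr_fun hcomp x
  rw [LinearMap.comp_apply, hN _ _ h, map_zero] at h1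
  rw [mapH_congr a (show e.symm.toLinearMap ∘ₗ e.toLinearMap = LinearMap.id by
    rw [LinearEquiv.comp_coe, LinearEquiv.self_trans_symm]; rfl) (add_zero 0) _ hid, mapH_id] at h1
  exact h1

end Groth.Agent.GrLib
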