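import Groth.Agent.GrLib.Reg
import Groth.Agent.GrLib.Step

/-!
Regularity through cohomology: finite length modules, short exact sequences and quasi-regular linear forms.
-/

set_option autoImplicit false
set_option linter.unusedSectionVars false
set_option linter.unusedVariables false
set_option linter.style.haveILetI false

universe u

open DirectSum

namespace Groth.Agent.GrLib

variable {R : Type u} [CommRing R] {σ : Type u} [SetLike σ R] [AddSubgroupClass σ R]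
  {𝒜 : ℤ → σ} [GradedRing 𝒜]
variable {M : Type u} [AddCommGroup M] [Module R M] {τ : Type u} [SetLike τ M] [AddSubgroupClass τ M]
  {ℳ : ℤ → τ} [Decomposition ℳ] [SetLike.GradedSMul 𝒜 ℳ]
variable {N : Type u} [AddCommGroup N] [Module R N] {τ' : Type u} [SetLike τ' N] [AddSubgroupClass τ' N]
  {𝒩 : ℤ → τ'} [Decomposition 𝒩] [SetLike.GradedSMul 𝒜 𝒩]
variable {P : Type u} [AddCommGroup P] [Module R P] {τ'' : Type u} [SetLike τ'' P] [AddSubgroupClass τ'' P]
  {𝒬 : ℤ → τ''} [Decomposition 𝒬] [SetLike.GradedSMul 𝒜 𝒬]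
variable (a : HomogeneousIdeal 𝒜)

variable (ℳ) in
/-- Cohomological regularity at most `d`. -/
def IsVanLE (d : ℤ) : Prop :=
  ∀ (E : GrLC.StarInjRes 𝒜 ℳ) (i : ℕ) (n : ℤ), d < n + i → ∀ y ∈ E.Hgr a i n, y = 0

theorem isVanLE_iff (E : GrLC.StarInjRes 𝒜 ℳ) (d : ℤ) :
    IsVanLE ℳ a d ↔ ∀ (i : ℕ) (n : ℤ), d < n + i → ∀ y ∈ E.Hgr a i n, y = 0 :=
  ⟨fun h => h E, fun h E' i n hn => AddSubgroup.eq_bot_iff_forall _ |>.1
    ((eq_bot_iff_of_comp a E' i n).1 (AddSubgroup.eq_bot_iff_forall _ |>.2 (h i n hn)))⟩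

section finiteLength

variable (hpos : ∀ n : ℤ, n < 0 → ∀ x ∈ 𝒜 n, x = 0)
include hpos

theorem exists_bdd_of_isArtinian [IsArtinian R M] : ∃ U : ℤ, ∀ n, U < n → ∀ x ∈ ℳ n, x = 0 := by
  let F : ℕ →o (Submodule R M)ᵒᵈ :=
    { toFun := fun t => OrderDual.toDual (Submodule.span R {x : M | ∃ l : ℤ, (t : ℤ) ≤ l ∧ x ∈ ℳ l})
      monotone' := fun s t hst => OrderDual.toDual_le_toDual.2 (Submodule.span_mono
        fun x ⟨l, hl, hx⟩ => ⟨l, le_trans (Int.ofNat_le.2 hst) hl, hx⟩) }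
  obtain ⟨t₀, ht₀⟩ := IsArtinian.monotone_stabilizes F
  refine ⟨t₀, fun n hn x hx => ?_⟩
  obtain ⟨t, ht⟩ : ∃ t : ℕ, n + 1 = t := ⟨_, (Int.toNat_of_nonneg (by omega)).symm⟩
  have heq : F t₀ = F t := ht₀ t (by omega)
  have hmem : x ∈ Submodule.span R {x : M | ∃ l : ℤ, (t : ℤ) ≤ l ∧ x ∈ ℳ l} := by
    have h1 : x ∈ Submodule.span R {x : M | ∃ l : ℤ, (t₀ : ℤ) ≤ l ∧ x ∈ ℳ l} :=
      Submodule.subset_span ⟨n, by omega, hx⟩
    exact (SetLike.ext_iff.1 (congrArg OrderDual.ofDual heq) x).1 h1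
  have hz : ∀ y ∈ Submodule.span R {x : M | ∃ l : ℤ, (t : ℤ) ≤ l ∧ x ∈ ℳ l}, ∀ g : ℤ, g < t →
      proj ℳ g y = 0 := by
    intro y hy
    induction hy using Submodule.span_induction with
    | mem y hy =>
      obtain ⟨l, hl, hyl⟩ := hy
      exact fun g hg => proj_of_mem_ne hyl (by omega)
    | zero => exact fun g _ => map_zero _
    | add y z _ _ hy hz => exact fun g hg => by rw [map_add, hy g hg, hz g hg, add_zero]
    | smul r y _ hy =>
      intro g hg
      refine smul_induction 𝒜 (motive := fun r => proj ℳ g (r • y) = 0) (by simp) ?_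
        (fun r r' h h' => by rw [add_smul, map_add, h, h', add_zero]) r
      intro e s hs
      rw [proj_smul' hs]
      by_cases he : e < 0
      · rw [hpos e he s hs, zero_smul]
      · rw [hy _ (by omega), smul_zero]
  rw [← proj_of_mem hx]
  exact hz x hmem n (by omega)

theorem pow_smul_eq_zero_of_bdd (ha : a.toIdeal = Ideal.span ((𝒜 1 : σ) : Set R)) (U : ℤ)
    (hU : ∀ n, U < n → ∀ x ∈ ℳ n, x = 0) (k : ℕ) :
    ∀ r ∈ a.toIdeal ^ k, ∀ (n : ℤ), U < n + k → ∀ x ∈ ℳ n, r • x = 0 := by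
  induction k with
  | zero => exact fun r _ n hn x hx => by rw [hU n (by simpa using hn) x hx, smul_zero]
  | succ k ih =>
    intro r hr
    rw [pow_succ] at hr
    refine Submodule.mul_induction_on hr ?_ fun r r' h h' n hn x hx => by
      rw [add_smul, h n hn x hx, h' n hn x hx, add_zero]
    intro p hp q hq n hn x hx
    rw [ha] at hq
    induction hq using Submodule.span_induction generalizing p with
    | mem q hq =>
      rw [mul_smul]
      exact ih p hp (1 + n) (by push_cast at hn; omega) _ (smul_mem (ℳ := ℳ) hq hx)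
    | zero => rw [mul_zero, zero_smul]
    | add q q' _ _ h h' => rw [mul_add, add_smul, h p hp, h' p hp, add_zero]
    | smul c q _ h =>
      rw [smul_eq_mul, ← mul_assoc]
      exact h (p * c) (Ideal.mul_mem_right c _ hp)

theorem isTorsion_of_bdd (ha : a.toIdeal = Ideal.span ((𝒜 1 : σ) : Set R)) (U : ℤ)
    (hU : ∀ n, U < n → ∀ x ∈ ℳ n, x = 0) (x : M) : ∃ k : ℕ, ∀ r ∈ a.toIdeal ^ k, r • x = 0 := by
  have : x ∈ GrLC.gam a.toIdeal M := by
    refine induction ℳ (motive := fun x => x ∈ GrLC.gam a.toIdeal M) (zero_mem _) ?_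
      (fun x y hx hy => add_mem hx hy) x
    intro n x hx
    exact ⟨(U + 1 - n).toNat, fun r hr =>
      pow_smul_eq_zero_of_bdd a hpos ha U hU _ r hr n (by omega) x hx⟩
  exact this

end finiteLength

theorem exists_mem_Hgr_zero (E : GrLC.StarInjRes 𝒜 ℳ) (ht : ∀ m : M, ∃ k : ℕ, ∀ r ∈ a.toIdeal ^ k, r • m = 0)
    (n : ℤ) : (∀ y ∈ E.Hgr a 0 n, y = 0) ↔ ∀ x ∈ ℳ n, x = 0 := by
  constructor
  · intro h x hx
    obtain ⟨k, hk⟩ := ht x
    have hz : E.ε x ∈ E.cocyc a 0 := ⟨⟨k, fun r hr => by rw [← map_smul, hk r hr, map_zero]⟩,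
      LinearMap.mem_ker.2 (d_comp_ε E x)⟩
    have h1 := h (E.toH a 0 ⟨E.ε x, hz⟩) ⟨_, E.ε_grHom _ _ hx, rfl⟩
    rw [toH_eq_zero] at h1
    exact E.ε_injective (((Submodule.mem_bot R).1 h1).trans (map_zero E.ε).symm)
  · intro h y hy
    obtain ⟨z, hz, rfl⟩ := hy
    obtain ⟨m, hm⟩ := exists_ε_eq E (LinearMap.mem_ker.1 z.2.2)
    have hmz : E.ε (proj ℳ n m) = z := by rw [← proj_map E.ε_grHom, hm, proj_of_mem hz]
    rw [h _ (proj_mem ℳ n m), map_zero] at hmz
    rw [show z = 0 from Subtype.ext hmz.symm, map_zero]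

variable [IsNoetherianRing R]

/-- Regularity of a torsion module. -/
theorem isVanLE_of_torsion_iff (ht : ∀ m : M, ∃ k : ℕ, ∀ r ∈ a.toIdeal ^ k, r • m = 0) (d : ℤ) :
    IsVanLE ℳ a d ↔ ∀ n, d < n → ∀ x ∈ ℳ n, x = 0 := by
  constructor
  · intro h n hn
    exact (exists_mem_Hgr_zero a (starRes 𝒜 ℳ) ht n).1 (h _ 0 n (by simpa using hn))
  · intro h E i n hn
    rcases Nat.eq_zero_or_pos i with rfl | hi
    · exact (exists_mem_Hgr_zero a E ht n).2 (h n (by simpa using hn))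
    · exact fun y _ => Hgr_eq_zero_of_torsion a E ht hi y

section ses

variable {f : M →ₗ[R] N} {g : N →ₗ[R] P} (hf : GrLC.IsGrHom ℳ 𝒩 f) (hfi : Function.Injective f)
  (hg : GrLC.IsGrHom 𝒩 𝒬 g) (hgs : Function.Surjective g) (hfg : Function.Exact f g)
include hf hfi hg hgs hfg

theorem isVanLE_left {d : ℤ} (h2 : IsVanLE 𝒩 a d) (h3 : IsVanLE 𝒬 a (d - 1)) : IsVanLE ℳ a d := by
  intro E i n hn
  obtain ⟨δ, hδ, h0, hex⟩ := exists_les E (starRes 𝒜 𝒬) (starRes 𝒜 𝒩) a hf hfi hg hgs hfg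
  cases i with
  | zero =>
    intro y hy
    have h := mapH_grHomDeg a (grHomDeg_zero_iff.2 hf) 0 (E := E) (F := starRes 𝒜 𝒩) _ y hy
    rw [add_zero] at h
    exact h0 ((h2 _ 0 n hn _ h).trans (map_zero _).symm)
  | succ i =>
    letI := Hdecomp (starRes 𝒜 𝒬) a i
    letI := Hdecomp (starRes 𝒜 𝒩) a (i + 1)
    letI := Hdecomp E a (i + 1)
    exact eq_zero_of_exact (grHomDeg_zero_iff.2 (hδ i)) (mapH_grHomDeg a (grHomDeg_zero_iff.2 hf) (i + 1))
      (hex i).2.2 n n n (add_zero n) (add_zero n) (h3 _ i n (by push_cast at hn; omega)) (h2 _ _ n hn)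

theorem isVanLE_mid {d : ℤ} (h1 : IsVanLE ℳ a d) (h3 : IsVanLE 𝒬 a d) : IsVanLE 𝒩 a d := by
  intro F i n hn
  obtain ⟨δ, hδ, h0, hex⟩ := exists_les (starRes 𝒜 ℳ) (starRes 𝒜 𝒬) F a hf hfi hg hgs hfg
  letI := Hdecomp (starRes 𝒜 ℳ) a i
  letI := Hdecomp (starRes 𝒜 𝒬) a i
  letI := Hdecomp F a i
  exact eq_zero_of_exact (mapH_grHomDeg a (grHomDeg_zero_iff.2 hf) i)
    (mapH_grHomDeg a (grHomDeg_zero_iff.2 hg) i) (hex i).1 n n n (add_zero n) (add_zero n)
    (h1 _ i n hn) (h3 _ i n hn)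

theorem isVanLE_right {d : ℤ} (h1 : IsVanLE ℳ a (d + 1)) (h2 : IsVanLE 𝒩 a d) : IsVanLE 𝒬 a d := by
  intro G i n hn
  obtain ⟨δ, hδ, h0, hex⟩ := exists_les (starRes 𝒜 ℳ) G (starRes 𝒜 𝒩) a hf hfi hg hgs hfg
  letI := Hdecomp (starRes 𝒜 ℳ) a (i + 1)
  letI := Hdecomp (starRes 𝒜 𝒩) a i
  letI := Hdecomp G a i
  exact eq_zero_of_exact (mapH_grHomDeg a (grHomDeg_zero_iff.2 hg) i)
    (grHomDeg_zero_iff.2 (hδ i)) (hex i).2.1 n n n (add_zero n) (add_zero n)
    (h2 _ i n hn) (h1 _ (i + 1) n (by push_cast; omega))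

end ses

theorem isVanLE_of_equiv (e : M ≃ₗ[R] N) (he : GrLC.IsGrHom ℳ 𝒩 e.toLinearMap) {d : ℤ}
    (h : IsVanLE 𝒩 a d) : IsVanLE ℳ a d :=
  fun E i n hn => Hgr_eq_zero_of_equiv a e he i n (fun F => h F i n hn) E

theorem isVanLE_equiv_iff (e : M ≃ₗ[R] N) (he : GrLC.IsGrHom ℳ 𝒩 e.toLinearMap) {d : ℤ} :
    IsVanLE ℳ a d ↔ IsVanLE 𝒩 a d := by
  refine ⟨fun h => isVanLE_of_equiv a e.symm (fun k y hy => ?_) h, isVanLE_of_equiv a e he⟩
  have h2 := proj_map (𝒩 := 𝒩) he k (e.symm y)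
  rw [LinearEquiv.coe_coe, e.apply_symm_apply, proj_of_mem hy] at h2
  have h3 := congrArg e.symm h2
  rw [e.symm_apply_apply] at h3
  show e.symm y ∈ ℳ k
  rw [h3]
  exact proj_mem ℳ _ _

section quasiRegular

variable {x : R} (hx : x ∈ 𝒜 1) {π : M →ₗ[R] N} (hπ : Function.Surjective π) (hπg : GrLC.IsGrHom ℳ 𝒩 π)
  (hker : LinearMap.ker π = LinearMap.range (x • (LinearMap.id : M →ₗ[R] M)))
  (htor : ∀ m : M, x • m = 0 → ∃ k : ℕ, ∀ r ∈ a.toIdeal ^ k, r • m = 0)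
include hx hπ hπg hker htor

/-- The sequences attached to multiplication by a quasi-regular element. -/
theorem exists_quasiRegular_les (E : GrLC.StarInjRes 𝒜 ℳ) (F : GrLC.StarInjRes 𝒜 𝒩) :
    letI := subDecomp ℳ (isHomogeneous_range_deg (smul_id_grHomDeg (ℳ := ℳ) hx))
    letI := shiftDecomp (subGr ℳ (LinearMap.range (x • LinearMap.id : M →ₗ[R] M))) 1
    ∃ (G : GrLC.StarInjRes 𝒜 (shiftGr (subGr ℳ (LinearMap.range (x • LinearMap.id : M →ₗ[R] M))) 1))
      (f : ∀ i, E.H a i →ₗ[R] G.H a i) (g : ∀ i, G.H a i →ₗ[R] E.H a i)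
      (h : ∀ i, E.H a i →ₗ[R] F.H a i) (δ : ∀ i, F.H a i →ₗ[R] G.H a (i + 1)),
      (∀ i, GrLC.IsGrHomDeg (E.Hgr a i) (G.Hgr a i) (f i) 0) ∧
      (∀ i, GrLC.IsGrHomDeg (G.Hgr a i) (E.Hgr a i) (g i) 1) ∧
      (∀ i, GrLC.IsGrHomDeg (E.Hgr a i) (F.Hgr a i) (h i) 0) ∧
      (∀ i, GrLC.IsGrHomDeg (F.Hgr a i) (G.Hgr a (i + 1)) (δ i) (-1)) ∧
      (∀ i, Function.Surjective (f i)) ∧ (∀ i, 0 < i → Function.Injective (f i)) ∧
      (∀ i y, g i (f i y) = x • y) ∧ (∀ i, Function.Exact (g i) (h i)) ∧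
      (∀ i, Function.Exact (h i) (δ i)) ∧ (∀ i, Function.Exact (δ i) (g (i + 1))) := by
  letI := subDecomp ℳ (isHomogeneous_range_deg (smul_id_grHomDeg (ℳ := ℳ) hx))
  letI := subDecomp ℳ (isHomogeneous_ker_deg (smul_id_grHomDeg (ℳ := ℳ) hx))
  let ℐ := shiftGr (subGr ℳ (LinearMap.range (x • LinearMap.id : M →ₗ[R] M))) 1
  letI := shiftDecomp (subGr ℳ (LinearMap.range (x • LinearMap.id : M →ₗ[R] M))) 1
  let G := starRes 𝒜 ℐ
  have hp : GrLC.IsGrHom ℳ ℐ (x • LinearMap.id : M →ₗ[R] M).rangeRestrict :=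
    fun k y hy => smul_id_grHomDeg (ℳ := ℳ) hx k y hy
  have hi : GrLC.IsGrHomDeg ℐ ℳ (LinearMap.range (x • LinearMap.id : M →ₗ[R] M)).subtype 1 :=
    fun k y hy => hy
  have hex1 : Function.Exact (LinearMap.ker (x • LinearMap.id : M →ₗ[R] M)).subtype
      (x • LinearMap.id : M →ₗ[R] M).rangeRestrict :=
    LinearMap.exact_iff.2 (by rw [LinearMap.ker_rangeRestrict, Submodule.range_subtype])
  have hex2 : Function.Exact (LinearMap.range (x • LinearMap.id : M →ₗ[R] M)).subtype π :=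
    LinearMap.exact_iff.2 (by rw [Submodule.range_subtype, hker])
  obtain ⟨δ₁, hδ₁, -, hE1⟩ := exists_les
    (starRes 𝒜 (subGr ℳ (LinearMap.ker (x • LinearMap.id : M →ₗ[R] M)))) G E a
    (subtype_grHom (LinearMap.ker (x • LinearMap.id : M →ₗ[R] M))) Subtype.coe_injective hp
    (LinearMap.surjective_rangeRestrict _) hex1
  obtain ⟨δ, hδ, -, hE2⟩ := exists_les_deg G F E a hi Subtype.coe_injective hπg hπ hex2
  have hK : ∀ i, 0 < i → ∀ z : (starRes 𝒜 (subGr ℳ (LinearMap.ker (x • LinearMap.id : M →ₗ[R] M)))).H a i,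
      z = 0 := fun i hi' z => Hgr_eq_zero_of_torsion a _ (fun w => by
        obtain ⟨k, hk⟩ := htor w (by simpa using w.2)
        exact ⟨k, fun r hr => Subtype.ext (hk r hr)⟩) hi' z
  refine ⟨G, fun i => mapH E G a (grHomDeg_zero_iff.2 hp) i, fun i => mapH G E a hi i,
    fun i => mapH E F a (grHomDeg_zero_iff.2 hπg) i, δ, fun i => mapH_grHomDeg a _ i,
    fun i => mapH_grHomDeg a _ i, fun i => mapH_grHomDeg a _ i, hδ, fun i y => ?_, fun i hi' => ?_,
    fun i y => ?_, fun i => (hE2 i).1, fun i => (hE2 i).2.1, fun i => (hE2 i).2.2⟩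
  · exact ((hE1 i).2.1 y).1 (hK (i + 1) (Nat.succ_pos i) _)
  · refine (injective_iff_map_eq_zero _).2 fun y hy => ?_
    obtain ⟨z, rfl⟩ := ((hE1 i).1 y).1 hy
    rw [hK i hi' z, map_zero]
  · rw [← LinearMap.comp_apply, ← mapH_comp a (grHomDeg_zero_iff.2 hp) hi
      (by rw [zero_add]; exact smul_id_grHomDeg (ℳ := ℳ) hx) i]
    exact LinearMap.congr_fun ((mapH_congr a rfl (zero_add 1) _ (smul_id_grHomDeg hx) i).trans
      (mapH_smul_id a hx _ i)) y

/-- Weak regularity descends along a quasi-regular element. -/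
theorem Hgr_quot_eq_zero (E : GrLC.StarInjRes 𝒜 ℳ) (F : GrLC.StarInjRes 𝒜 𝒩) (i : ℕ) (n : ℤ)
    (h1 : ∀ y ∈ E.Hgr a i n, y = 0) (h2 : ∀ y ∈ E.Hgr a (i + 1) (n - 1), y = 0) :
    ∀ y ∈ F.Hgr a i n, y = 0 := by
  letI := subDecomp ℳ (isHomogeneous_range_deg (smul_id_grHomDeg (ℳ := ℳ) hx))
  letI := shiftDecomp (subGr ℳ (LinearMap.range (x • LinearMap.id : M →ₗ[R] M))) 1
  obtain ⟨G, f, g, h, δ, hf, hg, hh, hδ, hfs, hfi, hgf, e1, e2, e3⟩ :=
    exists_quasiRegular_les a hx hπ hπg hker htor E F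
  letI := Hdecomp E a i
  letI := Hdecomp F a i
  letI := Hdecomp G a (i + 1)
  letI := Hdecomp E a (i + 1)
  refine eq_zero_of_exact (hh i) (hδ i) (e2 i) n n (n - 1) (add_zero n) rfl h1 ?_
  intro y hy
  obtain ⟨w, hw, rfl⟩ := exists_preimage (hf (i + 1)) (g := n - 1) (y := y) (by rwa [add_zero])
    (hfs _ y)
  rw [h2 w hw, map_zero]

/-- Higher cohomology from that of the quotient by a quasi-regular element. -/
theorem Hgr_succ_eq_zero (hxa : x ∈ a.toIdeal) (E : GrLC.StarInjRes 𝒜 ℳ) (F : GrLC.StarInjRes 𝒜 𝒩) (i : ℕ)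
    (c : ℤ) (hN : ∀ n, c < n → ∀ y ∈ F.Hgr a i n, y = 0) :
    ∀ n, c - 1 < n → ∀ y ∈ E.Hgr a (i + 1) n, y = 0 := by
  letI := subDecomp ℳ (isHomogeneous_range_deg (smul_id_grHomDeg (ℳ := ℳ) hx))
  letI := shiftDecomp (subGr ℳ (LinearMap.range (x • LinearMap.id : M →ₗ[R] M))) 1
  obtain ⟨G, f, g, h, δ, hf, hg, hh, hδ, hfs, hfi, hgf, e1, e2, e3⟩ :=
    exists_quasiRegular_les a hx hπ hπg hker htor E F
  letI := Hdecomp F a i
  letI := Hdecomp G a (i + 1)
  letI := Hdecomp E a (i + 1)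
  intro n hn y hy
  obtain ⟨j, hj⟩ := exists_pow_smul_H a (i + 1) y
  have hxj : x ^ j • y = 0 := hj _ (Ideal.pow_mem_pow hxa j)
  clear hj
  induction j generalizing n y with
  | zero => rwa [pow_zero, one_smul] at hxj
  | succ j ihj =>
    have hxy : x • y = 0 := ihj (1 + n) (by omega) (x • y) (smul_mem hx hy) (by rwa [← mul_smul, ← pow_succ])
    have hfy : f (i + 1) y ∈ G.Hgr a (i + 1) n := by
      have := hf (i + 1) n y hy
      rwa [add_zero] at this
    obtain ⟨w, hw, hwy⟩ := exists_preimage (hδ i) (g := n + 1) (y := f (i + 1) y)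
      (by rwa [add_neg_cancel_right]) ((e3 i _).1 (by rw [hgf, hxy]))
    rw [hN (n + 1) (by omega) w hw, map_zero] at hwy
    exact hfi (i + 1) (Nat.succ_pos i) (hwy.symm.trans (map_zero _).symm)

/-- Regularity and a quasi-regular linear element. -/
theorem isVanLE_quasiRegular (hxa : x ∈ a.toIdeal) (E : GrLC.StarInjRes 𝒜 ℳ) (d : ℤ) :
    IsVanLE ℳ a d ↔ IsVanLE 𝒩 a d ∧ ∀ n, d < n → ∀ y ∈ E.Hgr a 0 n, y = 0 := by
  constructor
  · intro h
    refine ⟨fun F i n hn => Hgr_quot_eq_zero a hx hπ hπg hker htor (starRes 𝒜 ℳ) F i n (h _ i n hn)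
      (h _ (i + 1) (n - 1) (by push_cast; omega)), fun n hn => h E 0 n (by simpa using hn)⟩
  · rintro ⟨hN, h0⟩
    refine (isVanLE_iff a E d).2 fun i n hn => ?_
    cases i with
    | zero => exact h0 n (by simpa using hn)
    | succ i =>
      exact Hgr_succ_eq_zero a hx hπ hπg hker htor hxa E (starRes 𝒜 𝒩) i (d - i)
        (fun n' hn' => hN _ i n' (by omega)) n (by push_cast at hn; omega)

end quasiRegular

omit [IsNoetherianRing R] in
include ℳ in
theorem torsion_of_quasiRegular (hpos : ∀ n : ℤ, n < 0 → ∀ x ∈ 𝒜 n, x = 0)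
    (ha : a.toIdeal = Ideal.span ((𝒜 1 : σ) : Set R)) {x : R} {e : ℤ} (hx : x ∈ 𝒜 e)
    (hq : IsFiniteLength R ↥(Submodule.torsionBy R M x)) (m : M) (hm : x • m = 0) :
    ∃ k : ℕ, ∀ r ∈ a.toIdeal ^ k, r • m = 0 := by
  have hK : (Submodule.torsionBy R M x).IsHomogeneous ℳ := by
    intro g z hz
    rw [Submodule.mem_torsionBy_iff] at hz ⊢
    show x • proj ℳ g z = 0
    rw [← proj_smul hx, hz, map_zero]
  letI := subDecomp ℳ hK
  haveI := (isFiniteLength_iff_isNoetherian_isArtinian.1 hq).2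
  obtain ⟨U, hU⟩ := exists_bdd_of_isArtinian (ℳ := subGr ℳ (Submodule.torsionBy R M x)) hpos
  obtain ⟨k, hk⟩ := isTorsion_of_bdd (ℳ := subGr ℳ (Submodule.torsionBy R M x)) a hpos ha U hU ⟨m, hm⟩
  exact ⟨k, fun r hr => congrArg Subtype.val (hk r hr)⟩

section sequence

variable (ys : List R) (hys : ∀ y ∈ ys, y ∈ 𝒜 1)
include hys

theorem isHomogeneous_ofList_smul (t : ℕ) :
    (Ideal.ofList (ys.take t) • (⊤ : Submodule R M)).IsHomogeneous ℳ := by
  have h : Ideal.ofList (ys.take t) • (⊤ : Submodule R M) =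
      Submodule.span R {z : M | ∃ g, z ∈ ℳ g ∧ z ∈ Ideal.ofList (ys.take t) • (⊤ : Submodule R M)} := by
    refine le_antisymm (Submodule.smul_le.2 fun r hr z _ => ?_) (Submodule.span_le.2 fun z ⟨g, _, hz⟩ => hz)
    induction hr using Submodule.span_induction generalizing z with
    | mem y hy =>
      refine induction ℳ (motive := fun z => y • z ∈ _) (by rw [smul_zero]; exact zero_mem _) ?_
        (fun z z' h h' => by rw [smul_add]; exact add_mem h h') z
      intro g w hw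
      exact Submodule.subset_span ⟨1 + g, smul_mem (ℳ := ℳ) (hys y (List.mem_of_mem_take hy)) hw,
        Submodule.smul_mem_smul (Submodule.subset_span hy) Submodule.mem_top⟩
    | zero => rw [zero_smul]; exact zero_mem _
    | add y y' _ _ h h' => rw [add_smul]; exact add_mem (h z Submodule.mem_top) (h' z Submodule.mem_top)
    | smul c y _ h => rw [smul_eq_mul, mul_smul]; exact Submodule.smul_mem _ _ (h z Submodule.mem_top)
  rw [h]
  exact isHomogeneous_span 𝒜 fun z ⟨g, hz, _⟩ => ⟨g, hz⟩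

/-- Regularity along a regular sequence of linear elements. -/
theorem isVanLE_regularSeq (hxa : ∀ y ∈ ys, y ∈ a.toIdeal) (hreg : RingTheory.Sequence.IsWeaklyRegular M ys)
    (t : ℕ) (ht : t ≤ ys.length) (d : ℤ) :
    letI := qDecomp ℳ (isHomogeneous_ofList_smul (ℳ := ℳ) ys hys t)
    IsVanLE ℳ a d ↔ IsVanLE (qGr ℳ (Ideal.ofList (ys.take t) • (⊤ : Submodule R M))) a d := by
  induction t with
  | zero =>
    letI := qDecomp ℳ (isHomogeneous_ofList_smul (ℳ := ℳ) ys hys 0)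
    have h0 : Ideal.ofList (ys.take 0) • (⊤ : Submodule R M) = ⊥ := by
      rw [List.take_zero, Ideal.ofList_nil, Submodule.bot_smul]
    have he : GrLC.IsGrHom ℳ (qGr ℳ (Ideal.ofList (ys.take 0) • (⊤ : Submodule R M)))
      (Submodule.quotEquivOfEqBot _ h0).symm.toLinearMap := fun l p hp => ⟨p, hp, rfl⟩
    exact isVanLE_equiv_iff a _ he
  | succ t ih =>
    letI := qDecomp ℳ (isHomogeneous_ofList_smul (ℳ := ℳ) ys hys t)
    letI := qDecomp ℳ (isHomogeneous_ofList_smul (ℳ := ℳ) ys hys (t + 1))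
    have htl : t < ys.length := ht
    have hle : Ideal.ofList (ys.take t) • (⊤ : Submodule R M) ≤ Ideal.ofList (ys.take (t + 1)) • ⊤ :=
      Submodule.smul_mono_left (Ideal.span_mono fun y hy =>
        (show y ∈ ys.take (t + 1) by rw [List.take_succ]; exact List.mem_append_left _ hy))
    have hsplit : Ideal.ofList (ys.take (t + 1)) • (⊤ : Submodule R M) =
        Ideal.ofList (ys.take t) • ⊤ ⊔ Ideal.span {ys[t]} • ⊤ := by
      rw [← Submodule.sup_smul, List.take_succ, Ideal.ofList_append,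
        List.getElem?_eq_getElem htl, Option.toList_some, Ideal.ofList_singleton]
    have hπ := Submodule.factor_surjective hle
    have hπg : GrLC.IsGrHom (qGr ℳ (Ideal.ofList (ys.take t) • (⊤ : Submodule R M)))
        (qGr ℳ (Ideal.ofList (ys.take (t + 1)) • (⊤ : Submodule R M))) (Submodule.factor hle) := by
      rintro g _ ⟨p, hp, rfl⟩
      exact ⟨p, hp, rfl⟩
    have hker : LinearMap.ker (Submodule.factor hle) = LinearMap.range (ys[t] • LinearMap.id :
        (M ⧸ Ideal.ofList (ys.take t) • (⊤ : Submodule R M)) →ₗ[R] _) := by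
      refine le_antisymm (fun z hz => ?_) ?_
      · obtain ⟨p, rfl⟩ := Submodule.Quotient.mk_surjective _ z
        have hp : p ∈ Ideal.ofList (ys.take (t + 1)) • (⊤ : Submodule R M) :=
          (Submodule.Quotient.mk_eq_zero _).1 hz
        rw [hsplit] at hp
        obtain ⟨u, hu, v, hv, rfl⟩ := Submodule.mem_sup.1 hp
        rw [Submodule.ideal_span_singleton_smul] at hv
        obtain ⟨w, -, rfl⟩ := (Submodule.mem_smul_pointwise_iff_exists _ _ _).1 hv
        refine ⟨Submodule.Quotient.mk w, ((Submodule.Quotient.eq _).2 ?_).symm⟩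
        show u + ys[t] • w - ys[t] • w ∈ _
        simpa using hu
      · rintro _ ⟨z, rfl⟩
        obtain ⟨w, rfl⟩ := Submodule.Quotient.mk_surjective _ z
        refine (Submodule.Quotient.mk_eq_zero _).2 ?_
        show ys[t] • w ∈ _
        rw [hsplit]
        exact Submodule.mem_sup_right (Submodule.smul_mem_smul (Ideal.mem_span_singleton_self _) Submodule.mem_top)
    have hr := hreg.regular_mod_prev t htl
    rw [ih (by omega), isVanLE_quasiRegular a (hys _ (List.getElem_mem htl)) hπ hπg hker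
      (fun m hm => ⟨0, fun r _ => by rw [hr.right_eq_zero_of_smul hm, smul_zero]⟩)
      (hxa _ (List.getElem_mem htl)) (starRes 𝒜 _) d]
    exact and_iff_left fun n _ y _ =>
      Hgr_zero_eq_zero_of_regular a (hxa _ (List.getElem_mem htl)) hr _ y

end sequence

end Groth.Agent.GrLib
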