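import Groth.Agent.GrLib.Bounded
import Groth.Agent.GrLib.Acyclic
import Groth.Agent.LocCoh.Vanishing
import Groth.Agent.SegreDim.CMUnmixed
import Mathlib.RingTheory.Ideal.AssociatedPrime.Finiteness

/-!
Graded local cohomology of finite modules over a non-negatively graded Noetherian ring:
vanishing in large degrees, finiteness of the pieces.
-/

set_option autoImplicit false
set_option linter.unusedSectionVars false
set_option linter.unusedVariables false
set_option linter.style.haveILetI false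

universe u

open DirectSum

namespace Groth.Agent.GrLib

variable {R : Type u} [CommRing R] {σ : Type u} [SetLike σ R] [AddSubgroupClass σ R]
  {𝒜 : ℤ → σ} [GradedRing 𝒜] [IsNoetherianRing R]
variable {M : Type u} [AddCommGroup M] [Module R M] {τ : Type u} [SetLike τ M] [AddSubgroupClass τ M]
  {ℳ : ℤ → τ} [Decomposition ℳ] [SetLike.GradedSMul 𝒜 ℳ]

variable (hpos : ∀ n : ℤ, n < 0 → ∀ x ∈ 𝒜 n, x = 0)
variable (P : HomogeneousIdeal 𝒜)
  (hP : P.toIdeal = Ideal.span (⋃ n ∈ Set.Ioi (0 : ℤ), (𝒜 n : Set R)))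

/-- A submodule killed elementwise by powers of an ideal is killed by one power. -/
theorem exists_pow_kill (a : Ideal R) (N : Type u) [AddCommGroup N] [Module R N] [Module.Finite R N]
    (h : ∀ x : N, ∃ k : ℕ, ∀ r ∈ a ^ k, r • x = 0) : ∃ k : ℕ, ∀ r ∈ a ^ k, ∀ x : N, r • x = 0 := by
  classical
  obtain ⟨s, hs⟩ := Module.Finite.fg_top (R := R) (M := N)
  choose k hk using h
  refine ⟨s.sup k, fun r hr x => ?_⟩
  have hx : x ∈ Submodule.span R (s : Set N) := hs ▸ Submodule.mem_top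
  induction hx using Submodule.span_induction with
  | mem y hy => exact hk y r (Ideal.pow_le_pow_right (Finset.le_sup hy) hr)
  | zero => exact smul_zero r
  | add y z _ _ hy hz => rw [smul_add, hy, hz, add_zero]
  | smul c y _ hy => rw [smul_comm, hy, smul_zero]

include hP in
theorem mem_irrelevant_of_pos {n : ℤ} (hn : 0 < n) {x : R} (hx : x ∈ 𝒜 n) : x ∈ P.toIdeal :=
  hP ▸ Ideal.subset_span (Set.mem_iUnion₂.2 ⟨n, hn, hx⟩)

include hP in
theorem exists_irrelevant_gens : ∃ (m : ℕ) (y : Fin m → R) (e : Fin m → ℤ),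
    (∀ j, 0 < e j ∧ y j ∈ 𝒜 (e j)) ∧ P.toIdeal = Ideal.span (Set.range y) := by
  classical
  have hfg : (Ideal.span (⋃ n ∈ Set.Ioi (0 : ℤ), (𝒜 n : Set R))).FG := IsNoetherian.noetherian _
  obtain ⟨s, hs, hspan⟩ := (Submodule.fg_span_iff_fg_span_finset_subset _).1 hfg
  have hs' : ∀ x : s, ∃ n : ℤ, 0 < n ∧ (x : R) ∈ 𝒜 n := fun x => by
    obtain ⟨n, hn, hx⟩ := Set.mem_iUnion₂.1 (hs x.2)
    exact ⟨n, hn, hx⟩
  choose e he using hs'
  refine ⟨s.card, fun j => (s.equivFin.symm j : R), fun j => e (s.equivFin.symm j), fun j => he _, ?_⟩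
  rw [hP]
  refine hspan.trans (congrArg Ideal.span ?_)
  ext x
  exact ⟨fun hx => ⟨s.equivFin ⟨x, hx⟩, by simp⟩, fun ⟨j, hj⟩ => hj ▸ (s.equivFin.symm j).2⟩

include hpos hP in
theorem proj_eq_zero_of_mem {x : R} (hx : x ∈ P.toIdeal) {n : ℤ} (hn : n ≤ 0) : proj 𝒜 n x = 0 := by
  classical
  obtain ⟨m, y, e, hy, hspan⟩ := exists_irrelevant_gens P hP
  rw [hspan] at hx
  obtain ⟨c, rfl⟩ := (Submodule.mem_span_range_iff_exists_fun R).1 hx
  rw [map_sum]
  refine Finset.sum_eq_zero fun j _ => ?_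
  rw [smul_eq_mul, mul_comm, ← smul_eq_mul, proj_smul' (ℳ := 𝒜) (hy j).2,
    hpos _ (by have := (hy j).1; omega) _ (proj_mem 𝒜 _ _), smul_zero]

include hpos hP in
theorem exists_deg_le_pow (k : ℕ) : ∃ D : ℤ, ∀ d, D ≤ d → ∀ x ∈ 𝒜 d, x ∈ P.toIdeal ^ k := by
  classical
  induction k with
  | zero => exact ⟨0, fun d _ x _ => by rw [pow_zero, Ideal.one_eq_top]; trivial⟩
  | succ k ih =>
    obtain ⟨D, hD⟩ := ih
    obtain ⟨m, y, e, hy, hspan⟩ := exists_irrelevant_gens P hP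
    refine ⟨(Finset.univ.sum fun j => e j) + |D| + 1, fun d hd x hx => ?_⟩
    have hsum : 0 ≤ Finset.univ.sum fun j => e j := Finset.sum_nonneg fun j _ => (hy j).1.le
    have habs := le_abs_self D
    have hxP : x ∈ P.toIdeal := mem_irrelevant_of_pos P hP (by have := abs_nonneg D; omega) hx
    rw [hspan] at hxP
    obtain ⟨c, hc⟩ := (Submodule.mem_span_range_iff_exists_fun R).1 hxP
    have hxe : x = ∑ j, y j • proj 𝒜 (d - e j) (c j) := by
      conv_lhs => rw [← proj_of_mem hx, ← hc, map_sum]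
      refine Finset.sum_congr rfl fun j _ => ?_
      rw [smul_eq_mul, mul_comm, ← smul_eq_mul, proj_smul' (ℳ := 𝒜) (hy j).2]
    rw [hxe, pow_succ']
    refine sum_mem fun j _ => ?_
    refine Ideal.mul_mem_mul (hspan ▸ Ideal.subset_span ⟨j, rfl⟩) (hD _ ?_ _ (proj_mem 𝒜 _ _))
    have := Finset.single_le_sum (fun i _ => (hy i).1.le) (Finset.mem_univ j)
    omega

include hpos hP in
/-- A finite graded module killed by a power of the irrelevant ideal is bounded above. -/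
theorem exists_bdd_of_kill [Module.Finite R M] (k : ℕ) (hk : ∀ r ∈ P.toIdeal ^ k, ∀ x : M, r • x = 0) :
    ∃ r : ℤ, ∀ n, r < n → ∀ x ∈ ℳ n, x = 0 := by
  classical
  obtain ⟨m, z, g, hz, hspan⟩ := exists_hom_generators (ℳ := ℳ) 𝒜
  obtain ⟨D, hD⟩ := exists_deg_le_pow hpos P hP k
  refine ⟨|D| + Finset.univ.sum fun j => |g j|, fun n hn x hx => ?_⟩
  obtain ⟨c, hc⟩ := (Submodule.mem_span_range_iff_exists_fun R).1 (hspan ▸ Submodule.mem_top (x := x))
  rw [← proj_of_mem hx, ← hc, map_sum]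
  refine Finset.sum_eq_zero fun j _ => ?_
  refine smul_induction 𝒜 (motive := fun r => proj ℳ n (r • z j) = 0) (by simp) ?_ ?_ (c j)
  · intro a s hs
    by_cases h : a + g j = n
    · have h1 : |g j| ≤ ∑ i, |g i| :=
        Finset.single_le_sum (f := fun j => |g j|) (fun i _ => abs_nonneg (g i)) (Finset.mem_univ j)
      have h2 := le_abs_self (g j)
      have h3 := le_abs_self D
      rw [hk s (hD a (by omega) s hs) (z j), map_zero]
    · exact proj_of_mem_ne (smul_mem hs (hz j)) h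
  · intro x y hx hy
    simp [add_smul, hx, hy]

include hpos hP in
/-- Homogeneous prime avoidance in the irrelevant ideal. -/
theorem exists_avoid_hom (S : Finset (Ideal R)) (hS : ∀ p ∈ S, p.IsPrime)
    (hhom : ∀ p ∈ S, p.IsHomogeneous 𝒜) (hnle : ∀ p ∈ S, ¬ P.toIdeal ≤ p) :
    ∃ d : ℤ, 0 < d ∧ ∃ x ∈ 𝒜 d, ∀ p ∈ S, x ∉ p := by
  classical
  let T := S.filter fun p => ∀ q ∈ S, p ≤ q → p = q
  have hT : ∀ p ∈ S, ∃ q ∈ T, p ≤ q := fun p hp => by
    obtain ⟨q, hq, hmax⟩ := Finset.exists_maximal (s := S.filter (p ≤ ·)) ⟨p, Finset.mem_filter.2 ⟨hp, le_rfl⟩⟩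
    rw [Finset.mem_filter] at hq
    exact ⟨q, Finset.mem_filter.2 ⟨hq.1, fun q' hq' hle =>
      le_antisymm hle (hmax (Finset.mem_filter.2 ⟨hq', hq.2.trans hle⟩) hle)⟩, hq.2⟩
  have hz : ∀ p : T, ∃ (d : ℕ) (z : R), 0 < d ∧ z ∈ 𝒜 (d : ℤ) ∧ z ∉ p.1 ∧ ∀ q : T, q ≠ p → z ∈ q.1 := by
    intro p
    obtain ⟨hpS, hpmax⟩ := Finset.mem_filter.1 p.2
    let J : Ideal R := P.toIdeal ⊓ (T.erase p.1).inf id
    have hJ : ¬ J ≤ p.1 := fun hle => by
      rcases (hS _ hpS).inf_le.1 hle with h | h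
      · exact hnle _ hpS h
      · obtain ⟨q, hq, hqp⟩ := (hS _ hpS).inf_le'.1 h
        obtain ⟨hne, hqT⟩ := Finset.mem_erase.1 hq
        exact hne ((Finset.mem_filter.1 hqT).2 p.1 hpS hqp)
    obtain ⟨w, hwJ, hwp⟩ := SetLike.not_le_iff_exists.1 hJ
    obtain ⟨n, hn⟩ : ∃ n, proj 𝒜 n w ∉ p.1 := by
      by_contra! h
      exact hwp (mem_of_proj_mem 𝒜 p.1 h)
    have hnpos : 0 < n := by
      by_contra h
      exact hn (by rw [proj_eq_zero_of_mem hpos P hP hwJ.1 (not_lt.1 h)]; exact zero_mem _)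
    refine ⟨n.toNat, proj 𝒜 n w, by omega, by rw [Int.toNat_of_nonneg hnpos.le]; exact proj_mem 𝒜 n w, hn,
      fun q hq => ?_⟩
    have hqe : q.1 ∈ T.erase p.1 := Finset.mem_erase.2 ⟨fun h => hq (Subtype.ext h), q.2⟩
    exact hhom _ (Finset.mem_filter.1 q.2).1 n (Finset.inf_le (f := id) hqe hwJ.2)
  choose d z hd hzd hzp hzq using hz
  let D : ℕ := Finset.univ.prod d
  have hD : 0 < D := Finset.prod_pos fun p _ => hd p
  refine ⟨D, by omega, ∑ p : T, z p ^ (D / d p), sum_mem fun p _ => ?_, fun p hp hmem => ?_⟩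
  · have := SetLike.pow_mem_graded (D / d p) (hzd p)
    rwa [show (D / d p) • ((d p : ℕ) : ℤ) = (D : ℤ) by
      rw [nsmul_eq_mul, ← Nat.cast_mul, Nat.div_mul_cancel (Finset.dvd_prod_of_mem d (Finset.mem_univ p))]] at this
  · obtain ⟨q, hq, hpq⟩ := hT p hp
    have hmem' := hpq hmem
    rw [← Finset.add_sum_erase _ _ (Finset.mem_univ (⟨q, hq⟩ : T))] at hmem'
    have h0 : 0 < D / d ⟨q, hq⟩ := Nat.div_pos (Nat.le_of_dvd hD (Finset.dvd_prod_of_mem d (Finset.mem_univ _))) (hd _)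
    refine hzp ⟨q, hq⟩ ((hS q (Finset.mem_filter.1 hq).1).mem_of_pow_mem (D / d ⟨q, hq⟩) ?_)
    refine (Submodule.add_mem_iff_left q (sum_mem fun r hr => ?_)).1 hmem'
    have hr0 : 0 < D / d r := Nat.div_pos (Nat.le_of_dvd hD (Finset.dvd_prod_of_mem d (Finset.mem_univ _))) (hd _)
    exact Ideal.pow_mem_of_mem q (hzq r ⟨q, hq⟩ (Ne.symm (Finset.ne_of_mem_erase hr))) _ hr0

include hpos hP ℳ in
/-- A homogeneous regular element of positive degree. -/
theorem exists_regular_hom [Module.Finite R M] (h : GrLC.gam P.toIdeal M = ⊥) :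
    ∃ d : ℤ, 0 < d ∧ ∃ x ∈ 𝒜 d, IsSMulRegular M x := by
  classical
  obtain ⟨d, hd, x, hx, hav⟩ := exists_avoid_hom hpos P hP (associatedPrimes.finite R M).toFinset
    (fun p hp => IsAssociatedPrime.isPrime ((associatedPrimes.finite R M).mem_toFinset.1 hp))
    (fun p hp => SegreDim.isHomogeneous_of_mem_associatedPrimes 𝒜 ℳ
      ((associatedPrimes.finite R M).mem_toFinset.1 hp))
    (fun p hp hle => by
      obtain ⟨hpp, f, hf⟩ := (isAssociatedPrime_iff_exists_injective_linearMap p M).1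
        ((associatedPrimes.finite R M).mem_toFinset.1 hp)
      have hm : f (Submodule.Quotient.mk 1) ∈ GrLC.gam P.toIdeal M := ⟨1, fun r hr => by
        rw [← map_smul, ← Submodule.Quotient.mk_smul, smul_eq_mul, mul_one,
          (Submodule.Quotient.mk_eq_zero _).2 (hle (by simpa using hr)), map_zero]⟩
      rw [h, Submodule.mem_bot, map_eq_zero_iff f hf, Submodule.Quotient.mk_eq_zero] at hm
      exact hpp.ne_top ((Ideal.eq_top_iff_one p).2 hm))
  refine ⟨d, hd, x, hx, ?_⟩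
  by_contra hreg
  have : x ∈ ⋃ p ∈ associatedPrimes R M, (p : Set R) := by
    rw [biUnion_associatedPrimes_eq_compl_regular R M]
    exact hreg
  obtain ⟨p, hp, hxp⟩ := Set.mem_iUnion₂.1 this
  exact hav p ((associatedPrimes.finite R M).mem_toFinset.2 hp) hxp

/-- The quotient by the torsion submodule is torsion free. -/
theorem gam_quotient_eq_bot (a : Ideal R) [Module.Finite R M] :
    GrLC.gam a (M ⧸ GrLC.gam a M) = ⊥ := by
  refine eq_bot_iff.2 fun y hy => ?_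
  obtain ⟨m, rfl⟩ := Submodule.Quotient.mk_surjective _ y
  obtain ⟨k, hk⟩ := hy
  haveI : Module.Finite R (GrLC.gam a M) := Module.Finite.iff_fg.2 (IsNoetherian.noetherian _)
  obtain ⟨l, hl⟩ := exists_pow_kill a (GrLC.gam a M) fun x => by
    obtain ⟨j, hj⟩ := x.2
    exact ⟨j, fun r hr => Subtype.ext (hj r hr)⟩
  refine (Submodule.mem_bot R).2 ((Submodule.Quotient.mk_eq_zero _).2 ⟨l + k, fun r hr => ?_⟩)
  rw [pow_add] at hr
  refine Submodule.mul_induction_on hr (fun s hs t ht => ?_) fun s t hs ht => by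
    rw [add_smul, hs, ht, add_zero]
  rw [mul_smul]
  exact congrArg Subtype.val (hl s hs ⟨t • m,
    (Submodule.Quotient.mk_eq_zero _).1 ((Submodule.Quotient.mk_smul _ t m).trans (hk t ht))⟩)

section LES

/-- The grading of the quotient by the torsion, as an exact sequence. -/
theorem exists_torsion_free_step (a b : HomogeneousIdeal 𝒜) (E : GrLC.StarInjRes 𝒜 ℳ) (i : ℕ) :
    letI := subDecomp ℳ (isHomogeneous_gam (M := M) (ℳ := ℳ) a.isHomogeneous)
    letI := qDecomp ℳ (isHomogeneous_gam (M := M) (ℳ := ℳ) a.isHomogeneous)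
    ∃ (E₁ : GrLC.StarInjRes 𝒜 (subGr ℳ (GrLC.gam a.toIdeal M)))
      (E₂ : GrLC.StarInjRes 𝒜 (qGr ℳ (GrLC.gam a.toIdeal M)))
      (f : E₁.H b i →ₗ[R] E.H b i) (g : E.H b i →ₗ[R] E₂.H b i),
      GrLC.IsGrHomDeg (E₁.Hgr b i) (E.Hgr b i) f 0 ∧ GrLC.IsGrHomDeg (E.Hgr b i) (E₂.Hgr b i) g 0 ∧
        Function.Exact f g := by
  letI := subDecomp ℳ (isHomogeneous_gam (M := M) (ℳ := ℳ) a.isHomogeneous)
  letI := qDecomp ℳ (isHomogeneous_gam (M := M) (ℳ := ℳ) a.isHomogeneous)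
  let E₁ := starRes 𝒜 (subGr ℳ (GrLC.gam a.toIdeal M))
  let E₂ := starRes 𝒜 (qGr ℳ (GrLC.gam a.toIdeal M))
  obtain ⟨δ, -, -, hex⟩ := exists_les E₁ E₂ E b (f := (GrLC.gam a.toIdeal M).subtype)
    (g := (GrLC.gam a.toIdeal M).mkQ) (subtype_grHom _) Subtype.coe_injective (mkQ_grHom _)
    (Submodule.mkQ_surjective _) (LinearMap.exact_subtype_mkQ _)
  exact ⟨E₁, E₂, _, _, mapH_grHomDeg b _ i, mapH_grHomDeg b _ i, (hex i).1⟩

/-- Multiplication by a regular homogeneous element as an exact sequence in cohomology. -/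
theorem exists_regular_step (b : HomogeneousIdeal 𝒜) (E : GrLC.StarInjRes 𝒜 ℳ) {d : ℤ} {x : R}
    (hx : x ∈ 𝒜 d) (hreg : IsSMulRegular M x) :
    letI := qDecomp ℳ (isHomogeneous_range_deg (smul_id_grHomDeg (ℳ := ℳ) hx))
    ∃ (E₂ : GrLC.StarInjRes 𝒜 (qGr ℳ (LinearMap.range (x • LinearMap.id : M →ₗ[R] M))))
      (δ : ∀ i, E₂.H b i →ₗ[R] E.H b (i + 1)),
      (∀ i, GrLC.IsGrHomDeg (E₂.Hgr b i) (E.Hgr b (i + 1)) (δ i) (-d)) ∧
      ∀ i, Function.Exact (δ i) (x • LinearMap.id : E.H b (i + 1) →ₗ[R] E.H b (i + 1)) := by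
  letI := qDecomp ℳ (isHomogeneous_range_deg (smul_id_grHomDeg (ℳ := ℳ) hx))
  let E₂ := starRes 𝒜 (qGr ℳ (LinearMap.range (x • LinearMap.id : M →ₗ[R] M)))
  obtain ⟨δ, hδ, -, hex⟩ := exists_les_deg E E₂ E b (f := (x • LinearMap.id : M →ₗ[R] M))
    (g := (LinearMap.range (x • LinearMap.id : M →ₗ[R] M)).mkQ) (smul_id_grHomDeg hx) hreg (mkQ_grHom _)
    (Submodule.mkQ_surjective _) (LinearMap.exact_map_mkQ_range _)
  refine ⟨E₂, δ, hδ, fun i => ?_⟩
  have := (hex i).2.2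
  rwa [mapH_smul_id b hx] at this

end LES

include hpos hP in
/-- Vanishing in large degrees. -/
theorem exists_vanishing (b : HomogeneousIdeal 𝒜) (hb : P.toIdeal ≤ b.toIdeal) (i : ℕ) :
    ∀ {M : Type u} [AddCommGroup M] [Module R M] {τ : Type u} [SetLike τ M] [AddSubgroupClass τ M]
      {ℳ : ℤ → τ} [Decomposition ℳ] [SetLike.GradedSMul 𝒜 ℳ], Module.Finite R M →
      ∀ E : GrLC.StarInjRes 𝒜 ℳ, ∃ r : ℤ, ∀ n, r < n → ∀ y ∈ E.Hgr b i n, y = 0 := by
  induction i with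
  | zero =>
    intro M _ _ τ _ _ ℳ _ _ hM E
    letI := subDecomp ℳ (isHomogeneous_gam (M := M) (ℳ := ℳ) P.isHomogeneous)
    haveI : Module.Finite R (GrLC.gam P.toIdeal M) := Module.Finite.iff_fg.2 (IsNoetherian.noetherian _)
    obtain ⟨k, hk⟩ := exists_pow_kill P.toIdeal (GrLC.gam P.toIdeal M) fun x => by
      obtain ⟨j, hj⟩ := x.2
      exact ⟨j, fun r hr => Subtype.ext (hj r hr)⟩
    obtain ⟨r, hr⟩ := exists_bdd_of_kill (ℳ := subGr ℳ (GrLC.gam P.toIdeal M)) hpos P hP k hk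
    refine ⟨r, fun n hn y hy => ?_⟩
    obtain ⟨z, hz, rfl⟩ := hy
    obtain ⟨m, hm⟩ := exists_ε_eq E (LinearMap.mem_ker.1 z.2.2)
    have hmz : E.ε (proj ℳ n m) = z := by rw [← proj_map E.ε_grHom, hm, proj_of_mem hz]
    have hmem : proj ℳ n m ∈ GrLC.gam P.toIdeal M := by
      obtain ⟨j, hj⟩ := z.2.1
      exact ⟨j, fun s hs => E.ε_injective (by
        rw [map_smul, hmz, map_zero]; exact hj s (Ideal.pow_right_mono hb j hs))⟩
    have h0 : proj ℳ n m = 0 := congrArg Subtype.val (hr n hn ⟨_, hmem⟩ (proj_mem ℳ n m))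
    rw [h0, map_zero] at hmz
    rw [show z = 0 from Subtype.ext hmz.symm, map_zero]
  | succ i ih =>
    intro M _ _ τ _ _ ℳ _ _ hM E
    letI := subDecomp ℳ (isHomogeneous_gam (M := M) (ℳ := ℳ) P.isHomogeneous)
    letI := qDecomp ℳ (isHomogeneous_gam (M := M) (ℳ := ℳ) P.isHomogeneous)
    haveI : Module.Finite R (GrLC.gam P.toIdeal M) := Module.Finite.iff_fg.2 (IsNoetherian.noetherian _)
    obtain ⟨k, hk⟩ := exists_pow_kill P.toIdeal (GrLC.gam P.toIdeal M) fun x => by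
      obtain ⟨j, hj⟩ := x.2
      exact ⟨j, fun r hr => Subtype.ext (hj r hr)⟩
    obtain ⟨r₁, hr₁⟩ := exists_bdd_of_kill (ℳ := subGr ℳ (GrLC.gam P.toIdeal M)) hpos P hP k hk
    obtain ⟨E₁, E₂, f, g, hf, hg, hfg⟩ := exists_torsion_free_step P b E (i + 1)
    obtain ⟨d, hd, x, hx, hreg⟩ := exists_regular_hom (ℳ := qGr ℳ (GrLC.gam P.toIdeal M)) hpos P hP
      (gam_quotient_eq_bot P.toIdeal)
    letI := qDecomp (qGr ℳ (GrLC.gam P.toIdeal M))
      (isHomogeneous_range_deg (smul_id_grHomDeg (ℳ := qGr ℳ (GrLC.gam P.toIdeal M)) hx))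
    obtain ⟨E₃, δ, hδ, hex⟩ := exists_regular_step b E₂ hx hreg
    obtain ⟨r₂, hr₂⟩ := ih (ℳ := qGr (qGr ℳ (GrLC.gam P.toIdeal M))
      (LinearMap.range (x • LinearMap.id : (M ⧸ GrLC.gam P.toIdeal M) →ₗ[R] (M ⧸ GrLC.gam P.toIdeal M))))
      inferInstance E₃
    letI := Hdecomp E₁ b (i + 1)
    letI := Hdecomp E b (i + 1)
    letI := Hdecomp E₂ b (i + 1)
    letI := Hdecomp E₃ b i
    refine ⟨max r₁ r₂, fun n hn => eq_zero_of_exact (ℳ := E₁.Hgr b (i + 1)) (𝒩 := E.Hgr b (i + 1))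
      (𝒬 := E₂.Hgr b (i + 1)) hf hg hfg n n n (add_zero n) (add_zero n)
      (Hgr_eq_zero_of_bdd hpos r₁ hr₁ E₁ b (i + 1) n (lt_of_le_of_lt (le_max_left _ _) hn)) ?_⟩
    intro y hy
    obtain ⟨j, hj⟩ := exists_pow_smul_H b (i + 1) y
    have hxj : x ^ j • y = 0 := hj _ (Ideal.pow_mem_pow (hb (mem_irrelevant_of_pos P hP hd hx)) j)
    have hn' : r₂ < n := lt_of_le_of_lt (le_max_right _ _) hn
    clear hj hn
    induction j generalizing n y with
    | zero => rwa [pow_zero, one_smul] at hxj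
    | succ j ihj =>
      have hxy : x • y = 0 := ihj (d + n) (x • y) (smul_mem hx hy)
        (by rwa [← mul_smul, ← pow_succ]) (by omega)
      obtain ⟨w, hw, hwy⟩ := exists_preimage (hδ i) (g := n + d) (y := y) (by rwa [add_neg_cancel_right])
        ((hex i y).1 hxy)
      rw [← hwy, hr₂ (n + d) (by omega) w hw, map_zero]

include hpos hP in
/-- Finiteness of the pieces for the irrelevant ideal. -/
theorem isNoetherian_Hcomp_irrelevant (i : ℕ) :
    ∀ {M : Type u} [AddCommGroup M] [Module R M] {τ : Type u} [SetLike τ M] [AddSubgroupClass τ M]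
      {ℳ : ℤ → τ} [Decomposition ℳ] [SetLike.GradedSMul 𝒜 ℳ], Module.Finite R M →
      ∀ E : GrLC.StarInjRes 𝒜 ℳ, ∀ n, IsNoetherian (GrLC.deg0 𝒜) (E.Hcomp P i n) := by
  induction i with
  | zero =>
    intro M _ _ τ _ _ ℳ _ _ hM E n
    obtain ⟨e⟩ := nonempty_H_equiv E P 0
    haveI : IsNoetherian R (E.H P 0) :=
      isNoetherian_of_linearEquiv ((e.trans (LocCoh.H0Equiv P.toIdeal M)).symm)
    letI := Hdecomp E P 0
    exact isNoetherian_piece 𝒜 (E.Hgr P 0) n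
  | succ i ih =>
    intro M _ _ τ _ _ ℳ _ _ hM E
    obtain ⟨r, hr⟩ := exists_vanishing hpos P hP P le_rfl (i + 1) hM E
    letI := subDecomp ℳ (isHomogeneous_gam (M := M) (ℳ := ℳ) P.isHomogeneous)
    letI := qDecomp ℳ (isHomogeneous_gam (M := M) (ℳ := ℳ) P.isHomogeneous)
    obtain ⟨E₁, E₂, f, g, hf, hg, hfg⟩ := exists_torsion_free_step P P E (i + 1)
    haveI h1 : Subsingleton (E₁.H P (i + 1)) := by
      obtain ⟨e⟩ := nonempty_H_equiv E₁ P (i + 1)
      haveI := LocCoh.subsingleton_H_of_powerTorsion (I := P.toIdeal) (i + 1) (GrLC.gam P.toIdeal M)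
        (fun x => by
          obtain ⟨j, hj⟩ := x.2
          exact ⟨j, fun r hr => Subtype.ext (hj r hr)⟩) (Nat.succ_pos i)
      exact e.toEquiv.subsingleton
    obtain ⟨d, hd, x, hx, hreg⟩ := exists_regular_hom (ℳ := qGr ℳ (GrLC.gam P.toIdeal M)) hpos P hP
      (gam_quotient_eq_bot P.toIdeal)
    letI := qDecomp (qGr ℳ (GrLC.gam P.toIdeal M))
      (isHomogeneous_range_deg (smul_id_grHomDeg (ℳ := qGr ℳ (GrLC.gam P.toIdeal M)) hx))
    obtain ⟨E₃, δ, hδ, hex⟩ := exists_regular_step P E₂ hx hreg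
    obtain ⟨r₂, hr₂⟩ := exists_vanishing hpos P hP P le_rfl (i + 1) (M := M ⧸ GrLC.gam P.toIdeal M)
      inferInstance E₂
    letI := Hdecomp E₁ P (i + 1)
    letI := Hdecomp E P (i + 1)
    letI := Hdecomp E₂ P (i + 1)
    letI := Hdecomp E₃ P i
    have key : ∀ (k : ℕ) (n : ℤ), r₂ + 1 ≤ n + k * d →
        IsNoetherian (GrLC.deg0 𝒜) (GrLC.comp 𝒜 (E₂.Hgr P (i + 1)) n) := by
      intro k
      induction k with
      | zero =>
        intro n hn
        haveI : Subsingleton (GrLC.comp 𝒜 (E₂.Hgr P (i + 1)) n) := subsingleton_of_forall_eq 0 fun y =>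
          Subtype.ext (hr₂ n (by simp at hn; omega) y.1 y.2)
        exact isNoetherian_of_finite _ _
      | succ k ihk =>
        intro n hn
        haveI : IsNoetherian (GrLC.deg0 𝒜) (GrLC.comp 𝒜 (E₃.Hgr P i) (n + d)) :=
          ih (ℳ := qGr (qGr ℳ (GrLC.gam P.toIdeal M))
            (LinearMap.range (x • LinearMap.id : (M ⧸ GrLC.gam P.toIdeal M) →ₗ[R] (M ⧸ GrLC.gam P.toIdeal M))))
            inferInstance E₃ (n + d)
        haveI := ihk (n + d) (by push_cast at hn; linarith)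
        exact isNoetherian_piece_mid (ℳ := E₃.Hgr P i) (𝒩 := E₂.Hgr P (i + 1)) (𝒬 := E₂.Hgr P (i + 1))
          (hδ i) (smul_id_grHomDeg hx) (hex i) (n + d) n (n + d) (add_neg_cancel_right n d) rfl
    intro n
    haveI : IsNoetherian (GrLC.deg0 𝒜) (GrLC.comp 𝒜 (E₂.Hgr P (i + 1)) n) :=
      key (r₂ + 1 - n).toNat n (by
        have := Int.self_le_toNat (r₂ + 1 - n)
        nlinarith)
    haveI : IsNoetherian (GrLC.deg0 𝒜) (GrLC.comp 𝒜 (E₁.Hgr P (i + 1)) n) := by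
      haveI : Subsingleton (GrLC.comp 𝒜 (E₁.Hgr P (i + 1)) n) :=
        subsingleton_of_forall_eq 0 fun y => Subtype.ext (Subsingleton.elim _ _)
      exact isNoetherian_of_finite _ _
    exact isNoetherian_piece_mid (ℳ := E₁.Hgr P (i + 1)) (𝒩 := E.Hgr P (i + 1)) (𝒬 := E₂.Hgr P (i + 1))
      hf hg hfg n n n (add_zero n) (add_zero n)

include hpos hP in
/-- Vanishing in large degrees, uniformly in the index. -/
theorem exists_vanishing_uniform (b : HomogeneousIdeal 𝒜) (hb : P.toIdeal ≤ b.toIdeal)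
    [Module.Finite R M] (E : GrLC.StarInjRes 𝒜 ℳ) :
    ∃ r : ℤ, ∀ i n, r < n → ∀ y ∈ E.Hgr b i n, y = 0 := by
  classical
  obtain ⟨c, hc⟩ := LocCoh.exists_cdLE b.toIdeal
  choose r hr using fun i => exists_vanishing hpos P hP b hb i (inferInstance : Module.Finite R M) E
  refine ⟨(Finset.range (c + 1)).sum fun i => |r i|, fun i n hn y hy => ?_⟩
  by_cases hi : i ≤ c
  · refine hr i n (lt_of_le_of_lt ((le_abs_self _).trans ?_) hn) y hy
    exact Finset.single_le_sum (f := fun i => |r i|) (fun j _ => abs_nonneg _) (Finset.mem_range.2 (by omega))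
  · obtain ⟨e⟩ := nonempty_H_equiv E b i
    haveI := hc M i (by omega)
    haveI := e.toEquiv.subsingleton
    exact Subsingleton.elim _ _

end Groth.Agent.GrLib
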