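import Groth.Agent.GrLib.Reg
import Groth.Prelude.Def_GrSyz

/-!
Graded free modules and graded free resolutions: cohomology, generators, existence of minimal resolutions.
-/

set_option autoImplicit false
set_option linter.unusedSectionVars false
set_option linter.unusedVariables false
set_option linter.style.haveILetI false

universe u

open DirectSum

namespace Groth.Agent.GrLib

variable {R : Type u} [CommRing R] {σ : Type u} [SetLike σ R] [AddSubgroupClass σ R]
  {𝒜 : ℤ → σ} [GradedRing 𝒜]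
variable {M : Type u} [AddCommGroup M] [Module R M] {τ : Type u} [SetLike τ M] [AddSubgroupClass τ M]
  {ℳ : ℤ → τ} [Decomposition ℳ] [SetLike.GradedSMul 𝒜 ℳ]

/-- The cohomology of the zero module vanishes. -/
theorem H_eq_zero_of_subsingleton [Subsingleton M] (E : GrLC.StarInjRes 𝒜 ℳ) (a : HomogeneousIdeal 𝒜)
    (i : ℕ) (y : E.H a i) : y = 0 := by
  have h0 : GrLC.IsGrHomDeg ℳ ℳ ((0 : R) • LinearMap.id : M →ₗ[R] M) 0 :=
    smul_id_grHomDeg (zero_mem (𝒜 0))
  have hid : GrLC.IsGrHomDeg ℳ ℳ (LinearMap.id : M →ₗ[R] M) 0 := grHomDeg_zero_iff.2 fun _ _ h => h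
  have := LinearMap.congr_fun ((mapH_congr a (show ((0 : R) • LinearMap.id : M →ₗ[R] M) = LinearMap.id from
    LinearMap.ext fun m => Subsingleton.elim _ _) rfl h0 hid i).symm.trans
    (mapH_smul_id (E := E) a (zero_mem (𝒜 0)) h0 i)) y
  rw [mapH_id, zero_smul] at this
  exact this

theorem single_grHomDeg {m : ℕ} (g : Fin m → ℤ) (j : Fin m) :
    GrLC.IsGrHomDeg 𝒜 (freeGr 𝒜 g) (LinearMap.single R (fun _ : Fin m => R) j) (g j) := fun k r hr => by
  refine mem_freeGr.2 fun l => ?_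
  rw [LinearMap.coe_single]
  by_cases h : l = j
  · subst h
    rw [Pi.single_eq_same, add_sub_cancel_right]
    exact hr
  · rw [Pi.single_eq_of_ne h]
    exact zero_mem _

variable [IsNoetherianRing R]

/-- Cohomology of a free module in terms of that of the ring. -/
theorem Hgr_free_eq_zero (a : HomogeneousIdeal 𝒜) (N : ℕ)
    (hR : ∀ (E : GrLC.StarInjRes 𝒜 𝒜) (i : ℕ) (n : ℤ), (i = N → -(N : ℤ) < n) →
      ∀ y ∈ E.Hgr a i n, y = 0) :
    ∀ {m : ℕ} (g : Fin m → ℤ) (t : ℤ), (∀ j, g j ≤ t) →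
      letI := freeDecomp 𝒜 g
      ∀ (E : GrLC.StarInjRes 𝒜 (freeGr 𝒜 g)) (i : ℕ) (n : ℤ), (i = N → t - N < n) →
        ∀ y ∈ E.Hgr a i n, y = 0 := by
  intro m
  induction m with
  | zero =>
    intro g t ht
    letI := freeDecomp 𝒜 g
    exact fun E i n _ y _ => H_eq_zero_of_subsingleton E a i y
  | succ m ih =>
    intro g t ht
    letI := freeDecomp 𝒜 g
    let g' : Fin m → ℤ := fun j => g j.succ
    letI := freeDecomp 𝒜 g'
    intro E i n hn
    let p : (Fin (m + 1) → R) →ₗ[R] (Fin m → R) := LinearMap.funLeft R R Fin.succ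
    have hp : GrLC.IsGrHom (freeGr 𝒜 g) (freeGr 𝒜 g') p := fun k v hv =>
      mem_freeGr.2 fun j => mem_freeGr.1 hv j.succ
    have hps : Function.Surjective p := fun v =>
      ⟨Fin.cons (α := fun _ : Fin (m + 1) => R) 0 v, funext fun j => by simp [p]⟩
    have hsi : Function.Injective (LinearMap.single R (fun _ : Fin (m + 1) => R) 0) := fun u v h => by
      simpa using congrFun h 0
    have hex : Function.Exact (LinearMap.single R (fun _ : Fin (m + 1) => R) 0) p := by
      intro v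
      constructor
      · intro hv
        refine ⟨v 0, funext fun j => ?_⟩
        cases j using Fin.cases with
        | zero => simp
        | succ j =>
          rw [LinearMap.coe_single, Pi.single_eq_of_ne (Fin.succ_ne_zero j)]
          exact (congrFun hv j).symm
      · rintro ⟨u, rfl⟩
        exact funext fun j => by simp [p, Fin.succ_ne_zero]
    obtain ⟨δ, hδ, h0, hexH⟩ := exists_les_deg (starRes 𝒜 𝒜) (starRes 𝒜 (freeGr 𝒜 g')) E a
      (single_grHomDeg g 0) hsi hp hps hex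
    letI := Hdecomp (starRes 𝒜 𝒜) a i
    letI := Hdecomp E a i
    letI := Hdecomp (starRes 𝒜 (freeGr 𝒜 g')) a i
    exact eq_zero_of_exact (mapH_grHomDeg a (single_grHomDeg g 0) i)
      (mapH_grHomDeg a (grHomDeg_zero_iff.2 hp) i) (hexH i).1 (n - g 0) n n (sub_add_cancel n (g 0))
      (add_zero n) (hR _ i _ fun h => by have := hn h; have := ht 0; omega)
      (ih g' t (fun j => ht j.succ) _ i n hn)

section resolution

variable (F : GrSyz.FreeRes 𝒜 ℳ)

theorem augLin_grHom : GrLC.IsGrHom (freeGr 𝒜 (F.deg 0)) ℳ F.augLin := fun h v hv => by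
  rw [GrSyz.FreeRes.augLin, Fintype.linearCombination_apply]
  refine sum_mem fun j _ => ?_
  have := smul_mem (ℳ := ℳ) (mem_freeGr.1 hv j) (F.aug_mem j)
  rwa [sub_add_cancel] at this

theorem dLin_grHom (i : ℕ) :
    GrLC.IsGrHom (freeGr 𝒜 (F.deg (i + 1))) (freeGr 𝒜 (F.deg i)) (F.dLin i) := fun h v hv => by
  refine mem_freeGr.2 fun j => ?_
  show (∑ b, F.d i j b * v b) ∈ 𝒜 (h - F.deg i j)
  refine sum_mem fun b _ => ?_
  have := SetLike.mul_mem_graded (F.d_mem i j b) (mem_freeGr.1 hv b)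
  rwa [show F.deg (i + 1) b - F.deg i j + (h - F.deg (i + 1) b) = h - F.deg i j by ring] at this

/-- The syzygy modules. -/
abbrev Syz (i : ℕ) : Submodule R (Fin (F.rk i) → R) := LinearMap.range (F.dLin i)

theorem isHomogeneous_Syz (i : ℕ) :
    letI := freeDecomp 𝒜 (F.deg i); (Syz F i).IsHomogeneous (freeGr 𝒜 (F.deg i)) := by
  letI := freeDecomp 𝒜 (F.deg i)
  letI := freeDecomp 𝒜 (F.deg (i + 1))
  exact isHomogeneous_range (dLin_grHom F i)

/-- Decomposition of a syzygy module. -/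
noncomputable abbrev syzDecomp (i : ℕ) : Decomposition (subGr (freeGr 𝒜 (F.deg i)) (Syz F i)) :=
  letI := freeDecomp 𝒜 (F.deg i)
  subDecomp (freeGr 𝒜 (F.deg i)) (isHomogeneous_Syz F i)

theorem proj_grHom (i : ℕ) :
    GrLC.IsGrHom (freeGr 𝒜 (F.deg (i + 1))) (subGr (freeGr 𝒜 (F.deg i)) (Syz F i))
      (F.dLin i).rangeRestrict :=
  fun h v hv => dLin_grHom F i h v hv

theorem exact_proj (i : ℕ) : Function.Exact (Syz F (i + 1)).subtype (F.dLin i).rangeRestrict := by
  refine LinearMap.exact_iff.2 ?_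
  rw [LinearMap.ker_rangeRestrict, Submodule.range_subtype]
  exact F.exact_succ i

theorem exact_aug : Function.Exact (Syz F 0).subtype F.augLin :=
  LinearMap.exact_iff.2 (F.exact_zero.trans (Submodule.range_subtype _).symm)

variable (a : HomogeneousIdeal 𝒜)

/-- Regularity of the syzygy modules from the degrees of the generators. -/
theorem Hgr_Z_eq_zero (N : ℕ)
    (hR : ∀ (E : GrLC.StarInjRes 𝒜 𝒜) (i : ℕ) (n : ℤ), (i = N → -(N : ℤ) < n) →
      ∀ y ∈ E.Hgr a i n, y = 0)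
    (hcd : LocCoh.CdLE R a.toIdeal N) (d : ℤ) (hF : F.IsGenLE d) (q : ℕ) : ∀ (i j : ℕ), N < i + q →
    letI := syzDecomp F j
    ∀ (E : GrLC.StarInjRes 𝒜 (subGr (freeGr 𝒜 (F.deg j)) (Syz F j))) (n : ℤ), d + (j + 1) < n + i →
      ∀ y ∈ E.Hgr a i n, y = 0 := by
  induction q with
  | zero =>
    intro i j hi
    letI := syzDecomp F j
    intro E n hn y _
    obtain ⟨e⟩ := nonempty_H_equiv E a i
    haveI := hcd (Syz F j) i (by omega)
    haveI := e.toEquiv.subsingleton
    exact Subsingleton.elim _ _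
  | succ q ih =>
    intro i j hi
    letI := syzDecomp F j
    letI := syzDecomp F (j + 1)
    letI := freeDecomp 𝒜 (F.deg (j + 1))
    intro E n hn
    obtain ⟨δ, hδ, -, hexH⟩ := exists_les (starRes 𝒜 (subGr (freeGr 𝒜 (F.deg (j + 1))) (Syz F (j + 1)))) E
      (starRes 𝒜 (freeGr 𝒜 (F.deg (j + 1)))) a (subtype_grHom (Syz F (j + 1))) Subtype.coe_injective
      (proj_grHom F j) (LinearMap.surjective_rangeRestrict _) (exact_proj F j)
    letI := Hdecomp (starRes 𝒜 (subGr (freeGr 𝒜 (F.deg (j + 1))) (Syz F (j + 1)))) a (i + 1)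
    letI := Hdecomp E a i
    letI := Hdecomp (starRes 𝒜 (freeGr 𝒜 (F.deg (j + 1)))) a i
    exact eq_zero_of_exact (mapH_grHomDeg a (grHomDeg_zero_iff.2 (proj_grHom F j)) i)
      (grHomDeg_zero_iff.2 (hδ i)) (hexH i).2.1 n n n (add_zero n) (add_zero n)
      (Hgr_free_eq_zero a N hR _ (d + (j + 1 : ℕ)) (fun b => hF (j + 1) b) _ i n
        (fun h => by subst h; push_cast; omega))
      (ih (i + 1) (j + 1) (by omega) _ n (by push_cast; omega))

/-- Regularity from the degrees of the generators of a free resolution. -/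
theorem Hgr_eq_zero_of_isGenLE (N : ℕ)
    (hR : ∀ (E : GrLC.StarInjRes 𝒜 𝒜) (i : ℕ) (n : ℤ), (i = N → -(N : ℤ) < n) →
      ∀ y ∈ E.Hgr a i n, y = 0)
    (hcd : LocCoh.CdLE R a.toIdeal N) (d : ℤ) (hF : F.IsGenLE d) (E : GrLC.StarInjRes 𝒜 ℳ) (i : ℕ)
    (n : ℤ) (hn : d < n + i) : ∀ y ∈ E.Hgr a i n, y = 0 := by
  letI := syzDecomp F 0
  letI := freeDecomp 𝒜 (F.deg 0)
  obtain ⟨δ, hδ, -, hexH⟩ := exists_les (starRes 𝒜 (subGr (freeGr 𝒜 (F.deg 0)) (Syz F 0))) E
    (starRes 𝒜 (freeGr 𝒜 (F.deg 0))) a (subtype_grHom (Syz F 0)) Subtype.coe_injective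
    (augLin_grHom F) F.aug_surjective (exact_aug F)
  letI := Hdecomp (starRes 𝒜 (subGr (freeGr 𝒜 (F.deg 0)) (Syz F 0))) a (i + 1)
  letI := Hdecomp E a i
  letI := Hdecomp (starRes 𝒜 (freeGr 𝒜 (F.deg 0))) a i
  exact eq_zero_of_exact (mapH_grHomDeg a (grHomDeg_zero_iff.2 (augLin_grHom F)) i)
    (grHomDeg_zero_iff.2 (hδ i)) (hexH i).2.1 n n n (add_zero n) (add_zero n)
    (Hgr_free_eq_zero a N hR _ d (fun b => by simpa using hF 0 b) _ i n (fun h => by subst h; omega))
    (Hgr_Z_eq_zero F a N hR hcd d hF (N + 1) (i + 1) 0 (by omega) _ n (by push_cast; omega))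

end resolution

section minimal

variable (hpos : ∀ n : ℤ, n < 0 → ∀ x ∈ 𝒜 n, x = 0)
include hpos

theorem freeGr_pred_eq_zero {m : ℕ} {g : Fin m → ℤ} {b : Fin m} {v : Fin m → R}
    (hv : v ∈ Submodule.span R {w : Fin m → R | w ∈ freeGr 𝒜 g (g b - 1)}) : v b = 0 := by
  induction hv using Submodule.span_induction with
  | mem w hw => exact hpos _ (by omega) _ (mem_freeGr.1 hw b)
  | zero => rfl
  | add x y _ _ hx hy => rw [Pi.add_apply, hx, hy, add_zero]
  | smul r x _ hx => rw [Pi.smul_apply, hx, smul_zero]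

/-- A minimal cover has no generator in a degree covered by the previous one. -/
theorem gen_deg_ne {m : ℕ} {g : Fin m → ℤ} (p : (Fin m → R) →ₗ[R] M)
    (hp : GrLC.IsGrHom (freeGr 𝒜 g) ℳ p) (hps : Function.Surjective p) {I : Ideal R} (hI : I ≠ ⊤)
    (hker : ∀ v, p v = 0 → ∀ b, v b ∈ I) (b : Fin m)
    (hspan : ∀ x ∈ ℳ (g b), x ∈ Submodule.span R {y : M | y ∈ ℳ (g b - 1)}) : False := by
  letI := freeDecomp 𝒜 g
  have he : (Pi.single b 1 : Fin m → R) ∈ freeGr 𝒜 g (g b) := mem_freeGr.2 fun j => by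
    by_cases h : j = b
    · subst h
      rw [Pi.single_eq_same, sub_self]
      exact SetLike.one_mem_graded 𝒜
    · rw [Pi.single_eq_of_ne h]
      exact zero_mem _
  have h1 : p (Pi.single b 1) ∈ (Submodule.span R {w : Fin m → R | w ∈ freeGr 𝒜 g (g b - 1)}).map p := by
    refine (Submodule.span_le.2 ?_) (hspan _ (hp _ _ he))
    intro y hy
    obtain ⟨w, hw, rfl⟩ := exists_preimage (grHomDeg_zero_iff.2 hp) (g := g b - 1) (y := y)
      (by rwa [add_zero]) (LinearMap.range_eq_top.2 hps ▸ Submodule.mem_top)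
    exact Submodule.mem_map_of_mem (Submodule.subset_span hw)
  obtain ⟨v, hv, hpv⟩ := h1
  refine hI ((Ideal.eq_top_iff_one I).2 ?_)
  have h2 := hker (Pi.single b 1 - v) (by rw [map_sub, hpv, sub_self]) b
  rwa [Pi.sub_apply, Pi.single_eq_same, freeGr_pred_eq_zero hpos hv, sub_zero] at h2

variable (a : HomogeneousIdeal 𝒜)

/-- The degrees of minimal generators of a regular module. -/
theorem gen_deg_le (ha : a.toIdeal = Ideal.span ((𝒜 1 : σ) : Set R)) (E : GrLC.StarInjRes 𝒜 ℳ) (d : ℤ)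
    (hvan : ∀ (i : ℕ) (n : ℤ), d < n + i → ∀ y ∈ E.Hgr a i n, y = 0)
    {m : ℕ} {g : Fin m → ℤ} (p : (Fin m → R) →ₗ[R] M)
    (hp : GrLC.IsGrHom (freeGr 𝒜 g) ℳ p) (hps : Function.Surjective p) {I : Ideal R} (hI : I ≠ ⊤)
    (hker : ∀ v, p v = 0 → ∀ b, v b ∈ I) (b : Fin m) : g b ≤ d := by
  by_contra h
  exact gen_deg_ne hpos p hp hps hI hker b (mem_span_pred E a ha (g b) fun i =>
    AddSubgroup.eq_bot_iff_forall _ |>.2 (hvan i _ (by omega)))

/-- The kernel of a minimal cover of a regular module. -/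
theorem ker_regular (ha : a.toIdeal = Ideal.span ((𝒜 1 : σ) : Set R)) (N : ℕ)
    (hR : ∀ (E : GrLC.StarInjRes 𝒜 𝒜) (i : ℕ) (n : ℤ), (i = N → -(N : ℤ) < n) →
      ∀ y ∈ E.Hgr a i n, y = 0)
    (E : GrLC.StarInjRes 𝒜 ℳ) (d : ℤ) (hvan : ∀ (i : ℕ) (n : ℤ), d < n + i → ∀ y ∈ E.Hgr a i n, y = 0)
    {m : ℕ} {g : Fin m → ℤ} (p : (Fin m → R) →ₗ[R] M)
    (hp : GrLC.IsGrHom (freeGr 𝒜 g) ℳ p) (hps : Function.Surjective p) {I : Ideal R} (hI : I ≠ ⊤)
    (hker : ∀ v, p v = 0 → ∀ b, v b ∈ I) (K : Submodule R (Fin m → R))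
    (hex : Function.Exact K.subtype p)
    [Decomposition (subGr (freeGr 𝒜 g) K)]
    (G : GrLC.StarInjRes 𝒜 (subGr (freeGr 𝒜 g) K)) (i : ℕ) (n : ℤ) (hn : d + 1 < n + i) :
    ∀ y ∈ G.Hgr a i n, y = 0 := by
  letI := freeDecomp 𝒜 g
  have hg := gen_deg_le hpos a ha E d hvan p hp hps hI hker
  have hfree : ∀ (F₀ : GrLC.StarInjRes 𝒜 (freeGr 𝒜 g)), ∀ y ∈ F₀.Hgr a i n, y = 0 := fun F₀ =>
    Hgr_free_eq_zero a N hR g d hg F₀ i n (fun h => by subst h; omega)
  obtain ⟨δ, hδ, h0, hexH⟩ := exists_les G E (starRes 𝒜 (freeGr 𝒜 g)) a (subtype_grHom K)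
    Subtype.coe_injective hp hps hex
  letI := Hdecomp (starRes 𝒜 (freeGr 𝒜 g)) a i
  letI := Hdecomp G a i
  cases i with
  | zero =>
    intro y hy
    refine h0 ((hfree _ _ ?_).trans (map_zero _).symm)
    have := mapH_grHomDeg a (E := G) (F := starRes 𝒜 (freeGr 𝒜 g))
      (grHomDeg_zero_iff.2 (subtype_grHom (ℳ := freeGr 𝒜 g) K)) 0 _ y hy
    rwa [add_zero] at this
  | succ i =>
    letI := Hdecomp E a i
    exact eq_zero_of_exact (grHomDeg_zero_iff.2 (hδ i))
      (mapH_grHomDeg a (grHomDeg_zero_iff.2 (subtype_grHom (ℳ := freeGr 𝒜 g) K)) (i + 1)) (hexH i).2.2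
      n n n (add_zero n) (add_zero n) (hvan i n (by push_cast at hn; omega)) (hfree _)

variable (F : GrSyz.FreeRes 𝒜 ℳ)

/-- Minimal resolutions of regular modules are linearly bounded. -/
theorem isGenLE_of_regular (ha : a.toIdeal = Ideal.span ((𝒜 1 : σ) : Set R)) (htop : a.toIdeal ≠ ⊤) (N : ℕ)
    (hR : ∀ (E : GrLC.StarInjRes 𝒜 𝒜) (i : ℕ) (n : ℤ), (i = N → -(N : ℤ) < n) →
      ∀ y ∈ E.Hgr a i n, y = 0)
    (hF : F.IsMinimal a.toIdeal) (E : GrLC.StarInjRes 𝒜 ℳ) (d : ℤ)
    (hvan : ∀ (i : ℕ) (n : ℤ), d < n + i → ∀ y ∈ E.Hgr a i n, y = 0) : F.IsGenLE d := by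
  have hco : ∀ j (v : Fin (F.rk j) → R), v ∈ Syz F j → ∀ b, v b ∈ a.toIdeal := by
    rintro j _ ⟨w, rfl⟩ b
    show (∑ c, F.d j b c * w c) ∈ a.toIdeal
    exact sum_mem fun c _ => a.toIdeal.mul_mem_right _ (hF j b c)
  have hker0 : ∀ v, F.augLin v = 0 → ∀ b, v b ∈ a.toIdeal := fun v hv =>
    hco 0 v (SetLike.ext_iff.1 F.exact_zero v |>.1 (LinearMap.mem_ker.2 hv))
  have hkerS : ∀ j v, (F.dLin j).rangeRestrict v = 0 → ∀ b, v b ∈ a.toIdeal := fun j v hv =>
    hco (j + 1) v (SetLike.ext_iff.1 (F.exact_succ j) v |>.1 (LinearMap.mem_ker.2 (congrArg Subtype.val hv)))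
  have hZ : ∀ j : ℕ, letI := syzDecomp F j
      ∀ (G : GrLC.StarInjRes 𝒜 (subGr (freeGr 𝒜 (F.deg j)) (Syz F j))) (i : ℕ) (n : ℤ),
        d + (j + 1) < n + i → ∀ y ∈ G.Hgr a i n, y = 0 := by
    intro j
    induction j with
    | zero =>
      letI := syzDecomp F 0
      intro G i n hn
      exact ker_regular hpos a ha N hR E d hvan F.augLin (augLin_grHom F) F.aug_surjective htop hker0 _
        (exact_aug F) G i n (by simpa using hn)
    | succ j ih =>
      letI := syzDecomp F j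
      letI := syzDecomp F (j + 1)
      intro G i n hn
      exact ker_regular hpos a ha N hR (starRes 𝒜 _) (d + (j + 1)) (ih _) (F.dLin j).rangeRestrict
        (proj_grHom F j) (LinearMap.surjective_rangeRestrict _) htop (hkerS j) _ (exact_proj F j) G i n
        (by push_cast at hn; omega)
  intro j b
  cases j with
  | zero =>
    simpa using gen_deg_le hpos a ha E d hvan F.augLin (augLin_grHom F) F.aug_surjective htop hker0 b
  | succ j =>
    letI := syzDecomp F j
    have := gen_deg_le hpos a ha (starRes 𝒜 _) (d + (j + 1)) (hZ j _) (F.dLin j).rangeRestrict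
      (proj_grHom F j) (LinearMap.surjective_rangeRestrict _) htop (hkerS j) b
    push_cast
    omega

end minimal

section existence

variable (I : Ideal R) (hgood : ∀ x : R, ∀ n : ℤ, x ∈ 𝒜 n → x ∉ I → IsUnit x)

theorem sum_ite_gens {m : ℕ} (x : Fin m → M) (v : Fin m → R) (b : Fin m) :
    (∑ j, v j • x j) = v b • x b + ∑ j ∈ Finset.univ.erase b, v j • x j :=
  (Finset.add_sum_erase _ _ (Finset.mem_univ b)).symm

include hgood in
/-- Minimal homogeneous generators. -/
theorem exists_min_gens [Module.Finite R M] :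
    ∃ (m : ℕ) (g : Fin m → ℤ) (x : Fin m → M), (∀ j, x j ∈ ℳ (g j)) ∧
      Submodule.span R (Set.range x) = ⊤ ∧
      ∀ v, Fintype.linearCombination R x v = 0 → ∀ b, v b ∈ I := by
  classical
  have hex : ∃ (m : ℕ) (x : Fin m → M) (g : Fin m → ℤ), (∀ j, x j ∈ ℳ (g j)) ∧
      Submodule.span R (Set.range x) = ⊤ := exists_hom_generators (ℳ := ℳ) 𝒜
  obtain ⟨x, g, hx, hspan⟩ := Nat.find_spec hex
  refine ⟨Nat.find hex, g, x, hx, hspan, fun v hv b => ?_⟩
  by_contra hb
  letI := freeDecomp 𝒜 g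
  have hpg : GrLC.IsGrHom (freeGr 𝒜 g) ℳ (Fintype.linearCombination R x) := fun h w hw => by
    rw [Fintype.linearCombination_apply]
    refine sum_mem fun j _ => ?_
    have := smul_mem (ℳ := ℳ) (mem_freeGr.1 hw j) (hx j)
    rwa [sub_add_cancel] at this
  obtain ⟨h, hh⟩ : ∃ h, proj (freeGr 𝒜 g) h v b ∉ I := by
    by_contra! hc
    refine hb (mem_of_proj_mem 𝒜 I fun k => ?_)
    have h2 : proj 𝒜 k (v b) = proj (freeGr 𝒜 g) (k + g b) v b := by
      have h3 : ∀ l, proj (freeGr 𝒜 g) l v b = proj 𝒜 (l - g b) (v b) := by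
        intro l
        refine induction (freeGr 𝒜 g)
          (motive := fun v => proj (freeGr 𝒜 g) l v b = proj 𝒜 (l - g b) (v b)) (by simp) ?_ ?_ v
        · intro l' w hw
          by_cases hl : l' = l
          · subst hl
            rw [proj_of_mem hw, proj_of_mem (mem_freeGr.1 hw b)]
          · rw [proj_of_mem_ne hw hl, proj_of_mem_ne (mem_freeGr.1 hw b) (fun e => hl (sub_left_injective e))]
            rfl
        · intro w w' hw hw'
          rw [map_add, Pi.add_apply, Pi.add_apply, map_add, hw, hw']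
      rw [h3, add_sub_cancel_right]
    rw [h2]
    exact hc _
  set w := proj (freeGr 𝒜 g) h v with hw
  have hwm : w ∈ freeGr 𝒜 g h := proj_mem _ _ _
  have hpw : Fintype.linearCombination R x w = 0 := by
    rw [hw, ← proj_map hpg, hv, map_zero]
  obtain ⟨c, hc⟩ := (hgood _ _ (mem_freeGr.1 hwm b) hh).exists_left_inv
  obtain ⟨m', hm'⟩ : ∃ m', Nat.find hex = m' + 1 := Nat.exists_eq_succ_of_ne_zero (fun e => by
    have := b.isLt; omega)
  let b' : Fin (m' + 1) := Fin.cast hm' b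
  let f : Fin m' → Fin (Nat.find hex) := fun j => Fin.cast hm'.symm (b'.succAbove j)
  refine Nat.find_min hex (show m' < Nat.find hex by omega) ⟨fun j => x (f j), fun j => g (f j),
    fun j => hx _, eq_top_iff.2 ?_⟩
  rw [← hspan, Submodule.span_le]
  have hne : ∀ j, j ≠ b → x j ∈ Submodule.span R (Set.range fun j => x (f j)) := by
    intro j hj
    obtain ⟨l, hl⟩ := Fin.exists_succAbove_eq (x := Fin.cast hm' j) (y := b')
      (fun e => hj (Fin.cast_injective hm' e))
    exact Submodule.subset_span ⟨l, by simp [f, hl]⟩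
  rintro _ ⟨j, rfl⟩
  by_cases hj : j = b
  · subst hj
    rw [Fintype.linearCombination_apply, sum_ite_gens x w j, add_eq_zero_iff_eq_neg] at hpw
    have hxb : x j = c • -(∑ l ∈ Finset.univ.erase j, w l • x l) := by
      rw [← hpw, ← mul_smul, hc, one_smul]
    rw [hxb]
    exact Submodule.smul_mem _ _ (neg_mem (sum_mem fun l hl =>
      Submodule.smul_mem _ _ (hne l (Finset.mem_erase.1 hl).1)))
  · exact hne j hj

variable (𝒜) in
/-- A stage in the construction of a resolution. -/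
structure Stage where
  /-- rank -/
  m : ℕ
  /-- degrees -/
  g : Fin m → ℤ
  /-- kernel -/
  K : Submodule R (Fin m → R)
  hom : letI := freeDecomp 𝒜 g; K.IsHomogeneous (freeGr 𝒜 g)
  coords : ∀ v ∈ K, ∀ b, v b ∈ I

include hgood in
theorem exists_step (s : Stage 𝒜 I) : ∃ (t : Stage 𝒜 I) (D : Matrix (Fin s.m) (Fin t.m) R),
    (∀ p q, D p q ∈ 𝒜 (t.g q - s.g p)) ∧ LinearMap.range (Matrix.mulVecLin D) = s.K ∧
      LinearMap.ker (Matrix.mulVecLin D) = t.K ∧ ∀ p q, D p q ∈ I := by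
  letI := freeDecomp 𝒜 s.g
  letI := subDecomp (freeGr 𝒜 s.g) s.hom
  haveI : Module.Finite R s.K := Module.Finite.iff_fg.2 (IsNoetherian.noetherian _)
  obtain ⟨m, g, x, hx, hspan, hco⟩ := exists_min_gens (ℳ := subGr (freeGr 𝒜 s.g) s.K) I hgood
  letI := freeDecomp 𝒜 g
  have hp : GrLC.IsGrHom (freeGr 𝒜 g) (subGr (freeGr 𝒜 s.g) s.K) (Fintype.linearCombination R x) :=
    fun h w hw => by
      rw [Fintype.linearCombination_apply]
      refine sum_mem fun j _ => ?_
      have := smul_mem (ℳ := subGr (freeGr 𝒜 s.g) s.K) (mem_freeGr.1 hw j) (hx j)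
      rwa [sub_add_cancel] at this
  have hD : Matrix.mulVecLin (Matrix.of fun p q => (x q : Fin s.m → R) p) =
      s.K.subtype ∘ₗ Fintype.linearCombination R x := by
    refine LinearMap.ext fun v => funext fun p => ?_
    rw [Matrix.mulVecLin_apply, LinearMap.comp_apply, Fintype.linearCombination_apply]
    simp [Matrix.mulVec, dotProduct, mul_comm]
  refine ⟨⟨m, g, LinearMap.ker (Fintype.linearCombination R x), isHomogeneous_ker hp,
    fun v hv => hco v hv⟩, Matrix.of fun p q => (x q : Fin s.m → R) p, fun p q => mem_freeGr.1 (hx q) p,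
    ?_, ?_, fun p q => s.coords _ (x q).2 p⟩
  · rw [hD, LinearMap.range_comp, Fintype.range_linearCombination, hspan, Submodule.map_subtype_top]
  · rw [hD, LinearMap.ker_comp, Submodule.ker_subtype]
    rfl

include hgood in
/-- Existence of minimal free resolutions. -/
theorem exists_minimal_res [Module.Finite R M] : ∃ F : GrSyz.FreeRes 𝒜 ℳ, F.IsMinimal I := by
  obtain ⟨m, g, x, hx, hspan, hco⟩ := exists_min_gens (ℳ := ℳ) I hgood
  letI := freeDecomp 𝒜 g
  have hp : GrLC.IsGrHom (freeGr 𝒜 g) ℳ (Fintype.linearCombination R x) := fun h w hw => by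
    rw [Fintype.linearCombination_apply]
    refine sum_mem fun j _ => ?_
    have := smul_mem (ℳ := ℳ) (mem_freeGr.1 hw j) (hx j)
    rwa [sub_add_cancel] at this
  let s0 : Stage 𝒜 I := ⟨m, g, LinearMap.ker (Fintype.linearCombination R x), isHomogeneous_ker hp,
    fun v hv => hco v hv⟩
  choose nxt D hdeg hrange hker hI using exists_step I hgood
  let st : ℕ → Stage 𝒜 I := fun n => Nat.rec s0 (fun _ s => nxt s) n
  exact ⟨{ rk := fun i => (st i).m
           deg := fun i => (st i).g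
           d := fun i => D (st i)
           aug := x
           d_mem := fun i => hdeg (st i)
           aug_mem := hx
           aug_surjective := LinearMap.range_eq_top.1 (by rw [Fintype.range_linearCombination, hspan])
           exact_zero := (hrange s0).symm
           exact_succ := fun i => (hker (st i)).trans (hrange (st (i + 1))).symm },
    fun i p q => hI (st i) p q⟩

end existence

end Groth.Agent.GrLib
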