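import Groth.Agent.GrLib.Piece

/-!
Non-negatively graded rings: resolutions of modules bounded above are bounded above.
-/

set_option autoImplicit false
set_option linter.unusedSectionVars false
set_option linter.unusedVariables false
set_option linter.style.haveILetI false

universe u

open DirectSum

namespace Groth.Agent.GrLib

variable {R : Type u} [CommRing R] {σ : Type u} [SetLike σ R] [AddSubgroupClass σ R]
  {𝒜 : ℤ → σ} [GradedRing 𝒜]
variable {M : Type u} [AddCommGroup M] [Module R M] {τ : Type u} [SetLike τ M] [AddSubgroupClass τ M]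
  {ℳ : ℤ → τ} [Decomposition ℳ] [SetLike.GradedSMul 𝒜 ℳ]

variable (hpos : ∀ n : ℤ, n < 0 → ∀ x ∈ 𝒜 n, x = 0) (r : ℤ)

variable (𝒜) in
/-- The index set of characters in degrees at most `r`. -/
abbrev BIdx (M : Type u) [AddCommGroup M] : Type u := { l : ℤ × (M →+ AddCircle (1 : ℚ)) // l.1 ≤ r }

include hpos in
theorem cof_eq_zero_of_lt {Λ : Type u} (deg : Λ → ℤ) (hdeg : ∀ l, deg l ≤ r) {n : ℤ} (hn : r < n)
    (f : (cof 𝒜 deg).carrier) (hf : f ∈ (cof 𝒜 deg).gr n) : f = 0 := by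
  refine Subtype.ext (funext fun l => addHom_ext 𝒜 fun j s hs => ?_)
  show f.1 l s = 0
  by_cases hj : j = deg l - n
  · rw [hpos j (by have := hdeg l; omega) s hs, map_zero]
  · exact hf l j hj s hs

theorem toCofL_injective_of_bdd (hM : ∀ n, r < n → ∀ x ∈ ℳ n, x = 0) :
    Function.Injective (toCofL 𝒜 (ℳ := ℳ) (deg := fun l : BIdx r M => l.1.1) fun l => l.1.2) := by
  refine (injective_iff_map_eq_zero _).2 fun m hm => eq_zero_of_proj ℳ fun g => ?_
  by_cases hg : r < g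
  · exact hM g hg _ (proj_mem ℳ g m)
  refine CharacterModule.eq_zero_of_character_apply fun c => ?_
  have := DFunLike.congr_fun (congrFun (congrArg Subtype.val hm) ⟨(g, c), not_lt.1 hg⟩) (1 : R)
  rw [← one_smul R m]
  exact this

/-- A step of a bounded resolution. -/
def BStep (𝒜 : ℤ → σ) [GradedRing 𝒜] (r : ℤ) : Type (u + 1) :=
  { S : Step 𝒜 // ∀ n, r < n → ∀ x ∈ S.X.gr n, x = 0 }

/-- The next bounded step. -/
noncomputable def BStep.next (hpos : ∀ n : ℤ, n < 0 → ∀ x ∈ 𝒜 n, x = 0) (S : BStep 𝒜 r) :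
    BStep 𝒜 r :=
  letI := qDecomp S.1.X.gr S.1.hom
  ⟨{ X := cof 𝒜 fun l : BIdx r (S.1.X.carrier ⧸ S.1.K) => l.1.1
     K := LinearMap.range
       ((toCofL 𝒜 (ℳ := qGr S.1.X.gr S.1.K) (deg := fun l : BIdx r _ => l.1.1) fun l => l.1.2) ∘ₗ
        S.1.K.mkQ)
     hom := isHomogeneous_range (ℳ := S.1.X.gr) (fun k x hx =>
       toCofL_grHom (ℳ := qGr S.1.X.gr S.1.K) (deg := fun l : BIdx r _ => l.1.1) _ k _ (mk_mem_qGr hx))
     inj := isStarInj_cof 𝒜 _ },
   fun n hn x hx => cof_eq_zero_of_lt hpos r _ (fun l => l.2) hn x hx⟩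

include hpos in
theorem exists_bounded_res (hM : ∀ n, r < n → ∀ x ∈ ℳ n, x = 0) :
    ∃ E : GrLC.StarInjRes 𝒜 ℳ, ∀ i n, r < n → ∀ x ∈ (E.X i).gr n, x = 0 := by
  let S₀ : BStep 𝒜 r :=
    ⟨{ X := cof 𝒜 fun l : BIdx r M => l.1.1
       K := LinearMap.range (toCofL 𝒜 (ℳ := ℳ) (deg := fun l : BIdx r M => l.1.1) fun l => l.1.2)
       hom := isHomogeneous_range (toCofL_grHom _)
       inj := isStarInj_cof 𝒜 _ },
     fun n hn x hx => cof_eq_zero_of_lt hpos r _ (fun l => l.2) hn x hx⟩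
  let S : ℕ → BStep 𝒜 r := fun i => Nat.rec (motive := fun _ => BStep 𝒜 r) S₀ (fun _ T => T.next r hpos) i
  let d : ∀ i, (S i).1.X.carrier →ₗ[R] (S (i + 1)).1.X.carrier := fun i =>
    letI := qDecomp (S i).1.X.gr (S i).1.hom
    (toCofL 𝒜 (ℳ := qGr (S i).1.X.gr (S i).1.K) (deg := fun l : BIdx r _ => l.1.1) fun l => l.1.2) ∘ₗ
      (S i).1.K.mkQ
  have hker : ∀ i, LinearMap.ker (d i) = (S i).1.K := fun i => by
    let := qDecomp (S i).1.X.gr (S i).1.hom
    ext x
    refine (map_eq_zero_iff _ (toCofL_injective_of_bdd (ℳ := qGr (S i).1.X.gr (S i).1.K) r ?_)).trans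
      (Submodule.Quotient.mk_eq_zero _)
    rintro n hn _ ⟨y, hy, rfl⟩
    rw [(S i).2 n hn y hy, map_zero]
  refine ⟨{ X := fun i => (S i).1.X
            d := d
            ε := toCofL 𝒜 (ℳ := ℳ) (deg := fun l : BIdx r M => l.1.1) fun l => l.1.2
            d_grHom := fun i k x hx => ?_
            ε_grHom := toCofL_grHom _
            ε_injective := toCofL_injective_of_bdd r hM
            exact_zero := hker 0
            exact_succ := fun i => hker (i + 1)
            starInj := fun i => (S i).1.inj }, fun i => (S i).2⟩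
  let := qDecomp (S i).1.X.gr (S i).1.hom
  exact toCofL_grHom (ℳ := qGr (S i).1.X.gr (S i).1.K) (deg := fun l : BIdx r _ => l.1.1) _ k _
    (mk_mem_qGr hx)

include hpos in
/-- Local cohomology of a module bounded above is bounded above by the same bound. -/
theorem Hgr_eq_zero_of_bdd (hM : ∀ n, r < n → ∀ x ∈ ℳ n, x = 0) (E : GrLC.StarInjRes 𝒜 ℳ)
    (a : HomogeneousIdeal 𝒜) (i : ℕ) (n : ℤ) (hn : r < n) : ∀ x ∈ E.Hgr a i n, x = 0 := by
  obtain ⟨E', hE'⟩ := exists_bounded_res hpos r hM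
  intro x hx
  obtain ⟨z, hz, hzx⟩ := compEquiv_mem a E' i hx
  have h0 : z = 0 := Subtype.ext (hE' i n hn _ hz)
  rw [h0, map_zero, eq_comm, LinearEquiv.map_eq_zero_iff] at hzx
  exact hzx

end Groth.Agent.GrLib
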