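import Groth.Agent.GrLib.RegPoly
import Groth.Agent.GrLib.RegOps

/-!
Operations on regularity over a polynomial ring.
-/

set_option autoImplicit false
set_option linter.unusedSectionVars false
set_option linter.unusedVariables false
set_option linter.style.haveILetI false

universe u

open DirectSum MvPolynomial

namespace Groth.Agent.GrLib

variable {k : Type u} [Field k] {m : ℕ}
variable {M : Type u} [AddCommGroup M] [Module k M] [Module (MvPolynomial (Fin m) k) M]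
  [Module.Finite (MvPolynomial (Fin m) k) M]
  {ℳ : ℤ → Submodule k M} [Decomposition ℳ] [SetLike.GradedSMul (GrSyz.stdGr k (Fin m)) ℳ]

theorem isRegLE_iff_isVanLE (d : ℤ) :
    GrSyz.IsRegLE (GrSyz.stdGr k (Fin m)) ℳ (GrSyz.irrel (GrSyz.stdGr k (Fin m))).toIdeal d ↔
      IsVanLE ℳ (GrSyz.irrel (GrSyz.stdGr k (Fin m))) d :=
  (isRegLE_iff (starRes _ ℳ) d).trans (isVanLE_iff _ _ d).symm

theorem reg_le_iff_isVanLE (d : ℤ) :
    GrSyz.reg (GrSyz.stdGr k (Fin m)) ℳ (GrSyz.irrel (GrSyz.stdGr k (Fin m))).toIdeal ≤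
      ((d : WithTop ℤ) : WithBot (WithTop ℤ)) ↔ IsVanLE ℳ (GrSyz.irrel (GrSyz.stdGr k (Fin m))) d :=
  (reg_le_iff (starRes _ ℳ) d).trans (isVanLE_iff _ _ d).symm

theorem isVanLE_finiteLength_iff (hM : IsFiniteLength (MvPolynomial (Fin m) k) M) (d : ℤ) :
    IsVanLE ℳ (GrSyz.irrel (GrSyz.stdGr k (Fin m))) d ↔
      GrLC.endDeg (fun n => (ℳ n).toAddSubgroup) ≤ ((d : WithTop ℤ) : WithBot (WithTop ℤ)) := by
  haveI := (isFiniteLength_iff_isNoetherian_isArtinian.1 hM).2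
  obtain ⟨U, hU⟩ := exists_bdd_of_isArtinian (ℳ := ℳ) (stdGr_neg k m)
  rw [isVanLE_of_torsion_iff _ (isTorsion_of_bdd _ (stdGr_neg k m) (irrel_eq_deg_one k m) U hU),
    endDeg_le_int]
  rfl

end Groth.Agent.GrLib
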