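import Groth.Agent.GrLib.Basic
import Groth.Agent.GrLib.Piece

/-!
*local rings with non-negative grading: the *maximal ideal contains all positive degree elements.
-/

set_option autoImplicit false
set_option linter.unusedSectionVars false

universe u

open DirectSum

namespace Groth.Agent.GrLib

variable {R : Type u} [CommRing R] {σ : Type u} [SetLike σ R] [AddSubgroupClass σ R]
  {𝒜 : ℤ → σ} [GradedRing 𝒜]

theorem starLocal_irrelevant_le (hpos : ∀ n : ℤ, n < 0 → ∀ x ∈ 𝒜 n, x = 0) {m : HomogeneousIdeal 𝒜}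
    (hm : IsCoatom m) : Ideal.span (⋃ n ∈ Set.Ioi (0 : ℤ), (𝒜 n : Set R)) ≤ m.toIdeal := by
  rw [Ideal.span_le]
  intro x hx
  obtain ⟨d, hd, hxd⟩ := Set.mem_iUnion₂.1 hx
  by_contra hxm
  have hJ : (m.toIdeal ⊔ Ideal.span {x}).IsHomogeneous 𝒜 :=
    Ideal.IsHomogeneous.sup m.isHomogeneous
      (Ideal.homogeneous_span 𝒜 _ (fun y hy => ⟨d, (Set.mem_singleton_iff.1 hy) ▸ hxd⟩))
  have hlt : m < ⟨_, hJ⟩ := by
    refine lt_of_le_of_ne (show m.toIdeal ≤ m.toIdeal ⊔ Ideal.span {x} from le_sup_left) fun h => hxm ?_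
    have e : m.toIdeal = m.toIdeal ⊔ Ideal.span {x} := congrArg HomogeneousIdeal.toIdeal h
    rw [e]
    exact Ideal.mem_sup_right (Ideal.mem_span_singleton_self x)
  have htop := congrArg HomogeneousIdeal.toIdeal (hm.2 _ hlt)
  have h1 : (1 : R) ∈ m.toIdeal ⊔ Ideal.span {x} := by
    rw [show m.toIdeal ⊔ Ideal.span {x} = ⊤ from htop]
    trivial
  obtain ⟨y, hy, z, hz, hyz⟩ := Submodule.mem_sup.1 h1
  obtain ⟨c, rfl⟩ := Ideal.mem_span_singleton'.1 hz
  have h0 : proj 𝒜 0 (c * x) = 0 := by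
    rw [mul_comm, ← smul_eq_mul, proj_smul' (ℳ := 𝒜) hxd,
      hpos _ (by have : 0 < d := hd; omega) _ (proj_mem 𝒜 _ c), smul_zero]
  have h2 := congrArg (proj 𝒜 0) hyz
  rw [map_add, h0, add_zero, proj_of_mem (SetLike.one_mem_graded 𝒜)] at h2
  have : (1 : R) ∈ m.toIdeal := h2 ▸ m.isHomogeneous 0 hy
  refine hm.1 (HomogeneousIdeal.ext ?_)
  exact (Ideal.eq_top_iff_one _).2 this

end Groth.Agent.GrLib
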